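import Cfsg.Agent.Lib.OddOrder.Interface.PF8

/-!
# Peterfalvi 14: the sets on which probes and sides live
-/

set_option autoImplicit false

namespace Cfsg.Agent.Lib.OddOrder.PF14

universe u

variable {G : Type u} [Group G]

/-- The non-identity elements of a subgroup. -/
def hSet (A : Subgroup G) : Set G := (A : Set G) \ {1}

/-- The union of the conjugates of a set. -/
def conjSet (X : Set G) : Set G := {g | ∃ y : G, ∃ x ∈ X, g = y * x * y⁻¹}

/-- The set of a side with kernel `P`. -/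
def sideZone (P W₁ W₂ : Subgroup G) : Set G :=
  conjSet (hSet P) ∪ conjSet (Interface.PF8.cyclicSet G W₁ W₂)

/-- `A` is a TI subgroup with normalizer `M`, in the form used for inducing. -/
def TIKernel (A M : Subgroup G) : Prop :=
  ∀ g : G, ∀ x ∈ A, x ≠ 1 → g * x * g⁻¹ ∈ A → g ∈ M

theorem mem_hSet {A : Subgroup G} {x : G} : x ∈ hSet A ↔ x ∈ A ∧ x ≠ 1 := by
  simp [hSet]

theorem mem_conjSet_self {X : Set G} {x : G} (hx : x ∈ X) : x ∈ conjSet X :=
  ⟨1, x, hx, by group⟩

theorem conj_mem_conjSet {X : Set G} {x : G} (hx : x ∈ conjSet X) (t : G) :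
    t * x * t⁻¹ ∈ conjSet X := by
  obtain ⟨y, z, hz, rfl⟩ := hx
  exact ⟨t * y, z, hz, by group⟩

theorem one_notMem_conjSet {A : Subgroup G} : (1 : G) ∉ conjSet (hSet A) := by
  rintro ⟨y, x, hx, h⟩
  exact (mem_hSet.1 hx).2 (conj_eq_one_iff.1 h.symm)

end Cfsg.Agent.Lib.OddOrder.PF14
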