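import Cfsg.Agent.Lib.OddOrder.PF14.TI
import Cfsg.Agent.Lib.CyclicTI.Basic

/-!
# Peterfalvi 14: counting the non-identity elements

`G - 1` is covered by the conjugates of `Ŵ` and the sets of one maximal subgroup in each class, so
`Σ 1 / e_M` over the classes of type I other than that of `L` is bounded from below.
-/

set_option autoImplicit false

namespace Cfsg.Agent.Lib.OddOrder.PF14

open Interface.PF8 (cyclicSet)

universe u

variable {G : Type u} [Group G] [Fintype G] {S T W₁ W₂ U V : Subgroup G}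

/-- A commutative subgroup bounds the number of conjugates of a subset. -/
theorem ncard_conjSet_le {A : Subgroup G} (hA : ∀ a ∈ A, ∀ b ∈ A, a * b = b * a) {X : Set G}
    (hX : X ⊆ (A : Set G)) : (conjSet X).ncard ≤ A.index * X.ncard := by
  classical
  let f : (G ⧸ A) × X → G := fun z => z.1.out * z.2 * (z.1.out)⁻¹
  have hsub : conjSet X ⊆ Set.range f := by
    rintro _ ⟨y, x, hx, rfl⟩
    refine ⟨((y : G ⧸ A), ⟨x, hx⟩), ?_⟩
    obtain ⟨a, ha⟩ := QuotientGroup.mk_out_eq_mul A y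
    have hc : (a : G) * x * (a : G)⁻¹ = x := by
      rw [hA a a.2 x (hX hx), mul_inv_cancel_right]
    show (y : G ⧸ A).out * x * ((y : G ⧸ A).out)⁻¹ = _
    rw [ha]
    calc y * a * x * (y * a)⁻¹ = y * (a * x * (a : G)⁻¹) * y⁻¹ := by group
      _ = _ := by rw [hc]
  calc (conjSet X).ncard ≤ (Set.range f).ncard := Set.ncard_le_ncard hsub (Set.toFinite _)
    _ = Nat.card (Set.range f) := (Nat.card_coe_set_eq _).symm
    _ ≤ Nat.card ((G ⧸ A) × X) := Finite.card_range_le f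
    _ = _ := by rw [Nat.card_prod, Subgroup.index, Nat.card_coe_set_eq]

/-- `Ŵ` has `|W| + 1 - |W₁| - |W₂|` elements. -/
theorem ncard_cyclicSet (hW : Cfsg.IsSelfNormalizingCyclic W₁ W₂) :
    (cyclicSet G W₁ W₂).ncard + Nat.card W₁ + Nat.card W₂ = Nat.card ↥(W₁ ⊔ W₂) + 1 := by
  have hd : Disjoint (W₁ : Set G) ((W₂ : Set G) \ {1}) := by
    rw [Set.disjoint_left]
    exact fun a ha hb => hb.2 (CyclicTI.eq_one_of_mem hW ha hb.1)
  have hset : cyclicSet G W₁ W₂ =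
      ((W₁ ⊔ W₂ : Subgroup G) : Set G) \ ((W₁ : Set G) ∪ ((W₂ : Set G) \ {1})) := by
    ext a
    simp only [cyclicSet, Set.mem_sdiff, Set.mem_union, SetLike.mem_coe, Set.mem_singleton_iff]
    show a ∈ W₁ ⊔ W₂ ∧ a ∉ W₁ ∧ a ∉ W₂ ↔ _
    have : a = 1 → a ∈ W₁ := fun e => e ▸ one_mem _
    tauto
  have hsub : ((W₁ : Set G) ∪ ((W₂ : Set G) \ {1})) ⊆ ((W₁ ⊔ W₂ : Subgroup G) : Set G) :=
    Set.union_subset (SetLike.coe_subset_coe.2 le_sup_left)
      (Set.sdiff_subset.trans (SetLike.coe_subset_coe.2 le_sup_right))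
  have h1 := Set.ncard_sdiff_add_ncard_of_subset hsub (Set.toFinite _)
  rw [Set.ncard_union_eq hd (Set.toFinite _) (Set.toFinite _)] at h1
  have h2 := Set.ncard_sdiff_singleton_add_one (one_mem W₂) (Set.toFinite (W₂ : Set G))
  rw [hset]
  simp only [← Nat.card_coe_set_eq] at h1 h2 ⊢
  simp only [SetLike.coe_sort_coe] at h1 h2 ⊢
  omega

theorem card_W (hW : Cfsg.IsSelfNormalizingCyclic W₁ W₂) :
    Nat.card ↥(W₁ ⊔ W₂) = Nat.card W₁ * Nat.card W₂ := by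
  refine (Cfsg.Agent.Lib.OddOrder.Basic.isComplIn_card (isComplIn_of_sup ?_ hW.2.2.1 rfl)).symm
  intro b hb
  rw [Subgroup.mem_normalizer_iff]
  intro a
  have hc : ∀ x ∈ W₁, b * x * b⁻¹ = x := fun x hx => by
    rw [← hW.2.2.2.1 x hx b hb, mul_inv_cancel_right]
  refine ⟨fun ha => by rwa [hc a ha], fun ha => ?_⟩
  have := hc _ ha
  rw [mul_left_inj, mul_right_inj] at this
  exact this ▸ ha

namespace Ctx

variable (C : Ctx S T W₁ W₂ U V)
include C

theorem conjSet_im {M : Subgroup G} (g : G) :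
    conjSet (Cfsg.typeA1 (M.map (MulAut.conj g).toMonoidHom)) = conjSet (Cfsg.typeA1 M) := by
  have hmem : ∀ x : G, g * x * g⁻¹ ∈ Cfsg.typeA1 (M.map (MulAut.conj g).toMonoidHom) ↔
      x ∈ Cfsg.typeA1 M := fun x => PF8.Conj.mem_typeA1_im (φ := MulAut.conj g)
  ext a
  constructor
  · rintro ⟨y, x, hx, rfl⟩
    have hx' : g⁻¹ * x * g ∈ Cfsg.typeA1 M := (hmem _).1 (by
      rwa [show g * (g⁻¹ * x * g) * g⁻¹ = x by group])
    exact ⟨y * g, _, hx', by group⟩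
  · rintro ⟨y, x, hx, rfl⟩
    exact ⟨y * g⁻¹, _, (hmem x).2 hx, by group⟩

/-- The number of elements in the set of a maximal subgroup, divided by `|G|`. -/
theorem ncard_zone {M : Subgroup G} (hM : IsCoatom M) :
    ((conjSet (Cfsg.typeA1 M)).ncard : ℝ) / Nat.card G =
      ((Nat.card (Cfsg.typeCore M) : ℝ) - 1) / Nat.card M := by
  rw [← C.tildeOf_eq hM, C.inputs.s18.count M hM]
  have h1 : (1 : ℕ) ≤ Nat.card (Cfsg.typeCore M) := Nat.card_pos
  have hM0 : (Nat.card M : ℝ) ≠ 0 := Nat.cast_ne_zero.2 Nat.card_pos.ne'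
  have hG0 : (Nat.card G : ℝ) ≠ 0 := Nat.cast_ne_zero.2 Nat.card_pos.ne'
  rw [div_eq_div_iff hG0 hM0]
  have h := congrArg (Nat.cast : ℕ → ℝ) M.card_mul_index
  push_cast [Nat.cast_sub h1] at h ⊢
  linear_combination ((Nat.card (Cfsg.typeCore M) : ℝ) - 1) * h

theorem ncard_W :
    ((conjSet (cyclicSet G W₁ W₂)).ncard : ℝ) / Nat.card G ≤
      1 - 1 / (Nat.card W₁ : ℝ) - 1 / Nat.card W₂ + 1 / (Nat.card W₁ * Nat.card W₂) := by
  have hW := C.pair.dataS.selfNormalizing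
  have hle := ncard_conjSet_le (A := W₁ ⊔ W₂)
    (fun a ha b hb => congrArg Subtype.val (CyclicTI.comm hW ⟨a, ha⟩ ⟨b, hb⟩))
    (X := cyclicSet G W₁ W₂) fun a ha => ha.1
  have hc := ncard_cyclicSet hW
  have hcard : Nat.card ↥(W₁ ⊔ W₂) = Nat.card W₁ * Nat.card W₂ := card_W hW
  rw [hcard] at hc
  have hg := congrArg (Nat.cast : ℕ → ℝ) (W₁ ⊔ W₂).card_mul_index
  rw [hcard] at hg
  have hc' := congrArg (Nat.cast : ℕ → ℝ) hc
  push_cast at hg hc'
  have hle' : ((conjSet (cyclicSet G W₁ W₂)).ncard : ℝ) ≤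
      ((W₁ ⊔ W₂).index : ℝ) * ((cyclicSet G W₁ W₂).ncard : ℝ) := by exact_mod_cast hle
  have hG0 : (0 : ℝ) < Nat.card G := Nat.cast_pos.2 Nat.card_pos
  have ha : (0 : ℝ) < Nat.card W₁ := Nat.cast_pos.2 Nat.card_pos
  have hb : (0 : ℝ) < Nat.card W₂ := Nat.cast_pos.2 Nat.card_pos
  rw [div_le_iff₀ hG0]
  refine hle'.trans (le_of_eq ?_)
  field_simp
  linear_combination ((W₁ ⊔ W₂).index : ℝ) * (Nat.card W₁ : ℝ) * Nat.card W₂ * hc' +
    ((Nat.card W₁ : ℝ) * Nat.card W₂ - Nat.card W₁ - Nat.card W₂ + 1) * hg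

end Ctx

end Cfsg.Agent.Lib.OddOrder.PF14
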