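import Cfsg.Agent.Lib.OddOrder.PF14.Main
import Cfsg.Agent.Lib.OddOrder.PF13.Final
import Cfsg.Agent.Lib.OddOrder.Assembly.Chain

/-!
# The final configuration and the contradiction, from the open interfaces of the chain

`no_minSimpleOdd_of_open` is the whole argument of Peterfalvi §§8-14 with BG §16 and Appendix C:
what is left is to prove `Assembly.Open`.
-/

set_option autoImplicit false

namespace Cfsg.Agent.Lib.OddOrder.PF14

universe u

variable {G : Type u} [Group G] [Fintype G]

/-- §14's inputs from the open interfaces. -/
theorem inputs_of (hG : Cfsg.IsMinSimpleOddOrder G) (o : Assembly.Open G) : Inputs G :=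
  have R := Assembly.ready hG o
  have J : PF13.Inputs G := ⟨R.bg16, R.partner, o.step_10_8, o.typeV, PF11.Main.step_11 (G := G)⟩
  { minSimple := hG
    bg16 := R.bg16
    s18 := R.step_8_18
    frobenius := R.step_12_7
    coherent := R.step_12_6
    pair := fun _ _ _ _ _ _ h => J.first hG h.maxS h.maxT h.dataS h.dataT h.typeS h.typeT
    cent := fun _ _ _ _ _ _ h =>
      J.faithful hG h.maxS h.maxT h.dataS h.dataT h.meet h.typeII h.typeS h.typeT
    core := fun S T W₁ W₂ U V h =>
      J.step_13_12 hG hG S T W₁ W₂ U V h.maxS h.maxT h.dataS h.dataT h.meet h.typeII h.typeS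
        h.typeT
    normU := fun _ _ _ _ _ _ h hII _ hL hN =>
      J.support hG h.maxS h.maxT h.dataS h.dataT h.meet h.typeII h.typeS h.typeT hII hL hN }

/-- (14.11) from the open interfaces. -/
theorem finalConfig_of_open (hG : Cfsg.IsMinSimpleOddOrder G) (o : Assembly.Open G) :
    Final.FinalConfig G :=
  finalConfig_of (inputs_of hG o)

/-- The open interfaces exclude a minimal simple group of odd order. -/
theorem no_minSimpleOdd_of_open (hG : Cfsg.IsMinSimpleOddOrder G) (o : Assembly.Open G) : False :=
  Final.no_minSimpleOdd_of (Assembly.ready hG o).structureStmt (Assembly.ready hG o).step_12_17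
    (finalConfig_of_open hG o)

end Cfsg.Agent.Lib.OddOrder.PF14
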