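import Mathlib

/-!
# Peterfalvi 14: the arithmetic of `(p^q - 1)/(p - 1)`

The inequalities of (13.12) leave for `u` only the maximal value, a `q`-th of it, or one exceptional
value, and force `v` to be maximal.
-/

set_option autoImplicit false
set_option linter.style.haveILetI false

namespace Cfsg.Agent.Lib.OddOrder.PF14.Arith

/-- `1 + p + ⋯ + p^(q-1)`. -/
def geo (p q : ℕ) : ℕ := ∑ i ∈ Finset.range q, p ^ i

variable {p q : ℕ}

theorem geo_mul (hp : 1 ≤ p) : geo p q * (p - 1) = p ^ q - 1 := by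
  obtain ⟨m, rfl⟩ : ∃ m, p = m + 1 := ⟨p - 1, by omega⟩
  rw [geo, Nat.add_sub_cancel, ← Nat.add_right_cancel_iff (n := 1),
    Nat.sub_add_cancel (Nat.one_le_pow _ _ (by omega))]
  exact geom_sum_mul_add m q

theorem geo_eq_div (hp : 2 ≤ p) : (p ^ q - 1) / (p - 1) = geo p q := by
  rw [← geo_mul (by omega : 1 ≤ p), Nat.mul_div_cancel _ (by omega)]

theorem eq_geo_iff (hp : 2 ≤ p) {u : ℕ} : u * (p - 1) = p ^ q - 1 ↔ u = geo p q := by
  rw [← geo_mul (by omega : 1 ≤ p)]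
  exact ⟨Nat.eq_of_mul_eq_mul_right (by omega), fun h => by rw [h]⟩

theorem geo_succ (p q : ℕ) : geo p (q + 1) = 1 + p * geo p q := by
  rw [geo, Finset.sum_range_succ', geo, Finset.mul_sum, pow_zero, add_comm]
  simp [pow_succ']

theorem geo_pos (hq : 1 ≤ q) : 1 ≤ geo p q := by
  obtain ⟨q, rfl⟩ : ∃ m, q = m + 1 := ⟨q - 1, by omega⟩
  rw [geo_succ]; omega

theorem pow_lt_geo (hp : 1 ≤ p) (hq : 2 ≤ q) : p ^ (q - 1) + 1 ≤ geo p q := by
  obtain ⟨m, rfl⟩ : ∃ m, q = m + 1 := ⟨q - 1, by omega⟩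
  rw [Nat.add_sub_cancel, geo, Finset.sum_range_succ]
  have : 1 ≤ ∑ i ∈ Finset.range m, p ^ i :=
    le_trans (by simp) (Finset.single_le_sum (f := fun i => p ^ i) (fun _ _ => Nat.zero_le _)
      (Finset.mem_range.2 (show 0 < m by omega)))
  omega

theorem geo_odd (hp : Odd p) (hq : Odd q) : Odd (geo p q) := by
  rw [geo, Finset.odd_sum_iff_odd_card_odd, Finset.filter_true_of_mem (fun i _ => hp.pow),
    Finset.card_range]
  exact hq

/-- Prime divisors of `geo p q` other than `q` are `1 mod q`. -/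
theorem prime_dvd_geo (hp : 2 ≤ p) (hq : q.Prime) {r : ℕ} (hr : r.Prime) (hrq : r ≠ q)
    (hd : r ∣ geo p q) : r ≡ 1 [MOD q] := by
  haveI := Fact.mk hr
  haveI := Fact.mk hq
  have hgeo : ((geo p q : ℕ) : ZMod r) = 0 := (ZMod.natCast_eq_zero_iff _ _).2 hd
  have hpq : (p : ZMod r) ^ q = 1 := by
    have := congrArg (Nat.cast : ℕ → ZMod r)
      (Nat.sub_add_cancel (Nat.one_le_pow q p (by omega)))
    rw [← geo_mul (by omega : 1 ≤ p)] at this
    push_cast [hgeo] at this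
    rw [← this, zero_mul, zero_add]
  have hne : (p : ZMod r) ≠ 1 := fun h1 => by
    rw [geo, Nat.cast_sum] at hgeo
    simp only [Nat.cast_pow, h1, one_pow, Finset.sum_const, Finset.card_range, nsmul_eq_mul,
      mul_one] at hgeo
    exact hrq ((Nat.prime_dvd_prime_iff_eq hr hq).1 ((ZMod.natCast_eq_zero_iff _ _).1 hgeo))
  have hp0 : (p : ZMod r) ≠ 0 := fun h => by
    rw [h, zero_pow hq.ne_zero] at hpq
    exact zero_ne_one hpq
  have hord : orderOf (p : ZMod r) = q :=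
    orderOf_eq_prime hpq hne
  have := hord ▸ ZMod.orderOf_dvd_card_sub_one hp0
  exact ((Nat.modEq_iff_dvd' hr.one_le).2 this).symm

/-- Divisors of `geo p q` prime to `q` are `1 mod q`. -/
theorem dvd_geo_modEq (hp : 2 ≤ p) (hq : q.Prime) {d : ℕ} (hd : d ∣ geo p q) (hqd : ¬ q ∣ d) :
    d ≡ 1 [MOD q] := by
  induction d using Nat.recOnPrimePow with
  | zero => exact absurd (dvd_zero q) hqd
  | one => rfl
  | prime_pow_mul a r n hr hra hn ih =>
    have hr' : r ≠ q := fun e => hqd (e ▸ dvd_mul_of_dvd_left (dvd_pow_self r hn.ne') a)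
    have h1 := (prime_dvd_geo hp hq hr hr'
      ((dvd_mul_of_dvd_left (dvd_pow_self r hn.ne') a).trans hd)).pow n
    rw [one_pow] at h1
    have h2 := ih ((dvd_mul_left a _).trans hd) (fun h => hqd (h.trans (dvd_mul_left a _)))
    simpa using h1.mul h2

theorem dvd_q_geo_iff (hp : 2 ≤ p) (hq : q.Prime) : q ∣ geo p q ↔ q ∣ p - 1 := by
  haveI := Fact.mk hq
  have hfer : (p : ZMod q) ^ q = p := ZMod.pow_card _
  constructor
  · intro h
    rw [← ZMod.natCast_eq_zero_iff, Nat.cast_sub (by omega), Nat.cast_one, sub_eq_zero]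
    have h' : ((geo p q : ℕ) : ZMod q) = 0 := (ZMod.natCast_eq_zero_iff _ _).2 h
    have := congrArg (Nat.cast : ℕ → ZMod q)
      (Nat.sub_add_cancel (Nat.one_le_pow q p (by omega)))
    rw [← geo_mul (by omega : 1 ≤ p)] at this
    push_cast [h'] at this
    rw [← hfer, ← this, zero_mul, zero_add]
  · intro h
    have h1 : (p : ZMod q) = 1 := by
      rw [← ZMod.natCast_eq_zero_iff, Nat.cast_sub (by omega), Nat.cast_one, sub_eq_zero] at h
      exact h
    rw [← ZMod.natCast_eq_zero_iff, geo, Nat.cast_sum]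
    simp [h1]

/-- `geo p q ≡ q` modulo `q²` when `q ∣ p - 1`. -/
theorem geo_modEq_sq (hp : 2 ≤ p) (hq : q.Prime) (hodd : q ≠ 2) (h : q ∣ p - 1) :
    geo p q ≡ q [MOD q ^ 2] := by
  obtain ⟨t, ht⟩ := h
  have hp' : p = 1 + q * t := by omega
  have hpow : ∀ i, ((1 + q * t) ^ i : ℕ) ≡ 1 + i * (q * t) [MOD q ^ 2] := by
    intro i
    induction i with
    | zero => simp [Nat.ModEq.refl]
    | succ i ih =>
      refine (pow_succ (1 + q * t) i ▸ ih.mul_right (1 + q * t)).trans ?_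
      refine ((Nat.modEq_iff_dvd' (show 1 + (i + 1) * (q * t) ≤ (1 + i * (q * t)) * (1 + q * t) from
        Nat.le.intro (k := q ^ 2 * (i * t ^ 2)) (by ring))).2 ⟨i * t ^ 2, ?_⟩).symm
      rw [show (1 + i * (q * t)) * (1 + q * t) = 1 + (i + 1) * (q * t) + q ^ 2 * (i * t ^ 2) by ring]
      omega
  have hsum : geo p q ≡ ∑ i ∈ Finset.range q, (1 + i * (q * t)) [MOD q ^ 2] := by
    rw [geo, hp']
    exact Nat.ModEq.sum fun i _ => hpow i
  obtain ⟨r, hr⟩ := hq.odd_of_ne_two hodd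
  have hS : ∑ i ∈ Finset.range q, i = q * r := by
    have := Finset.sum_range_id_mul_two q
    have h2 : q - 1 = 2 * r := by omega
    rw [h2] at this
    linarith
  rw [Finset.sum_add_distrib, Finset.sum_const, Finset.card_range, smul_eq_mul, mul_one,
    ← Finset.sum_mul, hS] at hsum
  refine hsum.trans ?_
  rw [show q * r * (q * t) = q ^ 2 * (r * t) by ring]
  exact Nat.modEq_iff_dvd'  (by omega) |>.2 ⟨r * t, by omega⟩ |>.symm

/-- The inequality of (13.12) when `v` is maximal, in the form used below. -/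
theorem bound_u (hp : 5 ≤ p) (hq : 3 ≤ q) {u v : ℕ} (hv : v = geo q p)
    (h : p ^ (q - 1) * (q - 2) * (v - 1) ≤ q * u * q ^ p) :
    80 * p ^ (q - 1) * (q - 2) ≤ 81 * q * (q - 1) * u := by
  obtain ⟨m, rfl⟩ : ∃ m, p = m + 1 := ⟨p - 1, by omega⟩
  have h81 : 81 ≤ q ^ m := le_trans (by norm_num)
    (le_trans (Nat.pow_le_pow_left hq 4) (Nat.pow_le_pow_right (by omega) (by omega : 4 ≤ m)))
  have e : (v - 1) * (q - 1) = q * (q ^ m - 1) := by
    rw [hv, geo_succ, Nat.add_sub_cancel_left, mul_assoc, geo_mul (by omega : 1 ≤ q)]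
  have h1 : 80 * q ^ (m + 1) ≤ 81 * ((v - 1) * (q - 1)) := by
    rw [e, pow_succ]
    have : 80 * q ^ m ≤ 81 * (q ^ m - 1) := by omega
    nlinarith
  have hpos : 0 < q ^ (m + 1) := pow_pos (by omega) _
  refine Nat.le_of_mul_le_mul_right ?_ hpos
  calc 80 * (m + 1) ^ (q - 1) * (q - 2) * q ^ (m + 1)
      = (m + 1) ^ (q - 1) * (q - 2) * (80 * q ^ (m + 1)) := by ring
    _ ≤ (m + 1) ^ (q - 1) * (q - 2) * (81 * ((v - 1) * (q - 1))) := Nat.mul_le_mul_left _ h1
    _ = 81 * (q - 1) * ((m + 1) ^ (q - 1) * (q - 2) * (v - 1)) := by ring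
    _ ≤ 81 * (q - 1) * (q * u * q ^ (m + 1)) := Nat.mul_le_mul_left _ h
    _ = _ := by ring

/-- `geo p q` is at most `5/4 p^(q-1)`. -/
theorem four_geo_le (hp : 5 ≤ p) (hq : 1 ≤ q) : 4 * geo p q ≤ 5 * p ^ (q - 1) := by
  obtain ⟨m, rfl⟩ : ∃ m, q = m + 1 := ⟨q - 1, by omega⟩
  have h := geo_mul (p := p) (q := m + 1) (by omega)
  rw [Nat.add_sub_cancel]
  obtain ⟨a, rfl⟩ : ∃ a, p = a + 1 := ⟨p - 1, by omega⟩
  rw [Nat.add_sub_cancel] at h
  have h2 : geo (a + 1) (m + 1) * a ≤ (a + 1) ^ m * (a + 1) := by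
    rw [h, pow_succ]; omega
  have hpos : 0 < (a + 1) ^ m := by positivity
  refine Nat.le_of_mul_le_mul_right (?_ : 4 * geo (a + 1) (m + 1) * a ≤ 5 * (a + 1) ^ m * a)
    (by omega)
  calc 4 * geo (a + 1) (m + 1) * a ≤ 4 * ((a + 1) ^ m * (a + 1)) := by
        rw [mul_assoc]; exact Nat.mul_le_mul_left _ h2
    _ ≤ _ := by nlinarith

/-- Galois case for `u`. -/
theorem galois_u (hp : p.Prime) (hq : q.Prime) (hq2 : q ≠ 2) (hlt : q < p) {u : ℕ}
    (hd : u ∣ geo p q) (hu : ¬ q ∣ u) (h : 80 * p ^ (q - 1) * (q - 2) ≤ 81 * q * (q - 1) * u) :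
    u = geo p q ∨ (q ∣ p - 1 ∧ u * q = geo p q) := by
  have hq3 : 3 ≤ q := by have := hq.two_le; omega
  have hp5 : 5 ≤ p := by
    by_contra hh
    obtain ⟨rfl, rfl⟩ : p = 4 ∧ q = 3 := by omega
    norm_num at hp
  obtain ⟨k, hk⟩ := hd
  have hk0 : k ≠ 0 := fun e => by
    have := geo_pos (p := p) (q := q) (by omega); rw [hk, e, mul_zero] at this; omega
  -- a large cofactor contradicts the inequality
  have big : ¬ (2 * q + 1) * u ≤ geo p q := by
    intro hb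
    have h4 := four_geo_le hp5 (by omega : 1 ≤ q)
    rcases Nat.lt_or_ge q 5 with hq5 | hq5
    · obtain rfl : q = 3 := by
        interval_cases q
        · rfl
        · norm_num at hq
      have hg : geo p 3 = 1 + p + p ^ 2 := by simp [geo, Finset.sum_range_succ]
      rw [hg] at hb hk
      norm_num at h
      have hp8 : p < 8 := by nlinarith
      interval_cases p
      · rcases (Nat.dvd_prime (by norm_num)).1 (⟨k, hk⟩ : u ∣ 31) with rfl | rfl <;> omega
      · norm_num at hp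
      · norm_num at hb hk
        have : u ≤ 8 := by omega
        interval_cases u <;> omega
    · have hpos : 0 < p ^ (q - 1) := by positivity
      have h5 : 4 * ((2 * q + 1) * u) ≤ 5 * p ^ (q - 1) := (Nat.mul_le_mul_left 4 hb).trans h4
      have : 4 * (2 * q + 1) * (80 * p ^ (q - 1) * (q - 2)) ≤
          81 * q * (q - 1) * (5 * p ^ (q - 1)) := by
        calc _ ≤ 4 * (2 * q + 1) * (81 * q * (q - 1) * u) := Nat.mul_le_mul_left _ h
          _ = 81 * q * (q - 1) * (4 * ((2 * q + 1) * u)) := by ring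
          _ ≤ _ := Nat.mul_le_mul_left _ h5
      have h6 : 320 * (2 * q + 1) * (q - 2) ≤ 405 * q * (q - 1) := by
        refine Nat.le_of_mul_le_mul_right ?_ hpos
        calc _ = 4 * (2 * q + 1) * (80 * p ^ (q - 1) * (q - 2)) := by ring
          _ ≤ _ := this
          _ = _ := by ring
      obtain ⟨r, rfl⟩ : ∃ r, q = r + 2 := ⟨q - 2, by omega⟩
      simp only [Nat.add_sub_cancel, show r + 2 - 1 = r + 1 by omega] at h6
      nlinarith
  have hkodd : Odd k := (Nat.odd_mul.1 (hk ▸ geo_odd (hp.odd_of_ne_two (by omega))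
    (hq.odd_of_ne_two hq2))).2
  -- a cofactor prime to `q` is `1` or large
  have small : ∀ d, d ∣ k → Odd d → ¬ q ∣ d → d = 1 := by
    intro d hdk hdo hqd
    by_contra hd1
    have hm := dvd_geo_modEq hp.two_le hq (hdk.trans (hk ▸ dvd_mul_left k u)) hqd
    have h1 : 1 ≤ d := hdo.pos
    obtain ⟨c, hc⟩ := (Nat.modEq_iff_dvd' h1).1 hm.symm
    have hc0 : c ≠ 0 := fun e => by rw [e] at hc; omega
    have hc1 : c ≠ 1 := by
      rintro rfl
      obtain ⟨a, ha⟩ := hdo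
      obtain ⟨b, hb⟩ := hq.odd_of_ne_two hq2
      omega
    have : 2 * q + 1 ≤ d := by
      have : q * 2 ≤ q * c := Nat.mul_le_mul_left q (by omega)
      omega
    refine big ?_
    calc (2 * q + 1) * u ≤ d * u := Nat.mul_le_mul_right u this
      _ ≤ k * u := Nat.mul_le_mul_right u (Nat.le_of_dvd (Nat.pos_of_ne_zero hk0) hdk)
      _ = geo p q := by rw [hk, mul_comm]
  by_cases hqk : q ∣ k
  · obtain ⟨d, rfl⟩ := hqk
    have hqp : q ∣ p - 1 := (dvd_q_geo_iff hp.two_le hq).1 (hk ▸ dvd_mul_of_dvd_right (dvd_mul_right q d) u)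
    have hqd : ¬ q ∣ d := by
      rintro ⟨d', rfl⟩
      have h1 : q ^ 2 ∣ geo p q := ⟨d' * u, by rw [hk]; ring⟩
      have h2 := (Nat.modEq_zero_iff_dvd.2 h1).symm.trans (geo_modEq_sq hp.two_le hq hq2 hqp)
      have := Nat.le_of_dvd hq.pos (Nat.modEq_zero_iff_dvd.1 h2.symm)
      nlinarith
    have := small d (dvd_mul_left d q) (Nat.odd_mul.1 hkodd).2 hqd
    exact Or.inr ⟨hqp, by rw [hk, this, mul_one]⟩
  · exact Or.inl (by rw [hk, small k dvd_rfl hkodd hqk, mul_one])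

/-- The non-Galois case for `u`. -/
theorem nonGalois_u (hq : q.Prime) (hq2 : q ≠ 2) (hp5 : 5 ≤ p) (hpo : Odd p) {u k : ℕ}
    (hk : 2 * k ∣ p - 1) (hd : u ∣ k ^ (q - 1))
    (h : 80 * p ^ (q - 1) * (q - 2) ≤ 81 * q * (q - 1) * u) :
    q = 3 ∧ 2 * k + 1 = p ∧ u = k ^ 2 := by
  have hq3 : 3 ≤ q := by have := hq.two_le; omega
  have hk1 : 1 ≤ k := Nat.pos_of_ne_zero fun e => by
    rw [e, mul_zero, zero_dvd_iff] at hk; omega
  have hkp : 2 * k ≤ p - 1 := Nat.le_of_dvd (by omega) hk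
  have hu : u ≤ k ^ (q - 1) := Nat.le_of_dvd (pow_pos hk1 _) hd
  rcases Nat.lt_or_ge q 5 with hq5 | hq5
  · obtain rfl : q = 3 := by
      interval_cases q
      · rfl
      · norm_num at hq
    norm_num at h hd hu
    have key : ¬ (8 * u ≤ (p - 1) ^ 2) := fun h8 => by
      have : (p - 1) ^ 2 ≤ p ^ 2 := Nat.pow_le_pow_left (by omega) 2
      nlinarith
    refine ⟨rfl, ?_, ?_⟩
    · obtain ⟨c, hc⟩ := hk
      rcases c with _ | _ | c
      · omega
      · omega
      · exfalso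
        refine key ?_
        rw [hc]
        nlinarith
    · obtain ⟨c, hc⟩ := hd
      rcases c with _ | _ | c
      · rw [mul_zero] at hc; nlinarith
      · simp only [zero_add, mul_one] at hc; exact hc.symm
      · exfalso
        refine key ?_
        have : (2 * k) ^ 2 ≤ (p - 1) ^ 2 := Nat.pow_le_pow_left hkp 2
        nlinarith
  · exfalso
    have h2 : 2 ^ (q - 1) * u ≤ p ^ (q - 1) :=
      (Nat.mul_le_mul_left _ hu).trans ((mul_pow 2 k (q - 1)).ge.trans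
        (Nat.pow_le_pow_left (by omega) _))
    have hsq : ∀ r, 4 ≤ r → (r + 1) ^ 2 ≤ 2 ^ r * 2 := by
      intro r hr
      induction r, hr using Nat.le_induction with
      | base => norm_num
      | succ r hr ih => rw [pow_succ 2 r]; nlinarith
    have hq' := hsq (q - 1) (by omega)
    rw [Nat.sub_add_cancel (by omega : 1 ≤ q)] at hq'
    have hpos : 0 < p ^ (q - 1) := by positivity
    have h3 : 80 * (q - 2) * q ^ 2 * p ^ (q - 1) ≤ 162 * q * (q - 1) * p ^ (q - 1) := by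
      calc _ = q ^ 2 * (80 * p ^ (q - 1) * (q - 2)) := by ring
        _ ≤ 2 ^ (q - 1) * 2 * (81 * q * (q - 1) * u) := Nat.mul_le_mul hq' h
        _ = 162 * q * (q - 1) * (2 ^ (q - 1) * u) := by ring
        _ ≤ _ := Nat.mul_le_mul_left _ h2
    have h4 := Nat.le_of_mul_le_mul_right h3 hpos
    obtain ⟨r, rfl⟩ : ∃ r, q = r + 2 := ⟨q - 2, by omega⟩
    simp only [Nat.add_sub_cancel, show r + 2 - 1 = r + 1 by omega] at h4
    nlinarith

/-- The inequality of (13.12) when `u` is maximal, in the form used below. -/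
theorem bound_v (hp : 1 ≤ p) (hq : 2 ≤ q) {u v : ℕ} (hu : u = geo p q)
    (h : q ^ (p - 1) * (p - 2) * (u - 1) ≤ p * v * p ^ q) :
    q ^ (p - 1) * (p - 2) ≤ p ^ 2 * v := by
  obtain ⟨m, rfl⟩ : ∃ m, q = m + 1 := ⟨q - 1, by omega⟩
  have h1 : p ^ m ≤ u - 1 := by
    have := pow_lt_geo (q := m + 1) hp hq; rw [Nat.add_sub_cancel] at this; omega
  refine Nat.le_of_mul_le_mul_right ?_ (pow_pos hp m)
  calc _ ≤ (m + 1) ^ (p - 1) * (p - 2) * (u - 1) := Nat.mul_le_mul_left _ h1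
    _ ≤ p * v * p ^ (m + 1) := h
    _ = _ := by ring

/-- Galois case for `v`. -/
theorem galois_v (hp : p.Prime) (hq : q.Prime) (hq2 : q ≠ 2) (hlt : q < p) {u v : ℕ}
    (hu : u = geo p q) (hd : v ∣ geo q p)
    (h : q ^ (p - 1) * (p - 2) * (u - 1) ≤ p * v * p ^ q) : v = geo q p := by
  have hq3 : 3 ≤ q := by have := hq.two_le; omega
  have hp5 : 5 ≤ p := by
    by_contra hh
    obtain ⟨rfl, rfl⟩ : p = 4 ∧ q = 3 := by omega
    norm_num at hp
  obtain ⟨k, hk⟩ := hd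
  have hpo : Odd p := hp.odd_of_ne_two (by omega)
  have hko : Odd k := (Nat.odd_mul.1 (hk ▸ geo_odd (hq.odd_of_ne_two hq2) hpo)).2
  by_contra hne
  have hk1 : k ≠ 1 := fun e => hne (by rw [hk, e, mul_one])
  have hpk : ¬ p ∣ k := fun hh => by
    have := (dvd_q_geo_iff (p := q) hq.two_le hp).1 (hk ▸ dvd_mul_of_dvd_right hh v)
    have := Nat.le_of_dvd (by omega) this
    omega
  have hm := dvd_geo_modEq (p := q) hq.two_le hp (hk ▸ dvd_mul_left k v) hpk
  obtain ⟨c, hc⟩ := (Nat.modEq_iff_dvd' hko.pos).1 hm.symm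
  have : 2 * p + 1 ≤ k := by
    have hc0 : c ≠ 0 := fun e => by rw [e] at hc; have := hko.pos; omega
    have hc1 : c ≠ 1 := by
      rintro rfl
      obtain ⟨a, ha⟩ := hko
      obtain ⟨b, hb⟩ := hpo
      omega
    have : p * 2 ≤ p * c := Nat.mul_le_mul_left p (by omega)
    have := hko.pos
    omega
  -- `v (2p+1) (q-1) ≤ q^p`
  have hv : v * (2 * p + 1) * (q - 1) ≤ q ^ p := by
    calc _ ≤ v * k * (q - 1) := Nat.mul_le_mul_right _ (Nat.mul_le_mul_left v this)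
      _ = q ^ p - 1 := by rw [← hk, geo_mul (by omega)]
      _ ≤ _ := Nat.sub_le _ _
  obtain ⟨a, rfl⟩ : ∃ a, q = a + 1 := ⟨q - 1, by omega⟩
  obtain ⟨b, hb⟩ : ∃ b, p = b + 1 := ⟨p - 1, by omega⟩
  have he : (u - 1) * (p - 1) = p * (p ^ a - 1) := by
    rw [hu, geo_succ, Nat.add_sub_cancel_left, mul_assoc, geo_mul (by omega : 1 ≤ p)]
  have h24 : 24 * p ^ a ≤ 25 * (p ^ a - 1) := by
    have : 25 ≤ p ^ a := le_trans (by norm_num)
      (le_trans (Nat.pow_le_pow_left hp5 2) (Nat.pow_le_pow_right (by omega) (by omega : 2 ≤ a)))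
    omega
  have hpos : 0 < (a + 1) ^ (p - 1) * p ^ (a + 1) := by positivity
  rw [Nat.add_sub_cancel] at hv
  have hA : 24 * (p - 2) * (2 * p + 1) * a ≤ 25 * (p * (p - 1)) * (a + 1) := by
    refine Nat.le_of_mul_le_mul_right ?_ hpos
    calc 24 * (p - 2) * (2 * p + 1) * a * ((a + 1) ^ (p - 1) * p ^ (a + 1))
        = (a + 1) ^ (p - 1) * (p - 2) * (2 * p + 1) * a * (p * (24 * p ^ a)) := by ring
      _ ≤ (a + 1) ^ (p - 1) * (p - 2) * (2 * p + 1) * a * (p * (25 * (p ^ a - 1))) := by gcongr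
      _ = 25 * (2 * p + 1) * a * (p - 1) * ((a + 1) ^ (p - 1) * (p - 2) * (u - 1)) := by
          rw [show p * (25 * (p ^ a - 1)) = 25 * ((u - 1) * (p - 1)) by rw [he]; ring]; ring
      _ ≤ 25 * (2 * p + 1) * a * (p - 1) * (p * v * p ^ (a + 1)) := Nat.mul_le_mul_left _ h
      _ = 25 * (p - 1) * p * p ^ (a + 1) * (v * (2 * p + 1) * a) := by ring
      _ ≤ 25 * (p - 1) * p * p ^ (a + 1) * (a + 1) ^ p := Nat.mul_le_mul_left _ hv
      _ = _ := by rw [hb, pow_succ (a + 1) b, Nat.add_sub_cancel]; ring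
  obtain ⟨c', rfl⟩ : ∃ c', p = c' + 5 := ⟨p - 5, by omega⟩
  simp only [show c' + 5 - 2 = c' + 3 by omega, show c' + 5 - 1 = c' + 4 by omega] at hA
  nlinarith [Nat.mul_le_mul_left ((c' + 5) * (c' + 4)) (show 2 * (a + 1) ≤ 3 * a by omega),
    Nat.zero_le (c' ^ 2 * a), Nat.zero_le (c' * a)]

/-- The non-Galois case for `v` is impossible. -/
theorem nonGalois_v (hp : 5 ≤ p) (hq : 3 ≤ q) {v k : ℕ} (hk : 2 * k ∣ q - 1)
    (hd : v ∣ k ^ (p - 1)) (h : q ^ (p - 1) * (p - 2) ≤ p ^ 2 * v) : False := by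
  have hk1 : 1 ≤ k := Nat.pos_of_ne_zero fun e => by rw [e, mul_zero, zero_dvd_iff] at hk; omega
  have hkq : 2 * k ≤ q - 1 := Nat.le_of_dvd (by omega) hk
  have h2 : 2 ^ (p - 1) * v ≤ q ^ (p - 1) :=
    (Nat.mul_le_mul_left _ (Nat.le_of_dvd (pow_pos hk1 _) hd)).trans ((mul_pow 2 k (p - 1)).ge.trans
      (Nat.pow_le_pow_left (by omega) _))
  have hpow : ∀ r, 4 ≤ r → (r + 1) ^ 2 < 2 ^ r * (r - 1) := by
    intro r hr
    induction r, hr using Nat.le_induction with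
    | base => norm_num
    | succ r hr ih =>
      have : (r + 1 + 1) ^ 2 ≤ 2 * (r + 1) ^ 2 := by nlinarith
      calc _ ≤ 2 * (r + 1) ^ 2 := this
        _ < 2 * (2 ^ r * (r - 1)) := by omega
        _ = 2 ^ (r + 1) * (r - 1) := by ring
        _ ≤ _ := Nat.mul_le_mul_left _ (by omega)
  have := hpow (p - 1) (by omega)
  rw [Nat.sub_add_cancel (by omega : 1 ≤ p), show p - 1 - 1 = p - 2 by omega] at this
  have hpos : 0 < q ^ (p - 1) := by positivity
  have : 2 ^ (p - 1) * (p - 2) * q ^ (p - 1) ≤ p ^ 2 * q ^ (p - 1) := by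
    calc _ = 2 ^ (p - 1) * (q ^ (p - 1) * (p - 2)) := by ring
      _ ≤ 2 ^ (p - 1) * (p ^ 2 * v) := Nat.mul_le_mul_left _ h
      _ = p ^ 2 * (2 ^ (p - 1) * v) := by ring
      _ ≤ _ := Nat.mul_le_mul_left _ h2
  have := Nat.le_of_mul_le_mul_right this hpos
  omega

/-- For `p ≥ 7` the number `q^(p-1)` exceeds `p² q²`. -/
theorem sq_mul_sq_le (hp : 7 ≤ p) (hq : 3 ≤ q) : p ^ 2 * q ^ 2 ≤ q ^ (p - 1) := by
  induction p, hp using Nat.le_induction with
  | base =>
    calc _ ≤ 81 * q ^ 2 := by omega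
      _ ≤ q ^ 4 * q ^ 2 := Nat.mul_le_mul_right _ (le_trans (by norm_num) (Nat.pow_le_pow_left hq 4))
      _ = _ := by ring
  | succ n hn ih =>
    rw [Nat.add_sub_cancel, show n = n - 1 + 1 by omega, pow_succ q (n - 1)]
    rw [Nat.sub_add_cancel (by omega : 1 ≤ n)]
    calc (n + 1) ^ 2 * q ^ 2 ≤ q * (n ^ 2 * q ^ 2) := by
          rw [← mul_assoc]; exact Nat.mul_le_mul_right _ (by nlinarith)
      _ ≤ _ := by rw [mul_comm _ q]; exact Nat.mul_le_mul_left _ ih

end Cfsg.Agent.Lib.OddOrder.PF14.Arith
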