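import Cfsg.Agent.Lib.OddOrder.PF14.Arith

/-!
# Peterfalvi 14: the order of the kernel of `L`

`h = n p q + 1` is a multiple of `u`.  If `n` fits under the side of `S` then `h = u`; otherwise, and if
`h ≠ u`, the number `n` is at least `p q`.
-/

set_option autoImplicit false

namespace Cfsg.Agent.Lib.OddOrder.PF14.Arith

variable {p q u h n : ℕ}

theorem modEq_one_of_geo (hp : p.Prime) (hq : q.Prime)
    (hu : u = geo p q ∨ (q ∣ p - 1 ∧ u * q = geo p q)) :
    (u = geo p q → u ≡ 1 [MOD p]) ∧ (u * q = geo p q → u * q ≡ 1 [MOD p]) ∧ 1 ≤ u := by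
  obtain ⟨m, rfl⟩ : ∃ m, q = m + 1 := ⟨q - 1, by have := hq.two_le; omega⟩
  have hmod : geo p (m + 1) ≡ 1 [MOD p] := by
    rw [geo_succ, Nat.ModEq, Nat.add_mul_mod_self_left]
  refine ⟨fun e => e ▸ hmod, fun e => e ▸ hmod, ?_⟩
  have h1 := geo_pos (p := p) (q := m + 1) (by omega)
  rcases hu with e | ⟨-, e⟩
  · omega
  · rcases Nat.eq_zero_or_pos u with rfl | h0
    · simp at e; omega
    · exact h0

/-- `n` fits under the side: `h = u`, and `u` is maximal. -/
theorem eq_of_le (hp : p.Prime) (hq : q.Prime) (hlt : q < p) {N : ℕ}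
    (hu : u = geo p q ∨ (q ∣ p - 1 ∧ u * q = geo p q)) (hN : u = q * N + 1)
    (hh : h = n * (p * q) + 1) (hd : u ∣ h) (hn : n ≤ N) : h = u ∧ u = geo p q := by
  obtain ⟨j, rfl⟩ := hd
  have hj : j < p := by
    by_contra hjp
    push Not at hjp
    have h1 : u * p ≤ u * j := Nat.mul_le_mul_left _ hjp
    have h2 : n * (p * q) ≤ N * (p * q) := Nat.mul_le_mul_right _ hn
    have h3 : u * p = N * (p * q) + p := by rw [hN]; ring
    have := hp.two_le
    omega
  obtain ⟨hu1, hu2, -⟩ := modEq_one_of_geo hp hq hu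
  have hh1 : u * j ≡ 1 [MOD p] := by
    rw [hh, mul_comm p q, ← mul_assoc, Nat.ModEq, Nat.add_comm, Nat.add_mul_mod_self_right]
  rcases hu with e | ⟨hqp, e⟩
  · have h2 : u * j ≡ j [MOD p] := by simpa using (hu1 e).mul_right j
    have h3 : j ≡ 1 [MOD p] := h2.symm.trans hh1
    rw [Nat.ModEq, Nat.mod_eq_of_lt hj, Nat.mod_eq_of_lt hp.one_lt] at h3
    exact ⟨by rw [h3, mul_one], e⟩
  · exfalso
    have h2 : j ≡ q [MOD p] := by
      calc j = 1 * j := (one_mul j).symm
        _ ≡ u * q * j [MOD p] := ((hu2 e).mul_right j).symm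
        _ = q * (u * j) := by ring
        _ ≡ q * 1 [MOD p] := hh1.mul_left q
        _ = q := mul_one q
    rw [Nat.ModEq, Nat.mod_eq_of_lt hj, Nat.mod_eq_of_lt hlt] at h2
    have h3 : q ∣ n * (p * q) + 1 := by
      rw [← hh, h2]
      exact dvd_mul_left q u
    exact hq.not_dvd_one ((Nat.dvd_add_right (dvd_mul_of_dvd_right (dvd_mul_left q p) n)).1 h3)

/-- The quotient `h / u` in the case of maximal `u`. -/
theorem quot_ge_max (hp : p.Prime) (hq : q.Prime) (hpo : Odd p) (hqo : Odd q) (hlt : q < p)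
    (hu : u = geo p q) (huq : u ≡ 1 [MOD q]) (hh : h = n * (p * q) + 1) (hodd : Odd h) {j : ℕ}
    (hj : h = u * j) (hne : h ≠ u) : 2 * (p * q) + 1 ≤ j := by
  have hup := (modEq_one_of_geo hp hq (Or.inl hu)).1 hu
  have hmod : ∀ d, d ∣ p * q → u ≡ 1 [MOD d] → j ≡ 1 [MOD d] := by
    intro d hd hud
    have h2 : u * j ≡ j [MOD d] := by simpa using hud.mul_right j
    refine h2.symm.trans ?_
    obtain ⟨c, hc⟩ := hd
    rw [← hj, hh, hc, ← mul_assoc, mul_comm n d, mul_assoc, Nat.ModEq, Nat.add_comm,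
      Nat.add_mul_mod_self_left]
  have h3 : j ≡ 1 [MOD p * q] :=
    (Nat.modEq_and_modEq_iff_modEq_mul ((Nat.coprime_primes hp hq).2 (by omega))).1
      ⟨hmod p (dvd_mul_right p q) hup, hmod q (dvd_mul_left q p) huq⟩
  have hjo : Odd j := (Nat.odd_mul.1 (hj ▸ hodd)).2
  have hj1 : 1 ≤ j := hjo.pos
  obtain ⟨c, hc⟩ := (Nat.modEq_iff_dvd' hj1).1 h3.symm
  have hc2 : 2 ≤ c := by
    by_contra hc2
    interval_cases c
    · exact hne (by rw [hj, show j = 1 by omega, mul_one])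
    · obtain ⟨a, ha⟩ := hjo
      obtain ⟨b, hb⟩ := hpo
      obtain ⟨b', hb'⟩ : Odd (p * q) := Nat.odd_mul.2 ⟨⟨b, hb⟩, hqo⟩
      omega
  have := Nat.mul_le_mul_left (p * q) hc2
  omega

/-- Otherwise `n ≥ p q`. -/
theorem pq_le (hp : p.Prime) (hq : q.Prime) (hq3 : 3 ≤ q) (hlt : q < p)
    (hu : u = geo p q ∨ (q ∣ p - 1 ∧ u * q = geo p q)) (huq : u ≡ 1 [MOD q])
    (hh : h = n * (p * q) + 1) (hd : u ∣ h) (hodd : Odd h) (hne : h ≠ u) : p * q ≤ n := by
  obtain ⟨j, hj⟩ := hd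
  have hpo : Odd p := hp.odd_of_ne_two (by omega)
  have hqo : Odd q := hq.odd_of_ne_two (by omega)
  have hg := pow_lt_geo (p := p) (q := q) hp.one_le (by omega)
  have hp2 : p ^ 2 ≤ p ^ (q - 1) := Nat.pow_le_pow_right hp.pos (by omega)
  suffices hkey : p * q * (p * q) < h by
    by_contra hn
    push Not at hn
    have h1 : (n + 1) * (p * q) ≤ p * q * (p * q) := Nat.mul_le_mul_right _ hn
    have h2 : 1 < p * q := by nlinarith
    rw [add_mul, one_mul] at h1
    omega
  rcases hu with e | ⟨hqp, e⟩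
  · have h1 := quot_ge_max hp hq hpo hqo hlt e huq hh hodd hj hne
    have h2 : p ^ 2 * (2 * (p * q) + 1) ≤ u * j := Nat.mul_le_mul (by omega) h1
    rw [hj]
    refine lt_of_lt_of_le ?_ h2
    nlinarith
  · obtain ⟨hu1, hu2, -⟩ := modEq_one_of_geo hp hq (Or.inr ⟨hqp, e⟩)
    have hh1 : ∀ d, d ∣ p * q → u * j ≡ 1 [MOD d] := by
      rintro d ⟨c, hc⟩
      rw [← hj, hh, hc, ← mul_assoc, mul_comm n d, mul_assoc, Nat.ModEq, Nat.add_comm,
        Nat.add_mul_mod_self_left]
    have hjp : j ≡ q [MOD p] := by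
      calc j = 1 * j := (one_mul j).symm
        _ ≡ u * q * j [MOD p] := ((hu2 e).mul_right j).symm
        _ = q * (u * j) := by ring
        _ ≡ q * 1 [MOD p] := (hh1 p (dvd_mul_right p q)).mul_left q
        _ = q := mul_one q
    have hjq : j ≡ 1 [MOD q] := by
      have := (huq.mul_right j).symm.trans (hh1 q (dvd_mul_left q p))
      rwa [one_mul] at this
    have hjo : Odd j := (Nat.odd_mul.1 (hj ▸ hodd)).2
    have hqj : q ≤ j := by
      by_contra hlt'
      rw [Nat.ModEq, Nat.mod_eq_of_lt (by omega : j < p), Nat.mod_eq_of_lt hlt] at hjp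
      omega
    obtain ⟨c, hc⟩ := (Nat.modEq_iff_dvd' hqj).1 hjp.symm
    obtain ⟨d, hd⟩ : Even c := by
      have h1 : Even (p * c) := by
        rw [← hc]
        obtain ⟨a, ha⟩ := hjo
        obtain ⟨b, hb⟩ := hqo
        exact ⟨a - b, by omega⟩
      exact (Nat.even_mul.1 h1).resolve_left (Nat.not_even_iff_odd.2 hpo)
    -- `c ≡ 1 (mod q)` is even, hence at least `q + 1`
    have hcq : c ≡ 1 [MOD q] := by
      have hp1 : p ≡ 1 [MOD q] := ((Nat.modEq_iff_dvd' hp.one_le).2 hqp).symm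
      have h1 : j ≡ c [MOD q] := by
        calc j = p * c + q := by omega
          _ ≡ 1 * c + 0 [MOD q] := (hp1.mul_right c).add (Nat.modEq_zero_iff_dvd.2 dvd_rfl)
          _ = c := by ring
      exact h1.symm.trans hjq
    have hc1 : q + 1 ≤ c := by
      by_contra hc1
      rw [Nat.ModEq, Nat.mod_eq_of_lt (by omega : 1 < q)] at hcq
      rcases (by omega : c < q ∨ c = q) with h1 | h1
      · rw [Nat.mod_eq_of_lt h1] at hcq; omega
      · rw [h1, Nat.mod_self] at hcq; omega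
    have hjbig : (q + 1) * p + q ≤ j := by nlinarith [(by omega : j = p * c + q)]
    have h2 : p ^ (q - 1) * ((q + 1) * p + q) < u * q * j :=
      Nat.mul_lt_mul_of_lt_of_le (by omega) hjbig (by nlinarith)
    refine Nat.lt_of_mul_lt_mul_left (a := q) (lt_of_le_of_lt ?_ (h2.trans_eq (by rw [hj]; ring)))
    rcases (by omega : q = 3 ∨ q = 4 ∨ 5 ≤ q) with rfl | rfl | h5
    · have hp7 : 7 ≤ p := by
        by_contra hp7
        have := hp.two_le
        interval_cases p
        all_goals first | omega | (norm_num at hp)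
      norm_num
      nlinarith
    · exact absurd hqo (by decide)
    · have hp4 : p ^ 4 ≤ p ^ (q - 1) := Nat.pow_le_pow_right hp.pos (by omega)
      calc q * (p * q * (p * q)) = p ^ 2 * q ^ 3 := by ring
        _ ≤ p ^ 2 * p ^ 3 := Nat.mul_le_mul_left _ (Nat.pow_le_pow_left hlt.le 3)
        _ = p ^ 4 * (1 * p) := by ring
        _ ≤ _ := Nat.mul_le_mul hp4 ((Nat.mul_le_mul_right p (by omega)).trans (Nat.le_add_right _ q))

end Cfsg.Agent.Lib.OddOrder.PF14.Arith
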