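import Cfsg.Agent.Lib.OddOrder.PF14.SideFn

/-!
# Peterfalvi 14: the deductions from probes and sides

* a probe with `e = |W₁|` has `n ≤ N`;
* two probes on disjoint sets: one of the families fits into the norm of the other's function;
* if all the first row and column coefficients of a probe with `e = |W₁| |W₂|` are odd, every disjoint
  probe sees it, and Bessel's inequality for `φ` bounds the sum of their `1 / (e + 1)`.
-/

set_option autoImplicit false
set_option linter.style.haveILetI false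

namespace Cfsg.Agent.Lib.OddOrder.PF14.Core

open Cfsg.Agent.Lib.Isometry.Inner
open Cfsg.Agent.Lib.CyclicTI (IsP IsQ)
open Vec Probe

universe u

variable {G : Type u} [Group G] [Fintype G] {W₁ W₂ : Subgroup G}
  {η : (↥(W₁ ⊔ W₂) →* ℂˣ) → G → ℂ}

theorem ne_zero_of_odd {x : ℤ} (h : (x : ZMod 2) = 1) : x ≠ 0 := by rintro rfl; simp at h

theorem le_of_sq_mul {x n N : ℤ} (hx : x ≠ 0) (hn : 0 ≤ n) (h : x ^ 2 * n ≤ N) : n ≤ N := by
  have : 1 ≤ x ^ 2 := by
    have : 0 < x ^ 2 := by positivity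
    omega
  nlinarith

variable (F : Table.Fam W₁ W₂ η) (P : Probe G) (hA : Avoids W₁ W₂ P)
include F hA

theorem one_one : co P.R (η (1 : ↥(W₁ ⊔ W₂) →* ℂˣ)) = 1 := by rw [F.family.map_one]; exact P.R_one

theorem one_le_table :
    1 ≤ ∑ x ∈ Table.pSet W₁ W₂ ×ˢ Table.qSet W₁ W₂, co P.R (η (x.1 * x.2)) ^ 2 := by
  refine le_of_eq_of_le ?_ (Finset.single_le_sum (fun _ _ => sq_nonneg _)
    (Finset.mk_mem_product (Table.mem_pSet.2 CyclicTI.isP_one) (Table.mem_qSet.2 CyclicTI.isQ_one)))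
  rw [show (1 : ↥(W₁ ⊔ W₂) →* ℂˣ) * 1 = 1 by ext; simp, one_one F P hA]
  norm_num

/-- A probe with `e = |W₁|`: the family fits into `D`. -/
theorem small_probe (X : SideData η) (hd : Disjoint X.Z P.Z) (he : P.e = Nat.card W₁)
    (hlt : Nat.card W₁ < Nat.card W₂) : P.n ≤ X.N := by
  classical
  have h1P : (1 : ↥(W₁ ⊔ W₂) →* ℂˣ) ∈ Table.pSet W₁ W₂ := Table.mem_pSet.2 CyclicTI.isP_one
  have h1Q : (1 : ↥(W₁ ⊔ W₂) →* ℂˣ) ∈ Table.qSet W₁ W₂ := Table.mem_qSet.2 CyclicTI.isQ_one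
  have hone : ∀ ψ : ↥(W₁ ⊔ W₂) →* ℂˣ, (1 : ↥(W₁ ⊔ W₂) →* ℂˣ) * ψ = ψ := fun ψ => by ext; simp
  have hone' : ∀ φ : ↥(W₁ ⊔ W₂) →* ℂˣ, φ * (1 : ↥(W₁ ⊔ W₂) →* ℂˣ) = φ := fun φ => by ext; simp
  have hb := table_le F P hA
  rw [Finset.sum_product, ← Finset.add_sum_erase _ _ h1P, he] at hb
  have hc0 : ∀ ψ ∈ Table.qSet W₁ W₂, ψ ≠ 1 → co P.R (η ψ) = 0 := by
    intro ψ₀ hψ₀ hψ₀1
    by_contra hne
    by_cases hall : ∀ ψ ∈ Table.qSet W₁ W₂, co P.R (η ψ) = 1
    · have hlb : (Nat.card W₂ : ℤ) ≤ ∑ ψ ∈ Table.qSet W₁ W₂, co P.R (η (1 * ψ)) ^ 2 := by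
        rw [Finset.sum_congr rfl fun ψ hψ => by rw [hone, hall ψ hψ], ← Table.card_qSet F]
        simp
      have := Finset.sum_nonneg (s := (Table.pSet W₁ W₂).erase 1)
        (f := fun φ => ∑ ψ ∈ Table.qSet W₁ W₂, co P.R (η (φ * ψ)) ^ 2)
        fun _ _ => Finset.sum_nonneg fun _ _ => sq_nonneg _
      have : (Nat.card W₁ : ℤ) < Nat.card W₂ := by exact_mod_cast hlt
      linarith
    · push Not at hall
      obtain ⟨ψ₁, hψ₁, hψ₁'⟩ := hall
      have hrow : ∀ φ ∈ (Table.pSet W₁ W₂).erase 1,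
          (1 : ℤ) ≤ ∑ ψ ∈ Table.qSet W₁ W₂, co P.R (η (φ * ψ)) ^ 2 := by
        intro φ hφ
        rcases eq_or_ne (co P.R (η φ)) 0 with hr | hr
        · refine le_trans ?_ (Finset.single_le_sum (fun _ _ => sq_nonneg _) hψ₁)
          have := table F P hA (Table.mem_pSet.1 (Finset.mem_of_mem_erase hφ)) (Table.mem_qSet.1 hψ₁)
          have h2 : co P.R (η (φ * ψ₁)) ≠ 0 := by omega
          have : 0 < co P.R (η (φ * ψ₁)) ^ 2 := by positivity
          omega
        · refine le_trans ?_ (Finset.single_le_sum (fun _ _ => sq_nonneg _) h1Q)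
          rw [hone']
          have : 0 < co P.R (η φ) ^ 2 := by positivity
          omega
      have hfirst : (2 : ℤ) ≤ ∑ ψ ∈ Table.qSet W₁ W₂, co P.R (η (1 * ψ)) ^ 2 := by
        refine le_trans ?_ (Finset.sum_le_sum_of_subset_of_nonneg
          (Finset.insert_subset h1Q (Finset.singleton_subset_iff.2 hψ₀)) fun _ _ _ => sq_nonneg _)
        rw [Finset.sum_pair hψ₀1.symm, hone, hone, one_one F P hA]
        have : 0 < co P.R (η ψ₀) ^ 2 := by positivity
        omega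
      have h3 := (add_le_add hfirst (Finset.sum_le_sum hrow)).trans hb
      rw [Finset.sum_const, nsmul_eq_mul, mul_one, Finset.card_erase_of_mem h1P,
        Table.card_pSet F] at h3
      omega
  obtain ⟨ψ, hψ, hψ1⟩ : ∃ ψ ∈ Table.qSet W₁ W₂, ψ ≠ 1 := by
    refine Finset.exists_mem_ne ?_ 1
    rw [Table.card_qSet F]
    have := Table.three_le₂ F
    omega
  have hp := X.parity F P hA hd (Table.mem_qSet.1 hψ) hψ1
  rw [hc0 ψ hψ hψ1, add_zero] at hp
  exact_mod_cast le_of_sq_mul (ne_zero_of_odd hp) (Nat.cast_nonneg _)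
    (X.bound F P hA hd (Table.mem_qSet.1 hψ) hψ1)

/-- A side whose coefficient is even makes the family fit into `D`. -/
theorem n_le_or_odd (X : SideData η) (hd : Disjoint X.Z P.Z) {ψ : ↥(W₁ ⊔ W₂) →* ℂˣ}
    (h : IsQ ψ) (h1 : ψ ≠ 1) : P.n ≤ X.N ∨ ((co P.R (η ψ) : ℤ) : ZMod 2) = 1 := by
  by_cases hs : co (X.D ψ) P.φ = 0
  · right
    have hp := X.parity F P hA hd h h1
    rwa [hs, zero_add] at hp
  · left
    exact_mod_cast le_of_sq_mul hs (Nat.cast_nonneg _) (X.bound F P hA hd h h1)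

/-- One of two disjoint probes fits into the other. -/
theorem cross_le (P' : Probe G) (hd : Disjoint P.Z P'.Z) (hA' : Avoids W₁ W₂ P') :
    P'.n < P.e ∨ P.n < P'.e := by
  have hp := cross_parity P P' hd F.odd
  by_cases hx : co P.R P'.φ = 0
  · right
    rw [hx, zero_add] at hp
    have h := bound_cross F P' hA' P hd.symm hA
    have := one_le_table F P' hA'
    have := le_of_sq_mul (N := (P'.e : ℤ) - 1) (ne_zero_of_odd hp) (Nat.cast_nonneg P.n) (by linarith)
    omega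
  · left
    have h := bound_cross F P hA P' hd hA'
    have := one_le_table F P hA
    have := le_of_sq_mul (N := (P.e : ℤ) - 1) hx (Nat.cast_nonneg P'.n) (by linarith)
    omega

/-- All coefficients odd: the table exhausts the norm. -/
theorem full_table
    (hr : ∀ φ, IsP φ → φ ≠ 1 → ((co P.R (η φ) : ℤ) : ZMod 2) = 1)
    (hc : ∀ ψ, IsQ ψ → ψ ≠ 1 → ((co P.R (η ψ) : ℤ) : ZMod 2) = 1) :
    (Nat.card W₁ : ℤ) * Nat.card W₂ ≤
      ∑ x ∈ Table.pSet W₁ W₂ ×ˢ Table.qSet W₁ W₂, co P.R (η (x.1 * x.2)) ^ 2 := by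
  have hr' : ∀ φ, IsP φ → ((co P.R (η φ) : ℤ) : ZMod 2) = 1 := fun φ h => by
    by_cases h1 : φ = 1
    · rw [h1, one_one F P hA, Int.cast_one]
    · exact hr φ h h1
  have hc' : ∀ ψ, IsQ ψ → ((co P.R (η ψ) : ℤ) : ZMod 2) = 1 := fun ψ h => by
    by_cases h1 : ψ = 1
    · rw [h1, one_one F P hA, Int.cast_one]
    · exact hc ψ h h1
  have hcell : ∀ x ∈ Table.pSet W₁ W₂ ×ˢ Table.qSet W₁ W₂,
      (1 : ℤ) ≤ co P.R (η (x.1 * x.2)) ^ 2 := by
    intro x hx
    rw [Finset.mem_product, Table.mem_pSet, Table.mem_qSet] at hx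
    have h := congrArg (Int.cast : ℤ → ZMod 2) (table F P hA hx.1 hx.2)
    push_cast at h
    rw [hr' _ hx.1, hc' _ hx.2] at h
    have := ne_zero_of_odd (add_right_cancel h)
    have : 0 < co P.R (η (x.1 * x.2)) ^ 2 := by positivity
    omega
  have := Finset.sum_le_sum hcell
  rw [Finset.sum_const, nsmul_eq_mul, mul_one, Finset.card_product, Table.card_pSet F,
    Table.card_qSet F] at this
  exact_mod_cast this

/-- With a full table the disjoint probes all see `φ`, whence the bound on `Σ 1 / (e + 1)`. -/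
theorem full_sum {ι : Type*} (s : Finset ι) (Q : ι → Probe G)
    (he : (P.e : ℤ) ≤ ∑ x ∈ Table.pSet W₁ W₂ ×ˢ Table.qSet W₁ W₂, co P.R (η (x.1 * x.2)) ^ 2)
    (hdP : ∀ i ∈ s, Disjoint P.Z (Q i).Z) (hQA : ∀ i ∈ s, Avoids W₁ W₂ (Q i))
    (hdQ : ∀ i ∈ s, ∀ j ∈ s, i ≠ j → Disjoint (Q i).Z (Q j).Z) :
    ∑ i ∈ s, 1 / (((Q i).e : ℝ) + 1) ≤ 1 / (P.n : ℝ) := by
  classical
  have hx : ∀ i ∈ s, co P.φ (Q i).Φ ≠ 0 := by
    intro i hi
    have h0 : co P.R (Q i).φ = 0 := by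
      by_contra hne
      have := bound_cross F P hA (Q i) (hdP i hi) (hQA i hi)
      have h2 : (2 : ℤ) ≤ (Q i).n := by exact_mod_cast (Q i).two_le
      have := le_of_sq_mul hne (by omega : (0 : ℤ) ≤ (Q i).n) (N := 0) (by linarith)
      omega
    have hp := cross_parity P (Q i) (hdP i hi) F.odd
    rw [h0, zero_add] at hp
    rw [co_comm P.gen_φ (Q i).gen_Φ]
    have : co (Q i).R P.φ = co (Q i).Φ P.φ + co (Q i).φ P.φ := co_add_left (Q i).gen_Φ (Q i).gen_φ P.gen_φ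
    rw [cross_orth (Q i) P (hdP i hi).symm (Q i).φ_mem P.φ_mem, add_zero] at this
    rw [← this]
    exact ne_zero_of_odd hp
  set S : G → ℂ := ∑ χ ∈ P.mem, ((P.wt χ : ℤ) : ℂ) • χ with hS
  have gS : Cfsg.IsGeneralizedCharacter G S :=
    gen_sum _ fun χ hχ => gen_intCast_smul (P.gen_mem χ hχ) _
  set f : G → ℂ := ((P.n : ℤ) : ℂ) • P.φ - S with hf
  have gn : Cfsg.IsGeneralizedCharacter G (((P.n : ℤ) : ℂ) • P.φ) := gen_intCast_smul P.gen_φ _
  have gf : Cfsg.IsGeneralizedCharacter G f := gen_sub gn gS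
  have hφS : co P.φ S = 1 := by
    refine co_eq_one ?_
    rw [hS, Characters.Basic.classInner_sum_right, Finset.sum_eq_single P.φ]
    · rw [Induced.Basic.classInner_smul_right, co_spec P.gen_φ P.gen_φ, P.unit _ P.φ_mem, P.wt_φ]
      simp
    · intro χ hχ hne
      rw [Induced.Basic.classInner_smul_right, co_spec P.gen_φ (P.gen_mem χ hχ),
        P.orth _ P.φ_mem χ hχ hne.symm]
      simp
    · exact fun h => absurd P.φ_mem h
  have hSS : co S S = P.n := by
    refine co_eq_of_classInner ?_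
    rw [hS, Characters.Basic.classInner_sum_left, ← P.sum_wt]
    push_cast
    refine Finset.sum_congr rfl fun χ hχ => ?_
    rw [Induced.Basic.classInner_smul_left, Characters.Basic.classInner_sum_right,
      Finset.sum_eq_single χ]
    · rw [Induced.Basic.classInner_smul_right, co_spec (P.gen_mem χ hχ) (P.gen_mem χ hχ),
        P.unit χ hχ]
      simp [sq]
    · intro χ' hχ' hne
      rw [Induced.Basic.classInner_smul_right, co_spec (P.gen_mem χ hχ) (P.gen_mem χ' hχ'),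
        P.orth χ hχ χ' hχ' hne.symm]
      simp
    · exact fun h => absurd hχ h
  have hφf : co P.φ f = P.n - 1 := by
    rw [hf, co_sub_right P.gen_φ gn gS, co_smul_right P.gen_φ P.gen_φ, P.unit _ P.φ_mem, hφS]
    ring
  have hff : co f f = P.n * (P.n - 1) := by
    rw [hf, co_sub_left gn gS (gen_sub gn gS), co_sub_right gn gn gS, co_sub_right gS gn gS,
      co_smul_right gn P.gen_φ, co_smul_right gS P.gen_φ, co_comm gn P.gen_φ,
      co_smul_right P.gen_φ P.gen_φ, co_comm gn gS, co_smul_right gS P.gen_φ, co_comm gS P.gen_φ,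
      P.unit _ P.φ_mem, hφS, hSS]
    ring
  have hsupp : ∀ g, g ∉ P.Z → f g = 0 := fun g hg => by
    simp only [hf, hS, Pi.sub_apply, Pi.smul_apply, Finset.sum_apply, smul_eq_mul]
    rw [Finset.sum_congr rfl fun χ hχ => by rw [P.diff_supp χ hχ g hg], ← P.sum_wt]
    push_cast
    rw [Finset.sum_mul, sub_eq_zero]
    exact Finset.sum_congr rfl fun χ _ => by ring
  have h2 : (2 : ℤ) ≤ P.n := by exact_mod_cast P.two_le
  have hb := bessel_div ((Finset.univ : Finset Unit).disjSum s) (Sum.elim (fun _ => f) fun i => (Q i).Φ)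
    (Sum.elim (fun _ => (P.n : ℤ) * (P.n - 1)) fun i => ((Q i).e : ℤ) + 1) P.gen_φ ?_ ?_ ?_ ?_
  · rw [Finset.sum_disjSum, P.unit _ P.φ_mem] at hb
    simp only [Sum.elim_inl, Sum.elim_inr, Finset.univ_unique, Finset.sum_singleton, hφf] at hb
    push_cast at hb
    have hn : (2 : ℝ) ≤ (P.n : ℝ) := by exact_mod_cast P.two_le
    have e1 : ((P.n : ℝ) - 1) ^ 2 / ((P.n : ℝ) * ((P.n : ℝ) - 1)) = 1 - 1 / (P.n : ℝ) := by
      field_simp [show ((P.n : ℝ) - 1) ≠ 0 by linarith]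
    rw [e1] at hb
    have hle : ∑ i ∈ s, 1 / (((Q i).e : ℝ) + 1) ≤
        ∑ i ∈ s, (co P.φ (Q i).Φ : ℝ) ^ 2 / (((Q i).e : ℝ) + 1) := by
      refine Finset.sum_le_sum fun i hi => div_le_div_of_nonneg_right ?_ (by positivity)
      have : 1 ≤ co P.φ (Q i).Φ ^ 2 := by
        have := hx i hi
        have : 0 < co P.φ (Q i).Φ ^ 2 := by positivity
        omega
      exact_mod_cast this
    linarith
  · rintro (_ | i) hi
    · exact gf
    · exact (Q i).gen_Φ
  · rintro (_ | i) hi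
    · exact hff
    · exact (Q i).Φ_norm
  · rintro (_ | i) hi
    · show (0 : ℤ) < (P.n : ℤ) * (P.n - 1)
      nlinarith
    · show (0 : ℤ) < ((Q i).e : ℤ) + 1
      positivity
  · rintro (_ | i) hi (_ | j) hj hne
    · exact absurd rfl hne
    · exact co_supp (hdP j (Finset.inr_mem_disjSum.1 hj)) hsupp (Q j).Φ_supp
    · exact co_supp (hdP i (Finset.inr_mem_disjSum.1 hi)).symm (Q i).Φ_supp hsupp
    · exact co_supp (hdQ i (Finset.inr_mem_disjSum.1 hi) j (Finset.inr_mem_disjSum.1 hj)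
        fun e => hne (congrArg Sum.inr e)) (Q i).Φ_supp (Q j).Φ_supp

end Cfsg.Agent.Lib.OddOrder.PF14.Core
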