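import Cfsg.Agent.Lib.OddOrder.PF9.Setup
import Cfsg.Agent.Lib.OddOrder.PF9.Package
import Cfsg.Agent.Lib.OddOrder.PF13.Group
import Cfsg.Agent.Lib.OddOrder.PF14.Arith

/-!
# Peterfalvi 14: the two cases of (9.7) for a side with `C_U(P) = 1`
-/

set_option autoImplicit false
set_option linter.style.haveILetI false

open scoped commutatorElement Pointwise

namespace Cfsg.Agent.Lib.OddOrder.PF14

open Cfsg.Agent.Lib.OddOrder.Basic
open Cfsg.Agent.Lib.OddOrder.PF13 (Facts)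

universe u

variable {G : Type u} [Group G] [Finite G]

/-- The Galois case: `P` is a field on which `U` acts by multiplications, `W₂` being the prime field. -/
structure GaloisData (S W₁ U W₂ : Subgroup G) : Prop where
  cyclic : IsCyclic U
  card_dvd : Nat.card U ∣ Arith.geo (Nat.card W₂) (Nat.card W₁)
  coprime : (Nat.card U).Coprime (Nat.card W₂ - 1)
  fpf : ∀ a ∈ U, a ≠ 1 → ∀ x ∈ Cfsg.fittingHallOf S, a * x = x * a → x = 1
  field : ∃ (F : Type) (_ : Field F) (_ : Fintype F) (f : G → F) (ψ : G → F),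
    Fintype.card F = Nat.card W₂ ^ Nat.card W₁ ∧
    Set.BijOn f (Cfsg.fittingHallOf S : Set G) Set.univ ∧
    (∀ x ∈ Cfsg.fittingHallOf S, ∀ x' ∈ Cfsg.fittingHallOf S, f (x * x') = f x + f x') ∧
    (∀ a ∈ U, ψ a ≠ 0 ∧ ∀ x ∈ Cfsg.fittingHallOf S, f (a * x * a⁻¹) = ψ a * f x) ∧
    (∀ a ∈ U, ∀ b ∈ U, ψ (a * b) = ψ a * ψ b) ∧ Set.InjOn ψ (U : Set G) ∧
    (∀ x ∈ Cfsg.fittingHallOf S, x ∈ W₂ ↔ f x ^ Nat.card W₂ = f x)

/-- The other case: `U` has exponent dividing a divisor `k` of `(p - 1) / 2`, and a subgroup of index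
`k` has fixed points on `P`. -/
structure NonGaloisData (S W₁ U W₂ : Subgroup G) (k : ℕ) (K₁ : Subgroup G) : Prop where
  two_dvd : 2 * k ∣ Nat.card W₂ - 1
  card_dvd : Nat.card U ∣ k ^ (Nat.card W₁ - 1)
  exponent : ∀ a ∈ U, a ^ k = 1
  le : K₁ ≤ U
  card_eq : Nat.card U = Nat.card K₁ * k
  fixed : Cfsg.fittingHallOf S ⊓ Subgroup.centralizer (K₁ : Set G) ≠ ⊥

theorem galois_or_not (hG : Cfsg.IsMinSimpleOddOrder G) {S W₁ U W₂ : Subgroup G}
    (F₀ : Facts S W₁ U W₂) (hC : U ⊓ Subgroup.centralizer (Cfsg.fittingHallOf S : Set G) = ⊥) :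
    GaloisData S W₁ U W₂ ∨ ∃ k K₁, NonGaloisData S W₁ U W₂ k K₁ := by
  classical
  have hUS : U ≤ S := F₀.U_le
  have hWS : W₁ ≤ S := F₀.W₁_le
  have hPS := F₀.P_le
  have hW₂S : W₂ ≤ S := F₀.W₂_le_P.trans hPS
  have hH : (Cfsg.fittingHallOf S).subgroupOf S = Cfsg.fittingHall S :=
    Subgroup.comap_map_eq_self_of_injective S.subtype_injective _
  have hmemH : ∀ x : S, x ∈ Cfsg.fittingHall S ↔ (x : G) ∈ Cfsg.fittingHallOf S := fun x => by
    rw [← hH, Subgroup.mem_subgroupOf]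
  have hyp := PF9.Setup.hyp hG F₀.typeP F₀.U_ne F₀.q_prime
  obtain ⟨-, -, hpkg⟩ := PF9.package hyp
  have hU1 : ∀ a : S, (a : G) ∈ U → (∀ x : S, x ∈ Cfsg.fittingHall S → a * x = x * a) → a = 1 := by
    intro a ha h
    have : (a : G) ∈ U ⊓ Subgroup.centralizer (Cfsg.fittingHallOf S : Set G) := by
      refine ⟨ha, Subgroup.mem_centralizer_iff.2 fun x hx => ?_⟩
      exact (congrArg Subtype.val (h ⟨x, hPS hx⟩ ((hmemH _).2 hx))).symm
    rw [hC, Subgroup.mem_bot] at this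
    exact Subtype.ext this
  have hk : PF9.IsChiefKernel (Cfsg.fittingHall S) (U.subgroupOf S) ⊥ := by
    refine ⟨inferInstance, bot_lt_iff_ne_bot.2 fun e => ?_, fun N hN _ hle => ?_, fun h => ?_⟩
    · have h1 := F₀.P_card
      rw [Cfsg.fittingHallOf, e, Subgroup.map_bot, Subgroup.card_bot] at h1
      have := Nat.one_lt_pow F₀.q_prime.ne_zero F₀.p_prime.one_lt
      omega
    · haveI := hN
      have hnorm : S ≤ Subgroup.normalizer ((N.map S.subtype : Subgroup G) : Set G) :=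
        le_normalizer_map_subtype S N
      rcases F₀.minimal (Subgroup.map_mono hle) (hUS.trans hnorm) (hWS.trans hnorm) with h | h
      · exact Or.inl ((Subgroup.map_eq_bot_iff_of_injective _ S.subtype_injective).1 h)
      · exact Or.inr (Subgroup.map_injective S.subtype_injective h)
    · obtain ⟨a, ha, ha1⟩ := U.bot_or_exists_ne_one.resolve_left F₀.U_ne
      refine ha1 (congrArg Subtype.val (hU1 ⟨a, hUS ha⟩ ha fun x hx => ?_))
      exact commutatorElement_eq_one_iff_mul_comm.1 (Subgroup.mem_bot.1 (h ⟨a, hUS ha⟩ ha x hx))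
  obtain ⟨p, C, hCdef, -, -, h6, hpW, h7, h7f, -, -⟩ := hpkg ⊥ hk
  have hcard2 : Nat.card (W₂.subgroupOf S) = Nat.card W₂ := PF9.Setup.card_subgroupOf hW₂S
  have hcard1 : Nat.card (W₁.subgroupOf S) = Nat.card W₁ := PF9.Setup.card_subgroupOf hWS
  obtain rfl : p = Nat.card W₂ := hcard2 ▸ hpW (hcard2.symm ▸ F₀.p_prime)
  have hC0 : C = ⊥ := (Subgroup.eq_bot_iff_forall _).2 fun a ha => by
    obtain ⟨haU, hac⟩ := (hCdef a).1 ha
    exact hU1 a haU fun x hx =>
      commutatorElement_eq_one_iff_mul_comm.1 (Subgroup.mem_bot.1 (hac x hx))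
  subst hC0
  by_cases hgal : PF9.IsGalois (Cfsg.fittingHall S) (U.subgroupOf S) ⊥
  · left
    obtain ⟨hdvd, hcop, hfpf, ⟨g, hg, hgen⟩⟩ := h7.galois hgal
    rw [Subgroup.relIndex_bot_left, PF9.Setup.card_subgroupOf hUS] at hdvd hcop
    rw [hcard1] at hdvd
    refine ⟨?_, ?_, hcop, fun a ha ha1 x hx hc => ?_, ?_⟩
    · haveI : IsCyclic (U.subgroupOf S) := by
        refine ⟨⟨⟨g, hg⟩, fun b => ?_⟩⟩
        obtain ⟨n, hn⟩ := hgen b b.2
        rw [Subgroup.mem_bot, mul_inv_eq_one] at hn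
        exact ⟨n, Subtype.ext (by simpa using hn.symm)⟩
      exact isCyclic_of_surjective _ (Subgroup.subgroupOfEquivOfLe hUS).surjective
    · refine Nat.dvd_of_mul_dvd_mul_right ?_ (hdvd.trans (dvd_of_eq (Arith.geo_mul F₀.p_prime.pos).symm))
      have := F₀.p_prime.two_le
      omega
    · refine congrArg Subtype.val (Subgroup.mem_bot.1 (hfpf ⟨a, hUS ha⟩ ha ?_ ⟨x, hPS hx⟩
        ((hmemH _).2 hx) ?_))
      · rw [Subgroup.mem_bot]; exact fun e => ha1 (congrArg Subtype.val e)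
      · rw [Subgroup.mem_bot, commutatorElement_eq_one_iff_mul_comm]; exact Subtype.ext hc
    obtain ⟨K, iK, iKf, f, ψ, hKc, hadd, hsurj, hzero, hmul, hψmul, hψone, hW⟩ := h7f hgal
    rw [hcard1] at hKc
    refine ⟨K, iK, iKf, fun x => if h : x ∈ S then f ⟨x, h⟩ else 0,
      fun x => if h : x ∈ S then ψ ⟨x, h⟩ else 0, hKc, ⟨fun _ _ => Set.mem_univ _, ?_, ?_⟩, ?_, ?_,
      ?_, ?_, ?_⟩
    · intro x hx y hy e
      simp only [dif_pos (hPS hx), dif_pos (hPS hy)] at e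
      have hm : (⟨x, hPS hx⟩ : S) * ⟨y, hPS hy⟩⁻¹ ∈ Cfsg.fittingHall S :=
        mul_mem ((hmemH _).2 hx) (inv_mem ((hmemH _).2 hy))
      have h0 := hadd _ hm ⟨y, hPS hy⟩ ((hmemH ⟨y, hPS hy⟩).2 hy)
      rw [inv_mul_cancel_right, e, eq_comm, add_eq_right, hzero _ hm, Subgroup.mem_bot,
        mul_inv_eq_one] at h0
      exact congrArg Subtype.val h0
    · intro z _
      obtain ⟨x, hx, rfl⟩ := hsurj z
      exact ⟨x, (hmemH x).1 hx, by simp⟩
    · intro x hx y hy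
      simp only [dif_pos (hPS hx), dif_pos (hPS hy), dif_pos (mul_mem (hPS hx) (hPS hy))]
      exact hadd ⟨x, hPS hx⟩ ((hmemH _).2 hx) ⟨y, hPS hy⟩ ((hmemH _).2 hy)
    · intro a ha
      simp only [dif_pos (hUS ha)]
      refine ⟨(hmul ⟨a, hUS ha⟩ ha).1, fun x hx => ?_⟩
      simp only [dif_pos (hPS hx), dif_pos (mul_mem (mul_mem (hUS ha) (hPS hx)) (inv_mem (hUS ha)))]
      exact (hmul ⟨a, hUS ha⟩ ha).2 ⟨x, hPS hx⟩ ((hmemH _).2 hx)
    · intro a ha b hb
      simp only [dif_pos (hUS ha), dif_pos (hUS hb), dif_pos (mul_mem (hUS ha) (hUS hb))]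
      exact hψmul ⟨a, hUS ha⟩ ha ⟨b, hUS hb⟩ hb
    · intro a ha b hb e
      simp only [dif_pos (hUS ha), dif_pos (hUS hb)] at e
      have hm : (⟨a, hUS ha⟩ : S) * ⟨b, hUS hb⟩⁻¹ ∈ U.subgroupOf S :=
        mul_mem (Subgroup.mem_subgroupOf.2 ha) (inv_mem (Subgroup.mem_subgroupOf.2 hb))
      have h0 := hψmul _ hm ⟨b, hUS hb⟩ (Subgroup.mem_subgroupOf.2 hb)
      rw [inv_mul_cancel_right, e] at h0
      have h1 := (hψone _ hm).1 ((mul_eq_right₀ (hmul ⟨b, hUS hb⟩ hb).1).1 h0.symm)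
      rw [Subgroup.mem_bot, mul_inv_eq_one] at h1
      exact congrArg Subtype.val h1
    · intro x hx
      simp only [dif_pos (hPS hx)]
      rw [hW ⟨x, hPS hx⟩ ((hmemH _).2 hx), sup_bot_eq, Subgroup.mem_subgroupOf]
  · right
    obtain ⟨H₁, K₁, hlt, hH₁, -, -, hsup, hK₁, -, h2k, hdvd⟩ := h7.nonGalois hgal
    rw [Subgroup.relIndex_bot_left, PF9.Setup.card_subgroupOf hUS, hcard1] at hdvd
    have hK₁U : K₁ ≤ U.subgroupOf S := fun a ha => ((hK₁ a).1 ha).1
    have hK₁n : (K₁.subgroupOf (U.subgroupOf S)).Normal := by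
      refine ⟨fun x hx y => ?_⟩
      have : y * x * y⁻¹ = x := Subtype.ext (Subtype.ext (by
        push_cast
        rw [F₀.U_comm _ (Subgroup.mem_subgroupOf.1 y.2) _ (Subgroup.mem_subgroupOf.1 x.2), mul_inv_cancel_right]))
      rwa [this]
    -- the `k`-th powers centralise the conjugates of `H₁`, hence `P`
    have hexp : ∀ a : S, (a : G) ∈ U → a ^ K₁.relIndex (U.subgroupOf S) = 1 := by
      intro a ha
      refine hU1 _ (by push_cast; exact pow_mem ha _) fun x hx => ?_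
      rw [← hsup] at hx
      suffices ⨆ w ∈ W₁.subgroupOf S, H₁.map (MulAut.conj w).toMonoidHom ≤
          Subgroup.centralizer {a ^ K₁.relIndex (U.subgroupOf S)} by
        exact ((Subgroup.mem_centralizer_singleton_iff.1 (this hx))).symm
      refine iSup₂_le fun w hw => ?_
      rintro _ ⟨y, hy, rfl⟩
      set b : S := w⁻¹ * a * w with hb
      have hbU : (b : G) ∈ U := by
        rw [hb]
        push_cast
        have := F₀.conj_U (inv_mem (Subgroup.mem_subgroupOf.1 hw)) ha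
        rwa [inv_inv] at this
      have hmem : b ^ K₁.relIndex (U.subgroupOf S) ∈ K₁ := by
        have := Subgroup.pow_index_mem (K₁.subgroupOf (U.subgroupOf S)) ⟨b, hbU⟩
        rw [Subgroup.mem_subgroupOf, SubgroupClass.coe_pow] at this
        exact this
      have hc := commutatorElement_eq_one_iff_mul_comm.1
        (Subgroup.mem_bot.1 (((hK₁ _).1 hmem).2 y hy))
      have e : a ^ K₁.relIndex (U.subgroupOf S) = w * b ^ K₁.relIndex (U.subgroupOf S) * w⁻¹ := by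
        rw [hb, ← conj_pow]; congr 1; group
      rw [Subgroup.mem_centralizer_singleton_iff, e]
      simp only [MulEquiv.coe_toMonoidHom, MulAut.conj_apply]
      calc w * y * w⁻¹ * (w * b ^ K₁.relIndex (U.subgroupOf S) * w⁻¹)
          = w * (y * b ^ K₁.relIndex (U.subgroupOf S)) * w⁻¹ := by group
        _ = w * (b ^ K₁.relIndex (U.subgroupOf S) * y) * w⁻¹ := by rw [hc]
        _ = _ := by group
    refine ⟨K₁.relIndex (U.subgroupOf S), K₁.map S.subtype, h2k, hdvd, fun a ha => ?_, ?_, ?_, ?_⟩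
    · exact congrArg Subtype.val (hexp ⟨a, hUS ha⟩ ha)
    · rintro _ ⟨a, ha, rfl⟩; exact hK₁U ha
    · rw [Subgroup.card_map_of_injective S.subtype_injective, ← PF9.Setup.card_subgroupOf hUS,
        ← Subgroup.card_mul_index (K₁.subgroupOf (U.subgroupOf S)),
        Nat.card_congr (Subgroup.subgroupOfEquivOfLe hK₁U).toEquiv]
      rfl
    · rw [Ne, Subgroup.eq_bot_iff_forall]
      intro h
      refine hlt.ne' ((Subgroup.eq_bot_iff_forall _).2 fun x hx => ?_)
      refine Subtype.ext (h x ⟨(hmemH x).1 (hH₁ hx), Subgroup.mem_centralizer_iff.2 ?_⟩)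
      rintro _ ⟨a, ha, rfl⟩
      exact congrArg Subtype.val (commutatorElement_eq_one_iff_mul_comm.1
        (Subgroup.mem_bot.1 (((hK₁ a).1 ha).2 x hx)))

end Cfsg.Agent.Lib.OddOrder.PF14
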