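import Cfsg.Agent.Lib.OddOrder.TypeOne
import Cfsg.Agent.Lib.OddOrder.Interface.PF8
import Cfsg.Agent.Lib.OddOrder.Interface.PF12
import Cfsg.Agent.Lib.OddOrder.Interface.PF13

/-!
# Peterfalvi 14: what the section consumes from the earlier ones

`bg16` is §16 of the local analysis, `s18` is (8.18); `frobenius`, `coherent` are (12.7), (12.6);
`pair`, `cent`, `core`, `normU` are the statements S1543, S1547, (13.12) and S1549.
-/

set_option autoImplicit false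

namespace Cfsg.Agent.Lib.OddOrder.PF14

universe u

/-- The common hypotheses on a pair (Hypothesis 13.1). -/
structure Pair {G : Type u} [Group G] (S T W₁ W₂ U V : Subgroup G) : Prop where
  maxS : IsCoatom S
  maxT : IsCoatom T
  dataS : Cfsg.IsTypePWith S W₁ U W₂
  dataT : Cfsg.IsTypePWith T W₂ V W₁
  meet : S ⊓ T = W₁ ⊔ W₂
  typeII : Cfsg.IsOfTypeII S ∨ Cfsg.IsOfTypeII T
  typeS : Cfsg.IsOfTypeII S ∨ Cfsg.IsOfTypeIII S ∨ Cfsg.IsOfTypeIV S ∨ Cfsg.IsOfTypeV S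
  typeT : Cfsg.IsOfTypeII T ∨ Cfsg.IsOfTypeIII T ∨ Cfsg.IsOfTypeIV T ∨ Cfsg.IsOfTypeV T

theorem Pair.symm {G : Type u} [Group G] {S T W₁ W₂ U V : Subgroup G}
    (h : Pair S T W₁ W₂ U V) : Pair T S W₂ W₁ V U :=
  ⟨h.maxT, h.maxS, h.dataT, h.dataS, by rw [inf_comm, h.meet, sup_comm], h.typeII.symm, h.typeT,
    h.typeS⟩

open Interface in
/-- The facts consumed. -/
structure Inputs (G : Type u) [Group G] [Fintype G] : Prop where
  minSimple : Cfsg.IsMinSimpleOddOrder G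
  bg16 : PF8.BG16 G
  s18 : PF8.Step_8_18 G
  frobenius : PF12.Step_12_7 G
  coherent : PF12.Step_12_6 G
  pair : ∀ S T W₁ W₂ U V : Subgroup G, Pair S T W₁ W₂ U V →
    (Cfsg.IsOfTypeII S ∨ Cfsg.IsOfTypeIII S) ∧
      (Nat.card W₁ < Nat.card W₂ → Cfsg.IsOfTypeII S) ∧
      Cfsg.IsElementaryAbelian (Nat.card W₂) (Cfsg.fittingHallOf S) ∧
      Nat.card (Cfsg.fittingHallOf S) = Nat.card W₂ ^ Nat.card W₁ ∧
      Cfsg.IsTISubset (Cfsg.Agent.Lib.OddOrder.TypeOne.typeA0 S) ∧ Subgroup.normalizer (Cfsg.Agent.Lib.OddOrder.TypeOne.typeA0 S) = S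
  cent : ∀ S T W₁ W₂ U V : Subgroup G, Pair S T W₁ W₂ U V →
    U ⊓ Subgroup.centralizer ((Cfsg.fittingHallOf S : Subgroup G) : Set G) = ⊥
  core : ∀ S T W₁ W₂ U V : Subgroup G, Pair S T W₁ W₂ U V → PF13.CoreResult S T W₁ W₂ U V
  normU : ∀ S T W₁ W₂ U V : Subgroup G, Pair S T W₁ W₂ U V → Cfsg.IsOfTypeII S →
    ∀ L : Subgroup G, IsCoatom L → Subgroup.normalizer (U : Set G) ≤ L →
      (∀ x ∈ Cfsg.fittingHallOf L, x ≠ 1 →
          L ⊓ Subgroup.centralizer ({x} : Set G) ≤ Cfsg.fittingHallOf L) ∧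
        U ≤ Cfsg.fittingHallOf L ∧
        ((Cfsg.fittingHallOf L ⊓ W₁ = ⊥ ∧ Cfsg.fittingHallOf L ⊔ W₁ = L) ∨
          ∃ y ∈ Cfsg.fittingHallOf T,
            Cfsg.fittingHallOf L ⊓ (W₁ ⊔ W₂.map (MulAut.conj y).toMonoidHom) = ⊥ ∧
            Cfsg.fittingHallOf L ⊔ (W₁ ⊔ W₂.map (MulAut.conj y).toMonoidHom) = L)

end Cfsg.Agent.Lib.OddOrder.PF14
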