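import Cfsg.Agent.Lib.OddOrder.TypeOne
import Cfsg.Agent.Lib.OddOrder.PF14.Galois
import Cfsg.Agent.Lib.OddOrder.PF14.Inputs
import Cfsg.Agent.Lib.OddOrder.PF8.TypeP
import Cfsg.Agent.Lib.OddOrder.PF8.Dade
import Cfsg.Agent.Lib.OddOrder.MinSimple

/-!
# Peterfalvi 14: the pair `S, T` and the subgroup `L ⊇ N(U)`

* every maximal subgroup is of type I or conjugate to `S` or to `T`, and these are not conjugate;
* `T` is in the Galois case with `|V| = (q^p - 1)/(q - 1)`, and so is `S` with `|U|` maximal or a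
  `q`-th of that, or else `q = 3` and `|U| = ((p - 1)/2)²`;
* the data of a maximal subgroup `L` containing `N(U)`.
-/

set_option autoImplicit false
set_option linter.style.haveILetI false

open scoped commutatorElement Pointwise

namespace Cfsg.Agent.Lib.OddOrder.PF14

open Cfsg.Agent.Lib.OddOrder.Basic
open Cfsg.Agent.Lib.OddOrder.PF13 (Facts)

universe u

variable {G : Type u} [Group G] [Fintype G] {S T W₁ W₂ U V : Subgroup G}

theorem data_of (I : Inputs G) (h : Pair S T W₁ W₂ U V) :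
    U ≠ ⊥ ∧ (Nat.card W₁).Prime ∧ Cfsg.IsTISubset (Cfsg.fittingOf S : Set G) ∧ IsMulCommutative U := by
  rcases (I.pair S T W₁ W₂ U V h).1 with hs | hs
  · obtain ⟨h1, h2, h3, h4, -⟩ := PF8.TypeP.II_facts h.dataS hs
    exact ⟨h1, h2, h3, h4⟩
  · obtain ⟨h1, h2, h3, h4, -⟩ := PF8.TypeP.III_facts h.dataS hs
    exact ⟨h1, h2, h3, h4⟩

theorem facts (I : Inputs G) (h : Pair S T W₁ W₂ U V) : Facts S W₁ U W₂ := by
  obtain ⟨hU, hq, hTI, hc⟩ := data_of I h
  obtain ⟨-, hp, -, -⟩ := data_of I h.symm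
  obtain ⟨-, -, hPe, hPc, -⟩ := I.pair S T W₁ W₂ U V h
  exact ⟨h.maxS, h.dataS, I.minSimple.1, MinSimple.isSimpleGroup I.minSimple, hU,
    fun x hx y hy => congrArg Subtype.val (hc.is_comm.comm ⟨x, hx⟩ ⟨y, hy⟩), hq, hp,
    fun x hx y hy => congrArg Subtype.val (hPe.1.is_comm.comm ⟨x, hx⟩ ⟨y, hy⟩), hPe.2, hPc, hTI⟩

theorem five_le (I : Inputs G) (h : Pair S T W₁ W₂ U V) (hlt : Nat.card W₁ < Nat.card W₂) :
    3 ≤ Nat.card W₁ ∧ 5 ≤ Nat.card W₂ := by
  have F := facts I h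
  have h2 := F.q_ne_two
  have h3 := F.p_ne_two
  have := F.q_prime.two_le
  refine ⟨by omega, ?_⟩
  by_contra hp
  have hp' := F.p_prime
  rw [show Nat.card W₂ = 4 by omega] at hp'
  norm_num at hp'

/-- `S` and `T` are not conjugate. -/
theorem not_conj (I : Inputs G) (h : Pair S T W₁ W₂ U V) (g : G) :
    T.map (MulAut.conj g).toMonoidHom ≠ S := by
  intro e
  refine (facts I h).p_ne_q ?_
  have h1 := PF8.TypeP.card_W₁ h.dataT
  rw [← PF8.Conj.im_relIndex (MulAut.conj g), PF8.Conj.im_commutator] at h1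
  rw [PF8.TypeP.card_W₁ h.dataS, h1]
  simp only [PF8.Conj.im, e]

/-- The classification of the maximal subgroups relative to the pair. -/
theorem typeI_or_conj (I : Inputs G) (h : Pair S T W₁ W₂ U V) {M : Subgroup G} (hM : IsCoatom M) :
    Cfsg.Agent.Lib.OddOrder.TypeOne.IsTypeI M ∨ ∃ g : G,
      M = S.map (MulAut.conj g).toMonoidHom ∨ M = T.map (MulAut.conj g).toMonoidHom := by
  have hnS := PF8.TypeP.not_typeI (PF8.TypeP.isOfTypeP_of h.typeS)
  have hnT := PF8.TypeP.not_typeI (PF8.TypeP.isOfTypeP_of h.typeT)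
  rcases I.bg16.structureThm with hall | ⟨A, B, S₀, T₀, -, -, -, -, -, -, -, -, -, hcl⟩
  · exact absurd (hall S h.maxS) hnS
  obtain ⟨gS, hgS⟩ := (hcl S h.maxS).resolve_left hnS
  obtain ⟨gT, hgT⟩ := (hcl T h.maxT).resolve_left hnT
  rcases hcl M hM with hI | ⟨g, hg⟩
  · exact Or.inl hI
  right
  have back : ∀ {X Y : Subgroup G} {a : G}, X = Y.map (MulAut.conj a).toMonoidHom →
      M = Y.map (MulAut.conj g).toMonoidHom → ∃ c : G, M = X.map (MulAut.conj c).toMonoidHom := by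
    intro X Y a e1 e2
    refine ⟨g * a⁻¹, ?_⟩
    rw [e2, e1, show (Y.map (MulAut.conj a).toMonoidHom).map (MulAut.conj (g * a⁻¹)).toMonoidHom =
      Y.map (MulAut.conj (g * a⁻¹ * a)).toMonoidHom from PF8.TypeP.im_conj_mul _ _ Y,
      inv_mul_cancel_right]
  rcases hgS with hgS | hgS <;> rcases hgT with hgT | hgT
  · exact False.elim (not_conj I h (gS * gT⁻¹) (by
      rw [hgT, hgS]
      exact (PF8.TypeP.im_conj_mul _ _ S₀).trans (by rw [inv_mul_cancel_right])))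
  · rcases hg with hg | hg
    · exact ⟨_, Or.inl (back hgS hg).choose_spec⟩
    · exact ⟨_, Or.inr (back hgT hg).choose_spec⟩
  · rcases hg with hg | hg
    · exact ⟨_, Or.inr (back hgT hg).choose_spec⟩
    · exact ⟨_, Or.inl (back hgS hg).choose_spec⟩
  · exact False.elim (not_conj I h (gS * gT⁻¹) (by
      rw [hgT, hgS]
      exact (PF8.TypeP.im_conj_mul _ _ T₀).trans (by rw [inv_mul_cancel_right])))

/-- `v` is maximal and `T` is in the Galois case; `S` is, or has the exceptional shape. -/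
theorem shape (I : Inputs G) (h : Pair S T W₁ W₂ U V) (hlt : Nat.card W₁ < Nat.card W₂) :
    Nat.card V = Arith.geo (Nat.card W₁) (Nat.card W₂) ∧ GaloisData T W₂ V W₁ ∧
    ((GaloisData S W₁ U W₂ ∧ (Nat.card U = Arith.geo (Nat.card W₂) (Nat.card W₁) ∨
        (Nat.card W₁ ∣ Nat.card W₂ - 1 ∧
          Nat.card U * Nat.card W₁ = Arith.geo (Nat.card W₂) (Nat.card W₁)))) ∨
      ∃ k K₁, NonGaloisData S W₁ U W₂ k K₁ ∧ Nat.card W₁ = 3 ∧ 2 * k + 1 = Nat.card W₂ ∧
        Nat.card U = k ^ 2) := by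
  have FS := facts I h
  have FT := facts I h.symm
  have hcore := I.core S T W₁ W₂ U V h
  obtain ⟨-, -, hu, hv⟩ := hcore
  obtain ⟨hq3, hp5⟩ := five_le I h hlt
  rw [Arith.eq_geo_iff (by omega), Arith.eq_geo_iff (by omega)] at hu hv
  have hTcases := galois_or_not I.minSimple FT (I.cent T S W₂ W₁ V U h.symm)
  have hvgeo : Nat.card V = Arith.geo (Nat.card W₁) (Nat.card W₂) := by
    rcases hv with hv | ⟨hu', hin⟩
    · exact hv
    have hb := Arith.bound_v (by omega) (by omega) hu' hin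
    rcases hTcases with hG | ⟨k, K₁, hN⟩
    · exact Arith.galois_v FS.p_prime FS.q_prime FS.q_ne_two hlt hu' hG.card_dvd hin
    · exact (Arith.nonGalois_v hp5 hq3 hN.two_dvd hN.card_dvd hb).elim
  have hTG : GaloisData T W₂ V W₁ := by
    rcases hTcases with hG | ⟨k, K₁, hN⟩
    · exact hG
    refine (Arith.nonGalois_v hp5 hq3 hN.two_dvd hN.card_dvd ?_).elim
    have h1 := Arith.pow_lt_geo (p := Nat.card W₁) (q := Nat.card W₂) (by omega) (by omega)
    rw [← hvgeo] at h1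
    calc _ ≤ Nat.card W₁ ^ (Nat.card W₂ - 1) * Nat.card W₂ ^ 2 :=
          Nat.mul_le_mul_left _ ((Nat.sub_le _ _).trans (Nat.le_self_pow two_ne_zero _))
      _ ≤ Nat.card V * Nat.card W₂ ^ 2 := Nat.mul_le_mul_right _ (by omega)
      _ = _ := mul_comm _ _
  refine ⟨hvgeo, hTG, ?_⟩
  have hbound : 80 * Nat.card W₂ ^ (Nat.card W₁ - 1) * (Nat.card W₁ - 2) ≤
      81 * Nat.card W₁ * (Nat.card W₁ - 1) * Nat.card U := by
    rcases hu with hu | ⟨hv', hin⟩
    · have h1 := Arith.pow_lt_geo (p := Nat.card W₂) (q := Nat.card W₁) (by omega) (by omega)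
      rw [← hu] at h1
      calc 80 * Nat.card W₂ ^ (Nat.card W₁ - 1) * (Nat.card W₁ - 2)
          = 80 * (Nat.card W₁ - 2) * Nat.card W₂ ^ (Nat.card W₁ - 1) := by ring
        _ ≤ 81 * Nat.card W₁ * (Nat.card W₁ - 1) * Nat.card U := by
          refine Nat.mul_le_mul ?_ (by omega)
          calc 80 * (Nat.card W₁ - 2) ≤ 81 * Nat.card W₁ * 1 := by omega
            _ ≤ _ := Nat.mul_le_mul_left _ (by omega)
    · exact Arith.bound_u hp5 hq3 hv' hin
  rcases galois_or_not I.minSimple FS (I.cent S T W₁ W₂ U V h) with hG | ⟨k, K₁, hN⟩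
  · exact Or.inl ⟨hG, Arith.galois_u FS.p_prime FS.q_prime FS.q_ne_two hlt hG.card_dvd
      FS.not_dvd_q hbound⟩
  · obtain ⟨e3, ek, eu⟩ := Arith.nonGalois_u FS.q_prime FS.q_ne_two hp5
      (FS.p_prime.odd_of_ne_two FS.p_ne_two) hN.two_dvd hN.card_dvd hbound
    exact Or.inr ⟨k, K₁, hN, e3, ek, eu⟩

/-- The data of a maximal subgroup `L ⊇ N(U)`, `S` of type II. -/
structure LData (S T W₁ W₂ U : Subgroup G) (L : Subgroup G) : Prop where
  max : IsCoatom L
  le : Subgroup.normalizer (U : Set G) ≤ L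
  typeI : Cfsg.Agent.Lib.OddOrder.TypeOne.IsTypeI L
  frob : ∀ x ∈ Cfsg.fittingHallOf L, x ≠ 1 →
    L ⊓ Subgroup.centralizer ({x} : Set G) ≤ Cfsg.fittingHallOf L
  U_le : U ≤ Cfsg.fittingHallOf L
  meet_S : Cfsg.fittingHallOf L ⊓ S = U
  compl : (Cfsg.IsComplIn (Cfsg.fittingHallOf L) W₁ L) ∨
    ∃ y ∈ Cfsg.fittingHallOf T,
      Cfsg.IsComplIn (Cfsg.fittingHallOf L) (W₁ ⊔ W₂.map (MulAut.conj y).toMonoidHom) L

theorem isComplIn_of_sup {A B L : Subgroup G} (hB : B ≤ Subgroup.normalizer (A : Set G))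
    (h1 : A ⊓ B = ⊥) (h2 : A ⊔ B = L) : Cfsg.IsComplIn A B L := by
  refine ⟨h2 ▸ le_sup_left, h2 ▸ le_sup_right, h1, fun m hm => ?_⟩
  rw [← h2, ← SetLike.mem_coe, Subgroup.coe_mul_of_right_le_normalizer_left A B hB] at hm
  obtain ⟨a, ha, b, hb, rfl⟩ := hm
  exact ⟨a, ha, b, hb, rfl⟩

theorem exists_LData_of (I : Inputs G) (h : Pair S T W₁ W₂ U V) (hII : Cfsg.IsOfTypeII S) :
    ∃ L, LData S T W₁ W₂ U L := by
  have FS := facts I h
  obtain ⟨L, hL, hNL⟩ := MinSimple.exists_coatom_ge I.minSimple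
    (MinSimple.normalizer_ne_top I.minSimple FS.U_ne fun e => by
      have : S = ⊤ := top_le_iff.1 (e ▸ FS.U_le)
      exact h.maxS.1 this)
  obtain ⟨hfr, hUH, hcase⟩ := I.normU S T W₁ W₂ U V h hII L hL hNL
  have FT := facts I h.symm
  have key : ∀ g : G, L = S.map (MulAut.conj g).toMonoidHom ∨
      L = T.map (MulAut.conj g).toMonoidHom → False := by
    intro g hg
    obtain ⟨a, ha, ha1⟩ := U.bot_or_exists_ne_one.resolve_left FS.U_ne
    have hd : orderOf a ∣ Nat.card U := U.orderOf_dvd_natCard ha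
    have hd' : orderOf a ∣ Nat.card (Cfsg.fittingHallOf L) :=
      (Cfsg.fittingHallOf L).orderOf_dvd_natCard (hUH ha)
    have hne : orderOf a ≠ 1 := fun e => ha1 (orderOf_eq_one_iff.1 e)
    obtain ⟨r, hr, hra⟩ := Nat.exists_prime_and_dvd hne
    rcases hg with e | e
    · rw [e, ← PF8.Conj.im_fittingHallOf (MulAut.conj g), PF8.Conj.im_card, FS.P_card] at hd'
      exact FS.not_dvd_p ((Nat.prime_dvd_prime_iff_eq hr FS.p_prime).1
        (hr.dvd_of_dvd_pow (hra.trans hd')) ▸ hra.trans hd)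
    · rw [e, ← PF8.Conj.im_fittingHallOf (MulAut.conj g), PF8.Conj.im_card, FT.P_card] at hd'
      exact FS.not_dvd_q ((Nat.prime_dvd_prime_iff_eq hr FS.q_prime).1
        (hr.dvd_of_dvd_pow (hra.trans hd')) ▸ hra.trans hd)
  have hI : Cfsg.Agent.Lib.OddOrder.TypeOne.IsTypeI L := by
    rcases typeI_or_conj I h hL with hI | ⟨g, hg⟩
    · exact hI
    · exact (key g hg).elim
  have hLn : L ≤ Subgroup.normalizer (Cfsg.fittingHallOf L : Set G) := fittingHallOf_normal L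
  refine ⟨L, hL, hNL, hI, hfr, hUH, ?_, ?_⟩
  · -- `H ∩ S` has order prime to `p q`, so it is `U`
    refine le_antisymm ?_ (le_inf hUH FS.U_le)
    have hncS : ∀ g : G, S.map (MulAut.conj g).toMonoidHom ≠ L := fun g e => key g (Or.inl e.symm)
    have hncT : ∀ g : G, T.map (MulAut.conj g).toMonoidHom ≠ L := fun g e => key g (Or.inr e.symm)
    have hPc : (Nat.card (Cfsg.fittingHallOf L)).Coprime (Nat.card (Cfsg.fittingHallOf S)) :=
      ((I.s18.core_coprime L S hL h.maxS hncS).coprime_dvd_left (Subgroup.card_dvd_of_le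
        (PF8.Dade.fittingHallOf_le_typeCore I.bg16 hL))).coprime_dvd_right (Subgroup.card_dvd_of_le
        (PF8.Dade.fittingHallOf_le_typeCore I.bg16 h.maxS))
    have hQc : (Nat.card (Cfsg.fittingHallOf L)).Coprime (Nat.card (Cfsg.fittingHallOf T)) :=
      ((I.s18.core_coprime L T hL h.maxT hncT).coprime_dvd_left (Subgroup.card_dvd_of_le
        (PF8.Dade.fittingHallOf_le_typeCore I.bg16 hL))).coprime_dvd_right (Subgroup.card_dvd_of_le
        (PF8.Dade.fittingHallOf_le_typeCore I.bg16 h.maxT))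
    rw [FT.P_card] at hQc
    have hq' := (Nat.coprime_pow_right_iff (Nat.card_pos (α := W₂)) _ _).1 hQc
    set H' := Cfsg.fittingHallOf L ⊓ S
    have hdH : Nat.card H' ∣ Nat.card U := by
      have h1 : Nat.card H' ∣ Nat.card S := Subgroup.card_dvd_of_le inf_le_right
      rw [FS.card_S, mul_assoc] at h1
      refine ((hq'.coprime_dvd_left (Subgroup.card_dvd_of_le inf_le_left)).dvd_of_dvd_mul_right ?_)
      exact (hPc.coprime_dvd_left (Subgroup.card_dvd_of_le inf_le_left)).dvd_of_dvd_mul_left h1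
    exact (Subgroup.eq_of_le_of_card_ge (le_inf hUH FS.U_le) (Nat.le_of_dvd Nat.card_pos hdH)).ge
  · rcases hcase with ⟨h1, h2⟩ | ⟨y, hy, h1, h2⟩
    · exact Or.inl (isComplIn_of_sup (le_sup_right.trans (h2.le.trans hLn)) h1 h2)
    · exact Or.inr ⟨y, hy, isComplIn_of_sup (le_sup_right.trans (h2.le.trans hLn)) h1 h2⟩

theorem exists_LData (I : Inputs G) (h : Pair S T W₁ W₂ U V) (hlt : Nat.card W₁ < Nat.card W₂) :
    ∃ L, LData S T W₁ W₂ U L :=
  exists_LData_of I h ((I.pair S T W₁ W₂ U V h).2.1 hlt)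

end Cfsg.Agent.Lib.OddOrder.PF14
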