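import Cfsg.Agent.Lib.OddOrder.PF14.Probe

/-!
# Peterfalvi 14: the function of a side `S = P U W₁`

For the characters `ψ ≠ 1` of `W` killing `W₁`, a family `Φ ψ` of induced functions supported on the
conjugates of `A₀(S)`, agreeing with `1 - η ψ` off the factors.  Then `D = Φ ψ - 1 + η ψ` is real and
does not depend on `ψ`; against a probe on a disjoint set it gives a parity and a bound.
-/

set_option autoImplicit false
set_option linter.style.haveILetI false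

namespace Cfsg.Agent.Lib.OddOrder.PF14

open Cfsg.Agent.Lib.Isometry.Inner
open Cfsg.Agent.Lib.CyclicTI (IsP IsQ)
open Vec

universe u

variable {G : Type u} [Group G] [Fintype G]

/-- The data of a side. -/
structure SideData {W₁ W₂ : Subgroup G} (η : (↥(W₁ ⊔ W₂) →* ℂˣ) → G → ℂ) where
  Z : Set G
  N : ℕ
  Φ : (↥(W₁ ⊔ W₂) →* ℂˣ) → G → ℂ
  gen : ∀ ψ, IsQ ψ → ψ ≠ 1 → Cfsg.IsGeneralizedCharacter G (Φ ψ)
  one : ∀ ψ, IsQ ψ → ψ ≠ 1 → co (Φ ψ) (fun _ => 1) = 1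
  norm : ∀ ψ, IsQ ψ → ψ ≠ 1 → co (Φ ψ) (Φ ψ) = N + 2
  inner : ∀ ψ ψ', IsQ ψ → ψ ≠ 1 → IsQ ψ' → ψ' ≠ 1 → ψ ≠ ψ' → co (Φ ψ) (Φ ψ') = N + 1
  supp : ∀ ψ, IsQ ψ → ψ ≠ 1 → ∀ g, g ∉ Z → Φ ψ g = 0
  conj : ∀ ψ, IsQ ψ → ψ ≠ 1 → Cfsg.conjFun (Φ ψ) = Φ ψ⁻¹
  eq_on : ∀ ψ, IsQ ψ → ψ ≠ 1 → Table.Vanishes W₁ W₂ (Φ ψ - ((fun _ => 1) - η ψ))

namespace SideData

variable {W₁ W₂ : Subgroup G} {η : (↥(W₁ ⊔ W₂) →* ℂˣ) → G → ℂ} (X : SideData η)

local notation "Gen" => Cfsg.IsGeneralizedCharacter G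

/-- `D ψ = Φ ψ - 1 + η ψ`. -/
def D (ψ : ↥(W₁ ⊔ W₂) →* ℂˣ) : G → ℂ := X.Φ ψ - ((fun _ => 1) - η ψ)

theorem isQ_inv {ψ : ↥(W₁ ⊔ W₂) →* ℂˣ} (h : IsQ ψ) : IsQ ψ⁻¹ := fun w hw => by
  rw [show (ψ⁻¹) w = (ψ w)⁻¹ from rfl, h w hw, inv_one]

variable (F : Table.Fam W₁ W₂ η)
include F

theorem gen_D {ψ : ↥(W₁ ⊔ W₂) →* ℂˣ} (h : IsQ ψ) (h1 : ψ ≠ 1) : Gen (X.D ψ) :=
  gen_sub (X.gen ψ h h1) (gen_sub gen_one (Table.gen F ψ))

/-- `D` does not depend on `ψ`. -/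
theorem D_eq {ψ ψ' : ↥(W₁ ⊔ W₂) →* ℂˣ} (h : IsQ ψ) (h1 : ψ ≠ 1) (h' : IsQ ψ') (h1' : ψ' ≠ 1) :
    X.D ψ = X.D ψ' := by
  by_cases e : ψ = ψ'
  · rw [e]
  have g1 := X.gen ψ h h1
  have g2 := X.gen ψ' h' h1'
  have hE : X.Φ ψ' - X.Φ ψ = η ψ - η ψ' := by
    refine Table.eq_eta_sub F (gen_sub g2 g1) ?_ ?_ h h' h1 h1' e ?_
    · rw [co_sub_left g2 g1 (gen_sub g2 g1), co_sub_right g2 g2 g1, co_sub_right g1 g2 g1,
        co_comm g2 g1, X.norm ψ h h1, X.norm ψ' h' h1', X.inner ψ ψ' h h1 h' h1' e]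
      ring
    · rw [co_sub_left g2 g1 gen_one, X.one ψ' h' h1', X.one ψ h h1, sub_self]
    · intro w hw1 hw2
      have a := X.eq_on ψ h h1 w hw1 hw2
      have b := X.eq_on ψ' h' h1' w hw1 hw2
      simp only [Pi.sub_apply] at a b ⊢
      linear_combination b - a
  funext g
  have := congrFun hE g
  simp only [Pi.sub_apply] at this
  simp only [D, Pi.sub_apply]
  linear_combination -this

theorem D_real {ψ : ↥(W₁ ⊔ W₂) →* ℂˣ} (h : IsQ ψ) (h1 : ψ ≠ 1) :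
    Cfsg.conjFun (X.D ψ) = X.D ψ := by
  rw [D, conjFun_sub, conjFun_sub, X.conj ψ h h1, conjFun_one, Table.conj_eta F]
  exact X.D_eq F (isQ_inv h) (fun e => h1 (MonoidHom.ext fun w => inv_eq_one.1 (DFunLike.congr_fun e w))) h h1

theorem D_one {ψ : ↥(W₁ ⊔ W₂) →* ℂˣ} (h : IsQ ψ) (h1 : ψ ≠ 1) : co (X.D ψ) (fun _ => 1) = 0 := by
  rw [D, co_sub_left (X.gen ψ h h1) (gen_sub gen_one (Table.gen F ψ)) gen_one, X.one ψ h h1,
    co_sub_left gen_one (Table.gen F ψ) gen_one, co_one_one, ← F.family.map_one, Table.co_ne F h1]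
  norm_num

theorem D_norm {ψ : ↥(W₁ ⊔ W₂) →* ℂˣ} (h : IsQ ψ) (h1 : ψ ≠ 1) :
    co (X.D ψ) (X.D ψ) = X.N + 2 * co (X.D ψ) (η ψ) := by
  have g := X.gen ψ h h1
  have gη := Table.gen F ψ
  have g' := gen_sub gen_one gη
  have e1 : co (fun _ => 1) (η ψ) = 0 := by
    rw [← F.family.map_one]; exact Table.co_ne F h1.symm
  rw [D, co_sub_left g g' (gen_sub g g'), co_sub_right g g g', co_sub_right g' g g',
    co_sub_left g g' gη, co_sub_left gen_one gη gη, co_comm g' g, co_sub_right g gen_one gη,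
    co_sub_right g' gen_one gη, co_sub_left gen_one gη gen_one, co_sub_left gen_one gη gη,
    co_comm gη gen_one, X.norm ψ h h1, X.one ψ h h1, co_one_one, Table.co_self F, e1]
  ring

variable (P : Probe G) (hA : Probe.Avoids W₁ W₂ P) (hd : Disjoint X.Z P.Z)
include hA hd

/-- `s = ⟨D, φ⟩`, taken at some `ψ`. -/
theorem coeff {ψ : ↥(W₁ ⊔ W₂) →* ℂˣ} (h : IsQ ψ) (h1 : ψ ≠ 1) {χ : G → ℂ} (hχ : χ ∈ P.mem) :
    co (X.D ψ) χ = P.wt χ * co (X.D ψ) P.φ := by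
  have g := X.gen ψ h h1
  have g' := gen_sub gen_one (Table.gen F ψ)
  have hz : ∀ {χ : G → ℂ}, χ ∈ P.mem → co ((fun _ => 1) - η ψ) χ = 0 := fun {χ} hχ => by
    rw [co_sub_left gen_one (Table.gen F ψ) (P.gen_mem χ hχ), P.one_orth hχ,
      co_comm (Table.gen F ψ) (P.gen_mem χ hχ), Probe.mem_eta F P hA hχ, sub_self]
  have hs : Gen (((P.wt χ : ℤ) : ℂ) • P.φ) := gen_intCast_smul P.gen_φ _
  have e : co (X.Φ ψ) (χ - ((P.wt χ : ℤ) : ℂ) • P.φ) = 0 :=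
    Probe.co_supp hd (X.supp ψ h h1) fun x hx => by simp [P.diff_supp χ hχ x hx]
  rw [co_sub_right g (P.gen_mem χ hχ) hs, co_smul_right g P.gen_φ] at e
  rw [D, co_sub_left g g' (P.gen_mem χ hχ), co_sub_left g g' P.gen_φ, hz hχ, hz P.φ_mem]
  linarith

/-- The parity condition. -/
theorem parity {ψ : ↥(W₁ ⊔ W₂) →* ℂˣ} (h : IsQ ψ) (h1 : ψ ≠ 1) :
    ((co (X.D ψ) P.φ + co P.R (η ψ) : ℤ) : ZMod 2) = 1 := by
  have g := X.gen ψ h h1
  have gη := Table.gen F ψ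
  have gD := X.gen_D F h h1
  have e : co (X.Φ ψ) P.Φ = 0 := Probe.co_supp hd (X.supp ψ h h1) P.Φ_supp
  have e1 : X.Φ ψ = X.D ψ + ((fun _ => 1) - η ψ) := by rw [D, sub_add_cancel]
  have e2 : P.Φ = P.R - P.φ := by rw [Probe.R, add_sub_cancel_right]
  rw [e1, e2, co_add_left gD (gen_sub gen_one gη) (gen_sub P.gen_R P.gen_φ),
    co_sub_right gD P.gen_R P.gen_φ, co_sub_left gen_one gη (gen_sub P.gen_R P.gen_φ),
    co_sub_right gen_one P.gen_R P.gen_φ, co_sub_right gη P.gen_R P.gen_φ,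
    co_comm gen_one P.gen_R, P.R_one, P.one_orth P.φ_mem, co_comm gη P.gen_R,
    co_comm gη P.gen_φ, Probe.mem_eta F P hA P.φ_mem] at e
  have hp := Vec.parity F.odd gD P.gen_R (X.D_real F h h1) P.real
  rw [X.D_one F h h1, Int.cast_zero, zero_mul] at hp
  have : co (X.D ψ) P.φ + co P.R (η ψ) = co (X.D ψ) P.R + 1 := by linarith
  rw [this, Int.cast_add, hp, zero_add, Int.cast_one]

/-- Bessel's inequality for `D`. -/
theorem bound {ψ : ↥(W₁ ⊔ W₂) →* ℂˣ} (h : IsQ ψ) (h1 : ψ ≠ 1) :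
    co (X.D ψ) P.φ ^ 2 * P.n ≤ X.N := by
  classical
  have gD := X.gen_D F h h1
  have hb := bessel_one ((Table.pSet W₁ W₂ ×ˢ Table.qSet W₁ W₂).disjSum P.mem)
    (Sum.elim (fun x : (↥(W₁ ⊔ W₂) →* ℂˣ) × (↥(W₁ ⊔ W₂) →* ℂˣ) => η (x.1 * x.2)) id) gD
    ?_ ?_ ?_
  · rw [Finset.sum_disjSum, X.D_norm F h h1] at hb
    simp only [Sum.elim_inl, Sum.elim_inr, id_eq] at hb
    rw [P.sum_sq_eq (f := X.D ψ) fun χ hχ => X.coeff F P hA hd h h1 hχ] at hb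
    suffices 2 * co (X.D ψ) (η ψ) ≤
        ∑ x ∈ Table.pSet W₁ W₂ ×ˢ Table.qSet W₁ W₂, co (X.D ψ) (η (x.1 * x.2)) ^ 2 by linarith
    set d := co (X.D ψ) (η ψ) with hd'
    have h1P : (1 : ↥(W₁ ⊔ W₂) →* ℂˣ) ∈ Table.pSet W₁ W₂ := Table.mem_pSet.2 CyclicTI.isP_one
    have hψQ : ψ ∈ Table.qSet W₁ W₂ := Table.mem_qSet.2 h
    have hsingle : d ^ 2 ≤ ∑ x ∈ Table.pSet W₁ W₂ ×ˢ Table.qSet W₁ W₂,
        co (X.D ψ) (η (x.1 * x.2)) ^ 2 := by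
      refine le_of_eq_of_le ?_ (Finset.single_le_sum (fun _ _ => sq_nonneg _)
        (Finset.mk_mem_product h1P hψQ))
      rw [hd', show (1 : ↥(W₁ ⊔ W₂) →* ℂˣ) * ψ = ψ by ext; simp]
    rcases le_or_gt d 0 with hd0 | hd0
    · exact le_trans (by linarith) (Finset.sum_nonneg fun _ _ => sq_nonneg _)
    rcases eq_or_lt_of_le (show 1 ≤ d by omega) with hd1 | hd1
    swap
    · exact le_trans (by nlinarith) hsingle
    -- `d = 1`
    have hV : Table.Vanishes W₁ W₂ (X.D ψ) := fun w a b => X.eq_on ψ h h1 w a b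
    rw [Finset.sum_product]
    have hrow : ∀ φ ∈ Table.pSet W₁ W₂,
        (1 : ℤ) ≤ ∑ ψ' ∈ Table.qSet W₁ W₂, co (X.D ψ) (η (φ * ψ')) ^ 2 := by
      intro φ hφ
      refine le_trans ?_ (Finset.sum_le_sum_of_subset_of_nonneg
        (Finset.insert_subset (Table.mem_qSet.2 CyclicTI.isQ_one) (Finset.singleton_subset_iff.2 hψQ))
        (fun _ _ _ => sq_nonneg _))
      have ht := Table.table F gD hV (Table.mem_pSet.1 hφ) h
      rw [X.D_one F h h1, add_zero] at ht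
      rw [Finset.sum_pair h1.symm, ht, ← hd', ← hd1,
        show φ * (1 : ↥(W₁ ⊔ W₂) →* ℂˣ) = φ by ext; simp]
      rcases le_or_gt 0 (co (X.D ψ) (η φ)) with hc | hc <;> nlinarith
    refine le_trans ?_ (Finset.sum_le_sum hrow)
    rw [Finset.sum_const, nsmul_eq_mul, mul_one, Table.card_pSet F, ← hd1]
    have := Table.three_le₁ F
    omega
  · rintro (x | χ) hx
    · exact Table.gen F _
    · exact P.gen_mem χ (Finset.inr_mem_disjSum.1 hx)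
  · rintro (x | χ) hx
    · exact Table.co_self F _
    · exact P.unit χ (Finset.inr_mem_disjSum.1 hx)
  · rintro (x | χ) hx (y | χ') hy hne <;>
      simp only [Finset.inl_mem_disjSum, Finset.inr_mem_disjSum] at hx hy <;>
      simp only [Sum.elim_inl, Sum.elim_inr, id_eq]
    · exact Table.co_ne F fun e => hne (congrArg Sum.inl (Table.pair_inj F hx hy e))
    · rw [co_comm (Table.gen F _) (P.gen_mem χ' hy), Probe.mem_eta F P hA hy]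
    · exact Probe.mem_eta F P hA hx _
    · exact P.orth χ hx χ' hy fun e => hne (by rw [e])

end SideData

end Cfsg.Agent.Lib.OddOrder.PF14
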