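import Cfsg.Agent.Lib.OddOrder.PF14.Group

/-!
# Peterfalvi 14: the exceptional shape of `U` is impossible

With `q = 3` and `|U| = k²`, `2k + 1 = p`, some elements of prime order of `U` fix non-trivial elements
of `P`, so their centralisers lie in `S`; a subgroup `L ⊇ N(U)` is then impossible.
-/

set_option autoImplicit false
set_option linter.style.haveILetI false

open scoped commutatorElement Pointwise

namespace Cfsg.Agent.Lib.OddOrder.PF14

open Cfsg.Agent.Lib.OddOrder.Basic

universe u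

variable {G : Type u} [Group G] [Fintype G] {S T W₁ W₂ U V L : Subgroup G}

/-- A `r`-group acting on `Z`: the fixed points are congruent to `|Z|`. -/
theorem fixed_modEq {A Z : Subgroup G} {r : ℕ} [Fact r.Prime]
    (hAZ : A ≤ Subgroup.normalizer (Z : Set G)) (hA : IsPGroup r A) :
    Nat.card Z ≡ Nat.card ↥(Z ⊓ Subgroup.centralizer (A : Set G)) [MOD r] := by
  let φ : A →* MulAut Z := Z.normalizerMonoidHom.comp (Subgroup.inclusion hAZ)
  letI : MulAction A Z := MulAction.compHom Z φ
  have hsmul : ∀ (a : A) (z : Z), ((a • z : Z) : G) = (a : G) * z * (a : G)⁻¹ := fun a z => rfl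
  refine (hA.card_modEq_card_fixedPoints Z).trans (congrArg (fun n => n % r) ?_)
  refine Nat.card_congr
    { toFun := fun z => ⟨(z : Z), ⟨(z : Z).2, Subgroup.mem_centralizer_iff.2 fun a ha => ?_⟩⟩
      invFun := fun z => ⟨⟨z, z.2.1⟩, fun a => Subtype.ext ?_⟩
      left_inv := fun _ => rfl
      right_inv := fun _ => rfl }
  · have := congrArg Subtype.val (z.2 ⟨a, ha⟩)
    rw [hsmul] at this
    exact mul_inv_eq_iff_eq_mul.1 this
  · rw [hsmul]
    exact mul_inv_eq_iff_eq_mul.2 (Subgroup.mem_centralizer_iff.1 z.2.2 a a.2)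

/-- The elements killed by `r` in an abelian subgroup. -/
def torsion (U : Subgroup G) (hc : ∀ x ∈ U, ∀ y ∈ U, x * y = y * x) (r : ℕ) : Subgroup G where
  carrier := {x | x ∈ U ∧ x ^ r = 1}
  one_mem' := ⟨one_mem U, one_pow r⟩
  mul_mem' {a b} ha hb := ⟨mul_mem ha.1 hb.1, by
    rw [(show Commute a b from hc a ha.1 b hb.1).mul_pow, ha.2, hb.2, one_mul]⟩
  inv_mem' {a} ha := ⟨inv_mem ha.1, by rw [inv_pow, ha.2, inv_one]⟩

theorem special_false (I : Inputs G) (h : Pair S T W₁ W₂ U V) (hlt : Nat.card W₁ < Nat.card W₂)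
    {k : ℕ} {K₁ : Subgroup G} (hN : NonGaloisData S W₁ U W₂ k K₁) (hq : Nat.card W₁ = 3)
    (hk : 2 * k + 1 = Nat.card W₂) (hu : Nat.card U = k ^ 2) : False := by
  classical
  obtain ⟨L, hL⟩ := exists_LData I h hlt
  have FS := facts I h
  have hp := FS.p_prime
  obtain ⟨-, hp5⟩ := five_le I h hlt
  have hk1 : 1 < k := by omega
  set H := Cfsg.fittingHallOf L with hHdef
  have hHnil : Group.IsNilpotent H := fittingHallOf_isNilpotent L
  have hII : Cfsg.IsOfTypeII S := (I.pair S T W₁ W₂ U V h).2.1 hlt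
  obtain ⟨hrank, hcent, -⟩ := I.bg16.cent S h.maxS U (Or.inr ⟨hII, h.dataS.U_compl⟩)
  -- for each prime divisor of `k` there is a bad element
  have hK1card : Nat.card K₁ = k := by
    have := hN.card_eq
    rw [hu, sq] at this
    exact (Nat.eq_of_mul_eq_mul_right (by omega) this).symm
  have hbad : ∀ r, r.Prime → r ∣ k → ∃ x ∈ U, orderOf x = r ∧
      H ⊓ Subgroup.centralizer ({x} : Set G) ≤ U := by
    intro r hr hrk
    have := Fact.mk hr
    obtain ⟨x, hx⟩ := exists_prime_orderOf_dvd_card' (G := K₁) r (hK1card ▸ hrk)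
    refine ⟨x, hN.le x.2, by rwa [Subgroup.orderOf_coe], fun y hy => ?_⟩
    have hx1 : (x : G) ≠ 1 := fun e => hr.ne_one (by
      rw [← hx, ← Subgroup.orderOf_coe, e, orderOf_one])
    have hfix : Cfsg.fittingHallOf S ⊓ Subgroup.centralizer ({(x : G)} : Set G) ≠ ⊥ := fun e =>
      hN.fixed (eq_bot_iff.2 (le_of_le_of_eq (inf_le_inf_left _
        (Subgroup.centralizer_le (Set.singleton_subset_iff.2 x.2))) e))
    have hCS := (hcent {(x : G)} (Set.singleton_subset_iff.2 ⟨hN.le x.2, hx1⟩)
      (Set.singleton_nonempty _) hfix).1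
    rw [← hL.meet_S]
    exact ⟨hy.1, hCS hy.2⟩
  have hW₁U : W₁ ≤ Subgroup.normalizer (U : Set G) := h.dataS.U_normal
  have hW₁L : W₁ ≤ L := hW₁U.trans hL.le
  have hWH : W₁ ≤ Subgroup.normalizer (H : Set G) := hW₁L.trans (fittingHallOf_normal L)
  obtain ⟨r, hr, hrk⟩ := Nat.exists_prime_and_dvd (by omega : k ≠ 1)
  haveI := Fact.mk hr
  obtain ⟨x, hxU, hxr, hxC⟩ := hbad r hr hrk
  set Z := torsion U FS.U_comm r with hZdef
  have hxZ : x ∈ Z := ⟨hxU, hxr ▸ pow_orderOf_eq_one x⟩
  have hZU : Z ≤ U := fun z hz => hz.1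
  have hZnorm : ∀ g ∈ Subgroup.normalizer (U : Set G), ∀ z ∈ Z, g * z * g⁻¹ ∈ Z := fun g hg z hz =>
    ⟨(Subgroup.mem_normalizer_iff.1 hg z).1 hz.1, by rw [conj_pow, hz.2, mul_one, mul_inv_cancel]⟩
  have hZN : Subgroup.normalizer (U : Set G) ≤ Subgroup.normalizer (Z : Set G) := fun g hg =>
    Subgroup.mem_normalizer_iff.2 fun z => ⟨hZnorm g hg z, fun hz => by
      simpa [mul_assoc] using hZnorm g⁻¹ (inv_mem hg) _ hz⟩
  have hZle : Nat.card Z ≤ r ^ 2 := by
    have hZp : IsPGroup r (Z.subgroupOf U) := fun z =>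
      ⟨1, Subtype.ext (Subtype.ext (by simpa using (Subgroup.mem_subgroupOf.1 z.2).2))⟩
    obtain ⟨P, hP⟩ := hZp.exists_le_sylow
    obtain ⟨hPc, hP2⟩ := hrank r hr P
    have := hP2 ((Z.subgroupOf U).subgroupOf P) ⟨⟨fun a b => Subtype.ext (hPc.is_comm.comm a.1 b.1)⟩⟩
      (fun a ha => Subtype.ext (Subtype.ext (by simpa using (Subgroup.mem_subgroupOf.1
        (Subgroup.mem_subgroupOf.1 ha)).2)))
    rwa [Nat.card_congr (Subgroup.subgroupOfEquivOfLe hP).toEquiv,
      Nat.card_congr (Subgroup.subgroupOfEquivOfLe hZU).toEquiv] at this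
  have hrp : r < Nat.card W₂ := by have := Nat.le_of_dvd (by omega) hrk; omega
  rcases eq_or_lt_of_le hL.U_le with hUH | hUH
  · -- `U = H`
    rcases hL.compl with hc | ⟨y, hy, hc⟩
    · obtain ⟨-, -, -, -, hnN, -⟩ := PF8.TypeP.II_facts h.dataS hII
      refine hnN (hL.le.trans ?_)
      rw [← isComplIn_sup hc, hUH.symm]
      exact sup_le FS.U_le FS.W₁_le
    obtain ⟨w, hw, hw1⟩ := W₂.bot_or_exists_ne_one.resolve_left h.dataS.selfNormalizing.2.1
    set z := y * w * y⁻¹ with hz
    have hzD : z ∈ W₁ ⊔ W₂.map (MulAut.conj y).toMonoidHom :=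
      Subgroup.mem_sup_right ⟨w, hw, rfl⟩
    have hzL : z ∈ L := hc.2.1 hzD
    have hzord : orderOf z = Nat.card W₂ := by
      rw [hz, ← MulAut.conj_apply, MulEquiv.orderOf_eq]
      refine ((Nat.dvd_prime hp).1 (W₂.orderOf_dvd_natCard hw)).resolve_left fun e => hw1 ?_
      exact orderOf_eq_one_iff.1 e
    haveI := Fact.mk hp
    have hzN : Subgroup.zpowers z ≤ Subgroup.normalizer (Z : Set G) := by
      rw [Subgroup.zpowers_le]
      refine hZN ?_
      rw [hUH]
      exact fittingHallOf_normal L hzL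
    have hcong := fixed_modEq (r := Nat.card W₂) hzN
      (IsPGroup.of_card (n := 1) (by rw [Nat.card_zpowers, hzord, pow_one]))
    have hfix : Z ⊓ Subgroup.centralizer ((Subgroup.zpowers z : Subgroup G) : Set G) = ⊥ := by
      refine (Subgroup.eq_bot_iff_forall _).2 fun t ht => by_contra fun ht1 => ?_
      have hzH : z ∈ H := hL.frob t (hUH ▸ hZU ht.1) ht1 ⟨hzL,
        Subgroup.mem_centralizer_singleton_iff.2
          (Subgroup.mem_centralizer_iff.1 ht.2 z (Subgroup.mem_zpowers z))⟩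
      have : z ∈ H ⊓ (W₁ ⊔ W₂.map (MulAut.conj y).toMonoidHom) := ⟨hzH, hzD⟩
      rw [hc.2.2.1, Subgroup.mem_bot] at this
      rw [this, orderOf_one] at hzord
      exact hp.ne_one hzord.symm
    rw [hfix, Subgroup.card_bot] at hcong
    have hZr : IsPGroup r Z := fun t => ⟨1, Subtype.ext (by simpa using t.2.2)⟩
    obtain ⟨m, hm⟩ := hZr.exists_card_eq
    rw [hm] at hcong hZle
    have hm2 : m ≤ 2 := (Nat.pow_le_pow_iff_right hr.one_lt).1 hZle
    have hm0 : m ≠ 0 := by
      rintro rfl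
      rw [pow_zero, Subgroup.card_eq_one] at hm
      rw [hm, Subgroup.mem_bot] at hxZ
      rw [hxZ, orderOf_one] at hxr
      exact hr.ne_one hxr.symm
    have hd := (Nat.modEq_iff_dvd' (Nat.one_le_pow _ _ hr.pos)).1 hcong.symm
    have hrle : r ≤ k := Nat.le_of_dvd (by omega) hrk
    have hr1 := hr.two_le
    obtain rfl | rfl : m = 1 ∨ m = 2 := by omega
    · rw [pow_one] at hd
      have := Nat.le_of_dvd (by omega) hd
      omega
    · have e : r ^ 2 - 1 = (r - 1) * (r + 1) := by
        obtain ⟨a, rfl⟩ : ∃ a, r = a + 1 := ⟨r - 1, by omega⟩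
        rw [Nat.add_sub_cancel, show (a + 1) ^ 2 = a * (a + 1 + 1) + 1 by ring, Nat.add_sub_cancel]
      rw [e] at hd
      rcases hp.dvd_mul.1 hd with h1 | h1
      · have := Nat.le_of_dvd (by omega) h1; omega
      · have := Nat.le_of_dvd (by omega) h1; omega
  · -- `U < H`
    set N := H ⊓ Subgroup.normalizer (U : Set G) with hNdef
    have hUN : U < N := by
      haveI := hHnil
      have h1 := Group.normalizerCondition_of_isNilpotent (G := H) (U.subgroupOf H)
        (lt_top_iff_ne_top.2 fun e => hUH.not_ge (Subgroup.subgroupOf_eq_top.1 e))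
      obtain ⟨n, hn, hn'⟩ := SetLike.exists_of_lt h1
      have hnU : (n : G) ∈ Subgroup.normalizer (U : Set G) := by
        rw [Subgroup.mem_normalizer_iff] at hn ⊢
        intro g
        refine ⟨fun hg => ?_, fun hg => ?_⟩
        · exact (hn ⟨g, hL.U_le hg⟩).1 hg
        · have hgH : g ∈ H := by
            have := mul_mem (mul_mem (inv_mem n.2) (hL.U_le hg)) n.2
            simpa [mul_assoc] using this
          exact (hn ⟨g, hgH⟩).2 hg
      exact lt_of_le_of_ne (le_inf hL.U_le Subgroup.le_normalizer)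
        fun e => hn' (show (n : G) ∈ U from e.symm ▸ ⟨n.2, hnU⟩)
    -- elements of order prime to a prime divisor of `k` lie in `U`
    have hsyl : ∀ s, s.Prime → s ∣ k → ∀ t, t.Prime → t ≠ s → ∀ Q : Sylow t N,
        (Q : Subgroup N).map N.subtype ≤ U := by
      intro s hs hsk t ht hts Q
      haveI := Fact.mk ht
      obtain ⟨x', hx'U, hx'o, hx'C⟩ := hbad s hs hsk
      have hQH : (Q : Subgroup N).map N.subtype ≤ H := (Subgroup.map_subtype_le _).trans inf_le_left
      refine le_trans (le_inf hQH ?_) hx'C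
      refine le_trans (le_centralizer_of_nilpotent hHnil hQH
        (Subgroup.zpowers_le.2 (hL.U_le hx'U)) ?_)
        (Subgroup.centralizer_le (Set.singleton_subset_iff.2 (Subgroup.mem_zpowers x')))
      obtain ⟨m, hm⟩ := Q.2.exists_card_eq
      rw [Nat.card_zpowers, hx'o, Subgroup.card_map_of_injective N.subtype_injective, hm]
      exact Nat.Coprime.pow_left m ((Nat.coprime_primes ht hs).2 hts)
    -- hence `N` is an `r`-group
    have hNcard : ∀ t, t.Prime → t ≠ r → ¬ t ∣ Nat.card N := by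
      intro t ht htr htN
      haveI := Fact.mk ht
      -- `U` is an `r`-group
      have hkr : ∀ s, s.Prime → s ∣ k → s = r := by
        intro s hs hsk
        by_contra hsr
        refine hUN.not_ge fun n hn => ?_
        have hall : ∀ t', t'.Prime → ∀ Q : Sylow t' N, (Q : Subgroup N).map N.subtype ≤ U :=
          fun t' ht' Q => by
            by_cases e : t' = r
            · exact hsyl s hs hsk t' ht' (fun e' => hsr (e'.symm.trans e)) Q
            · exact hsyl r hr hrk t' ht' e Q
        have hdvd : Nat.card N ∣ Nat.card (U.subgroupOf N) := by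
          refine Nat.dvd_iff_prime_pow_dvd_dvd _ _ |>.2 fun a b ha hab => ?_
          haveI := Fact.mk ha
          obtain ⟨Q⟩ : Nonempty (Sylow a N) := inferInstance
          refine ((Nat.pow_dvd_pow a ((ha.pow_dvd_iff_le_factorization Nat.card_pos.ne').1 hab)).trans
            ?_)
          rw [← Q.card_eq_multiplicity]
          refine Subgroup.card_dvd_of_le fun z hz => ?_
          rw [Subgroup.mem_subgroupOf]
          exact hall a ha Q ⟨z, hz, rfl⟩
        have := (Subgroup.card_eq_iff_eq_top (U.subgroupOf N)).1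
          (le_antisymm (Subgroup.card_le_card_group _) (Nat.le_of_dvd Nat.card_pos hdvd))
        exact Subgroup.subgroupOf_eq_top.1 this hn
      obtain ⟨Q⟩ : Nonempty (Sylow t N) := inferInstance
      have h1 : t ∣ Nat.card (Q : Subgroup N) := Q.dvd_card_of_dvd_card htN
      have h2 : t ∣ Nat.card U := by
        refine h1.trans ?_
        rw [← Subgroup.card_map_of_injective N.subtype_injective]
        exact Subgroup.card_dvd_of_le (hsyl r hr hrk t ht htr Q)
      rw [hu] at h2
      exact htr (hkr t ht (ht.dvd_of_dvd_pow h2))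
    have hNp : IsPGroup r N := by
      rw [IsPGroup.iff_card]
      refine ⟨_, Nat.eq_prime_pow_of_unique_prime_dvd Nat.card_pos.ne' fun {t} ht hd => ?_⟩
      exact by_contra fun e => hNcard t ht e hd
    -- the fixed points of `N` on `Z`
    set F := Z ⊓ Subgroup.centralizer (N : Set G) with hFdef
    have hcong := fixed_modEq (r := r) (inf_le_right.trans hZN : N ≤ Subgroup.normalizer (Z : Set G)) hNp
    rw [← hFdef] at hcong
    have hZr : IsPGroup r Z := fun t => ⟨1, Subtype.ext (by simpa using t.2.2)⟩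
    obtain ⟨m, hm⟩ := hZr.exists_card_eq
    have hm0 : m ≠ 0 := by
      rintro rfl
      rw [pow_zero, Subgroup.card_eq_one] at hm
      rw [hm, Subgroup.mem_bot] at hxZ
      rw [hxZ, orderOf_one] at hxr
      exact hr.ne_one hxr.symm
    obtain ⟨j, hj⟩ := (IsPGroup.to_le hZr (inf_le_left : F ≤ Z)).exists_card_eq
    have hj0 : j ≠ 0 := by
      rintro rfl
      rw [hj, hm, pow_zero, Nat.ModEq, Nat.mod_eq_zero_of_dvd (dvd_pow_self r hm0)] at hcong
      rw [Nat.mod_eq_of_lt hr.one_lt] at hcong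
      exact zero_ne_one hcong
    have hFZ : F ≠ Z := by
      intro e
      refine hUN.not_ge fun n hn => hxC ⟨hn.1, Subgroup.mem_centralizer_singleton_iff.2 ?_⟩
      exact (Subgroup.mem_centralizer_iff.1 (e.ge hxZ).2 n hn)
    have hj1 : j = 1 := by
      have h1 : Nat.card F < Nat.card Z := lt_of_le_of_ne
        (Subgroup.card_le_of_le inf_le_left) fun e => hFZ (Subgroup.eq_of_le_of_card_ge inf_le_left e.ge)
      have h2 : r ^ j < r ^ 2 := hj ▸ h1.trans_le hZle
      have := (Nat.pow_lt_pow_iff_right hr.one_lt).1 h2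
      omega
    -- `W₁` acts on `F` without fixed points
    have hWN : W₁ ≤ Subgroup.normalizer (N : Set G) := fun w hw => by
      rw [Subgroup.mem_normalizer_iff]
      intro g
      have hwU := hW₁U hw
      simp only [hNdef, Subgroup.mem_inf]
      rw [← Subgroup.mem_normalizer_iff.1 (hWH hw) g]
      refine and_congr_right fun _ => ⟨fun hg => mul_mem (mul_mem hwU hg) (inv_mem hwU), fun hg => ?_⟩
      simpa [mul_assoc] using mul_mem (mul_mem (inv_mem hwU) hg) hwU
    have hWF : W₁ ≤ Subgroup.normalizer (F : Set G) := by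
      have key : ∀ w ∈ W₁, ∀ t ∈ F, w * t * w⁻¹ ∈ F := by
        intro w hw t ht
        refine ⟨hZnorm w (hW₁U hw) t ht.1, Subgroup.mem_centralizer_iff.2 fun n hn => ?_⟩
        have hn' := (Subgroup.mem_normalizer_iff''.1 (hWN hw) n).1 hn
        have := Subgroup.mem_centralizer_iff.1 ht.2 _ hn'
        calc n * (w * t * w⁻¹) = w * ((w⁻¹ * n * w) * t) * w⁻¹ := by group
          _ = w * (t * (w⁻¹ * n * w)) * w⁻¹ := by rw [this]
          _ = _ := by group
      exact fun w hw => Subgroup.mem_normalizer_iff.2 fun t => ⟨key w hw t, fun ht => by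
        simpa [mul_assoc] using key w⁻¹ (inv_mem hw) _ ht⟩
    haveI : Fact (Nat.Prime 3) := ⟨Nat.prime_three⟩
    have h3 := fixed_modEq (r := 3) hWF (IsPGroup.of_card (n := 1) (by rw [hq, pow_one]))
    have hfix : F ⊓ Subgroup.centralizer (W₁ : Set G) = ⊥ := by
      refine (Subgroup.eq_bot_iff_forall _).2 fun t ht => ?_
      obtain ⟨w, hw, hw1⟩ := FS.exists_W₁
      exact FS.fpf hw hw1 (hZU ht.1.1) (Subgroup.mem_centralizer_iff.1 ht.2 w hw)
    rw [hfix, Subgroup.card_bot, hj, hj1, pow_one] at h3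
    -- so `k ≡ 1 (mod 3)` and `3 ∣ p`
    obtain ⟨b, hb⟩ : ∃ b, k = r ^ b := ⟨_, Nat.eq_prime_pow_of_unique_prime_dvd (by omega)
      fun {t} ht hd => by
        by_contra htr
        refine hNcard t ht htr (dvd_trans ?_ (Subgroup.card_dvd_of_le hUN.le))
        rw [hu]
        exact dvd_pow hd two_ne_zero⟩
    have h3k : k ≡ 1 [MOD 3] := by rw [hb]; simpa using h3.pow b
    have h3p : (3 : ℕ) ∣ Nat.card W₂ := by rw [← hk]; rw [Nat.ModEq] at h3k; omega
    have := (Nat.prime_dvd_prime_iff_eq Nat.prime_three hp).1 h3p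
    omega

end Cfsg.Agent.Lib.OddOrder.PF14
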