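import Cfsg.Agent.Lib.OddOrder.TypeOne
import Cfsg.Agent.Lib.OddOrder.PF14.SideFn
import Cfsg.Agent.Lib.OddOrder.PF14.Zones
import Cfsg.Agent.Lib.OddOrder.PF14.Galois
import Cfsg.Agent.Lib.OddOrder.PF14.Special
import Cfsg.Agent.Lib.OddOrder.PF8.TypeP
import Cfsg.Agent.Lib.Isometry.FrobeniusTI
import Cfsg.Agent.Lib.Characters.Linear
import Cfsg.Agent.Lib.Induced.Character

/-!
# Peterfalvi 14: the function of a side `S = P U W₁`

For a character `ψ` of `W` killing `W₁` the linear character `θ ψ` of `H = P W₁` restricts to `ψ` on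
`W₂`; `β ψ = Ind_H^S (1 - θ ψ)` is supported on `A₀(S)`, and induced to `G` gives the data of the side.
-/

set_option autoImplicit false
set_option linter.style.haveILetI false
set_option linter.unusedSectionVars false

open scoped Classical commutatorElement ComplexConjugate

namespace Cfsg.Agent.Lib.OddOrder.PF14.MkSide

open Cfsg.Agent.Lib.Isometry Cfsg.Agent.Lib.Isometry.Inner
open Cfsg.Agent.Lib.Induced.Basic
open Cfsg.Agent.Lib.Characters.Basic
open Cfsg.Agent.Lib.CyclicTI (IsP IsQ)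
open Cfsg.Agent.Lib.OddOrder.PF13 (Facts)
open Vec

universe u

variable {G : Type u} [Group G] [Fintype G] {S W₁ U W₂ : Subgroup G}

/-- Orthogonality of linear characters. -/
theorem sum_hom_mul {A : Type u} [Group A] [Fintype A] (l l' : A →* ℂˣ) :
    ∑ x : A, (l x : ℂ) * conj (l' x : ℂ) = if l = l' then (Nat.card A : ℂ) else 0 := by
  have h := classInner_irr_eq (Characters.Linear.linChar l).2 (Characters.Linear.linChar l').2
  simp only [Cfsg.classInner, Characters.Linear.linChar_apply] at h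
  have h0 : (Nat.card A : ℂ) ≠ 0 := Nat.cast_ne_zero.2 Nat.card_pos.ne'
  rw [inv_mul_eq_iff_eq_mul₀ h0] at h
  rw [h]
  have hiff : ((Characters.Linear.linChar l : A → ℂ) = (Characters.Linear.linChar l' : A → ℂ)) ↔ l = l' :=
    ⟨fun e => Characters.Linear.linChar_injective (Subtype.ext e), fun e => by rw [e]⟩
  by_cases hl : l = l'
  · rw [if_pos hl, if_pos (hiff.2 hl), mul_one]
  · rw [if_neg hl, if_neg (fun e => hl (hiff.1 e)), mul_zero]

theorem sum_hom {A : Type u} [Group A] [Fintype A] {l : A →* ℂˣ} (h : l ≠ 1) :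
    ∑ x : A, (l x : ℂ) = 0 := by
  have := sum_hom_mul l 1
  rw [if_neg h] at this
  simpa using this

theorem conj_hom {A : Type u} [Group A] [Finite A] (l : A →* ℂˣ) (x : A) :
    conj (l x : ℂ) = (l⁻¹ x : ℂˣ) := by
  have h := apply_inv (isCharacter_irr (Characters.Linear.linChar l)) x
  simp only [Characters.Linear.linChar_apply] at h
  rw [← h, MonoidHom.inv_apply, map_inv]

/-! ### The subgroup `H = P W₁` -/

/-- `H = P W₁` inside `S`. -/
abbrev Hin (S W₁ : Subgroup G) : Subgroup ↥S :=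
  (Cfsg.fittingHallOf S ⊔ W₁).subgroupOf S

variable (F : Facts S W₁ U W₂)
include F

theorem H_le : Cfsg.fittingHallOf S ⊔ W₁ ≤ S := sup_le F.P_le F.W₁_le

theorem P_inf_W₁ {x : G} (hx : x ∈ ⁅S, S⁆) (hw : x ∈ W₁) : x = 1 := by
  have h : x ∈ ⁅S, S⁆ ⊓ W₁ := Subgroup.mem_inf.2 ⟨hx, hw⟩
  rwa [F.typeP.W₁_compl.2.2.1, Subgroup.mem_bot] at h

theorem mem_H {g : G} (hg : g ∈ Cfsg.fittingHallOf S ⊔ W₁) :
    ∃ x : ↥(Cfsg.fittingHallOf S), ∃ w : ↥W₁, g = (x : G) * w := by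
  have hn : W₁ ≤ Subgroup.normalizer (Cfsg.fittingHallOf S : Set G) :=
    F.W₁_le.trans (Basic.fittingHallOf_normal S)
  rw [← SetLike.mem_coe, Subgroup.coe_mul_of_right_le_normalizer_left _ _ hn] at hg
  obtain ⟨x, hx, w, hw, rfl⟩ := hg
  exact ⟨⟨x, hx⟩, ⟨w, hw⟩, rfl⟩

theorem dec_unique {x x' : ↥(Cfsg.fittingHallOf S)} {w w' : ↥W₁}
    (h : (x : G) * w = x' * w') : x = x' ∧ w = w' := by
  have h1 : (x' : G)⁻¹ * x = (w' : G) * (w : G)⁻¹ := by
    rw [eq_mul_inv_iff_mul_eq, mul_assoc, h, inv_mul_cancel_left]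
  have h2 : (x' : G)⁻¹ * x = 1 := P_inf_W₁ F
    (mul_mem (inv_mem (F.P_le_derived x'.2)) (F.P_le_derived x.2))
    (h1 ▸ mul_mem w'.2 (inv_mem w.2))
  have hx : x = x' := Subtype.ext (inv_mul_eq_one.1 h2).symm
  exact ⟨hx, Subtype.ext (mul_left_cancel (hx ▸ h))⟩

/-- The element `x w` of `H`. -/
noncomputable def mk : ↥(Cfsg.fittingHallOf S) × ↥W₁ ≃ ↥(Hin S W₁) :=
  Equiv.ofBijective
    (fun p => ⟨⟨(p.1 : G) * p.2, mul_mem (F.P_le p.1.2) (F.W₁_le p.2.2)⟩,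
      mul_mem (Subgroup.mem_sup_left p.1.2) (Subgroup.mem_sup_right p.2.2)⟩)
    ⟨fun p p' h => by
      obtain ⟨h1, h2⟩ := dec_unique F (congrArg (fun z : ↥(Hin S W₁) => ((z : ↥S) : G)) h)
      exact Prod.ext h1 h2,
    fun z => by
      obtain ⟨x, w, h⟩ := mem_H F z.2
      exact ⟨(x, w), Subtype.ext (Subtype.ext h.symm)⟩⟩

theorem coe_mk (p : ↥(Cfsg.fittingHallOf S) × ↥W₁) : ((mk F p : ↥S) : G) = (p.1 : G) * p.2 := rfl

theorem card_Hin : Nat.card (Hin S W₁) = Nat.card (Cfsg.fittingHallOf S) * Nat.card W₁ := by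
  rw [← Nat.card_congr (mk F), Nat.card_prod]

/-- A retraction of `H` on `W₂` killing `W₁`. -/
theorem exists_retraction :
    ∃ π : ↥(Hin S W₁) →* ↥(W₁ ⊔ W₂), (∀ h, (π h : G) ∈ W₂) ∧
      (∀ h : ↥(Hin S W₁), ((h : ↥S) : G) ∈ W₁ → π h = 1) ∧
      (∀ h : ↥(Hin S W₁), ((h : ↥S) : G) ∈ W₂ → (π h : G) = ((h : ↥S) : G)) := by
  set P := Cfsg.fittingHallOf S with hP
  letI : CommGroup P := { (inferInstance : Group P) with
    mul_comm := fun a b => Subtype.ext (F.P_comm a a.2 b b.2) }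
  have hconj : ∀ {w : G}, w ∈ W₁ → ∀ {x : G}, x ∈ P → w * x * w⁻¹ ∈ P := fun hw _ hx =>
    F.conj_P (F.W₁_le hw) hx
  let c : W₁ → (P →* P) := fun w =>
    { toFun := fun x => ⟨(w : G) * x * (w : G)⁻¹, hconj w.2 x.2⟩
      map_one' := Subtype.ext (by simp)
      map_mul' := fun a b => Subtype.ext (by simp [mul_assoc]) }
  let N : P →* P := ∏ w : W₁, c w
  have hN : ∀ x, N x = ∏ w : W₁, c w x := fun x => by simp [N, MonoidHom.finsetProd_apply]
  have hcoe : ∀ w x, (c w x : G) = (w : G) * x * (w : G)⁻¹ := fun _ _ => rfl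
  have hinv : ∀ v x, N (c v x) = N x := by
    intro v x
    rw [hN, hN]
    refine Fintype.prod_equiv (Equiv.mulRight v) _ _ fun w => ?_
    apply Subtype.ext
    simp [hcoe, mul_assoc]
  have hfix : ∀ x, (N x : G) ∈ W₂ := by
    intro x
    obtain ⟨w, hw, hw1⟩ := F.exists_W₁
    refine F.fixed_P (N x).2 hw hw1 (mul_inv_eq_iff_eq_mul.1 ?_)
    have : c ⟨w, hw⟩ (N x) = N x := by
      rw [hN, map_prod]
      refine Fintype.prod_equiv (Equiv.mulLeft ⟨w, hw⟩) _ _ fun v => ?_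
      apply Subtype.ext
      simp [hcoe, mul_assoc]
    exact congrArg Subtype.val this
  haveI : Fact (Nat.card W₂).Prime := ⟨F.p_prime⟩
  obtain ⟨k, hk⟩ : ∃ k : ℕ, Nat.card W₁ * k % Nat.card W₂ = 1 := by
    obtain ⟨k, -, hk⟩ := Nat.exists_mul_mod_eq_one_of_coprime (n := Nat.card W₁) (k := Nat.card W₂)
      ((Nat.coprime_primes F.q_prime F.p_prime).2 (fun e => F.p_ne_q e.symm)) F.p_prime.one_lt
    exact ⟨k, hk⟩
  let ρ : P →* P := (powMonoidHom k).comp N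
  have hρ2 : ∀ x : P, (x : G) ∈ W₂ → ρ x = x := by
    intro x hx
    have hNx : N x = x ^ Nat.card W₁ := by
      rw [hN, Nat.card_eq_fintype_card, ← Finset.card_univ, ← Finset.prod_const]
      refine Finset.prod_congr rfl fun w _ => Subtype.ext ?_
      rw [hcoe, F.W₂_comm w.2 hx, mul_inv_cancel_right]
    have hp : x ^ Nat.card W₂ = 1 := Subtype.ext (by simpa using F.P_exp x x.2)
    show N x ^ k = x
    rw [hNx, ← pow_mul, ← pow_mod_natCard, ← Nat.mod_add_div (Nat.card W₁ * k) (Nat.card W₂),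
      pow_mod_natCard, pow_add, hk, pow_mul x (Nat.card W₂), hp, one_pow, pow_one, mul_one]
  set part : ↥(Hin S W₁) → P := fun h => ((mk F).symm h).1 with hpart
  have hdec : ∀ h : ↥(Hin S W₁), ((h : ↥S) : G) = (part h : G) * ((mk F).symm h).2 := fun h => by
    rw [hpart, ← coe_mk F, Equiv.apply_symm_apply]
  have hpartx : ∀ (h : ↥(Hin S W₁)) (x : P) (w : W₁), ((h : ↥S) : G) = (x : G) * w → part h = x :=
    fun h x w e => (dec_unique F ((hdec h).symm.trans e)).1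
  have hW : ∀ h, (ρ (part h) : G) ∈ W₂ := fun h => by
    show ((N (part h) ^ k : P) : G) ∈ W₂
    rw [Subgroup.coe_pow]
    exact pow_mem (hfix _) k
  let f : ↥(Hin S W₁) →* P :=
    { toFun := fun h => ρ (part h)
      map_one' := by rw [hpartx 1 1 1 (by simp), map_one]
      map_mul' := fun h h' => by
        rw [hpartx (h * h') (part h * c ((mk F).symm h).2 (part h'))
          (((mk F).symm h).2 * ((mk F).symm h').2) (by
          rw [Subgroup.coe_mul, Subgroup.coe_mul, hdec h, hdec h', Subgroup.coe_mul,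
            Subgroup.coe_mul, hcoe]
          group), map_mul]
        congr 1
        show N (c ((mk F).symm h).2 (part h')) ^ k = N (part h') ^ k
        rw [hinv] }
  refine ⟨MonoidHom.codRestrict (P.subtype.comp f) (W₁ ⊔ W₂)
    (fun h => Subgroup.mem_sup_right (hW h)), hW, ?_, ?_⟩
  · intro h hh
    refine Subtype.ext ?_
    show (ρ (part h) : G) = 1
    rw [hpartx h 1 ⟨_, hh⟩ (by simp), map_one, Subgroup.coe_one]
  · intro h hh
    show (ρ (part h) : G) = _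
    rw [hpartx h ⟨_, F.W₂_le_P hh⟩ 1 (by simp)]
    exact congrArg Subtype.val (hρ2 _ hh)

omit F

/-! ### The characters -/

/-- `1 - θ` on `H`, for the retraction `π`. -/
noncomputable def alpha (π : ↥(Hin S W₁) →* ↥(W₁ ⊔ W₂)) (ψ : ↥(W₁ ⊔ W₂) →* ℂˣ) :
    ↥(Hin S W₁) → ℂ := fun h => 1 - (ψ (π h) : ℂ)

/-- `Ind_H^S (1 - θ)`. -/
noncomputable def beta (π : ↥(Hin S W₁) →* ↥(W₁ ⊔ W₂)) (ψ : ↥(W₁ ⊔ W₂) →* ℂˣ) : ↥S → ℂ :=
  Cfsg.indFun (Hin S W₁) (alpha π ψ)

theorem gen_alpha (π : ↥(Hin S W₁) →* ↥(W₁ ⊔ W₂)) (ψ : ↥(W₁ ⊔ W₂) →* ℂˣ) :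
    Cfsg.IsGeneralizedCharacter ↥(Hin S W₁) (alpha π ψ) := by
  have e : alpha π ψ = (oneChar ↥(Hin S W₁) : ↥(Hin S W₁) → ℂ) -
      (Characters.Linear.linChar (ψ.comp π) : ↥(Hin S W₁) → ℂ) := by
    funext h
    simp [alpha, oneChar_apply, Characters.Linear.linChar_apply]
  rw [e]
  exact gen_sub (gen_of_irr (oneChar _).2) (gen_of_irr (Characters.Linear.linChar _).2)

include F

/-- Conjugation by an element of `U` on `P`. -/
noncomputable def conjU (a : ↥U) : ↥(Cfsg.fittingHallOf S) →* ↥(Cfsg.fittingHallOf S) where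
  toFun x := ⟨(a : G)⁻¹ * x * a, by simpa using F.conj_P (inv_mem (F.U_le a.2)) x.2⟩
  map_one' := Subtype.ext (by simp)
  map_mul' x y := Subtype.ext (by simp [mul_assoc])

theorem coe_conjU (a : ↥U) (x : ↥(Cfsg.fittingHallOf S)) :
    (conjU F a x : G) = (a : G)⁻¹ * x * a := rfl

/-- The inclusion of `P` in `H`. -/
noncomputable def incl : ↥(Cfsg.fittingHallOf S) →* ↥(Hin S W₁) where
  toFun x := mk F (x, 1)
  map_one' := Subtype.ext (Subtype.ext (by rw [coe_mk]; simp))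
  map_mul' x y := Subtype.ext (Subtype.ext (by
    show ((mk F (x * y, 1) : ↥S) : G) = ((mk F (x, 1) : ↥S) : G) * ((mk F (y, 1) : ↥S) : G)
    rw [coe_mk, coe_mk, coe_mk]; simp [mul_assoc]))

theorem coe_incl (x : ↥(Cfsg.fittingHallOf S)) : ((incl F x : ↥S) : G) = (x : G) := by
  show ((mk F (x, 1) : ↥S) : G) = _
  rw [coe_mk]; simp

/-- An element of `U` whose conjugate of `w` lies in `H` is `1`. -/
theorem eq_one_of_conj_mem {a : G} (ha : a ∈ U) {x : G} (hx : x ∈ Cfsg.fittingHallOf S) {w : G}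
    (hw : w ∈ W₁) (hw1 : w ≠ 1) (h : a⁻¹ * (x * w) * a ∈ Cfsg.fittingHallOf S ⊔ W₁) : a = 1 := by
  have h1 : a⁻¹ * x * a ∈ Cfsg.fittingHallOf S := by simpa using F.conj_P (inv_mem (F.U_le ha)) hx
  have h2 : a⁻¹ * (w * a * w⁻¹) ∈ Cfsg.fittingHallOf S ⊔ W₁ := by
    have := mul_mem (mul_mem (inv_mem (Subgroup.mem_sup_left (T := W₁) h1)) h)
      (inv_mem (Subgroup.mem_sup_right (S := Cfsg.fittingHallOf S) hw))
    refine (congrArg (· ∈ Cfsg.fittingHallOf S ⊔ W₁) ?_).mp this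
    group
  obtain ⟨x', w', e⟩ := mem_H F h2
  have hb : a⁻¹ * (w * a * w⁻¹) ∈ U := mul_mem (inv_mem ha) (F.conj_U hw ha)
  have hw' : (w' : G) = 1 := by
    refine P_inf_W₁ F ?_ w'.2
    rw [show (w' : G) = (x' : G)⁻¹ * (a⁻¹ * (w * a * w⁻¹)) by rw [e, inv_mul_cancel_left]]
    exact mul_mem (inv_mem (F.P_le_derived x'.2)) (F.U_le_derived hb)
  have hbP : a⁻¹ * (w * a * w⁻¹) ∈ Cfsg.fittingHallOf S ⊓ U :=
    Subgroup.mem_inf.2 ⟨by rw [e, hw', mul_one]; exact x'.2, hb⟩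
  rw [F.typeP.U_compl.2.2.1, Subgroup.mem_bot, inv_mul_eq_one] at hbP
  exact F.fpf hw hw1 ha (mul_inv_eq_iff_eq_mul.1 hbP.symm)

/-- `S = U H`. -/
noncomputable def decS : ↥U × ↥(Hin S W₁) ≃ ↥S :=
  Equiv.ofBijective (fun p => ⟨(p.1 : G) * ((p.2 : ↥S) : G), mul_mem (F.U_le p.1.2) (p.2 : ↥S).2⟩)
    ((Fintype.bijective_iff_injective_and_card _).2 ⟨fun p p' h => by
      obtain ⟨x, w, e⟩ := mem_H F (g := ((p.2 : ↥S) : G)) p.2.2
      obtain ⟨x', w', e'⟩ := mem_H F (g := ((p'.2 : ↥S) : G)) p'.2.2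
      have h0 : (p.1 : G) * ((p.2 : ↥S) : G) = (p'.1 : G) * ((p'.2 : ↥S) : G) :=
        congrArg Subtype.val h
      have h1 : (p'.1 : G)⁻¹ * p.1 = (x' : G) * ((w' : G) * (w : G)⁻¹) * (x : G)⁻¹ := by
        have h' := h0
        rw [e, e'] at h'
        calc (p'.1 : G)⁻¹ * p.1 = (p'.1 : G)⁻¹ * ((p.1 : G) * ((x : G) * w)) *
              ((w : G)⁻¹ * (x : G)⁻¹) := by group
          _ = _ := by rw [h']; group
      have hb : (p'.1 : G)⁻¹ * p.1 ∈ U := mul_mem (inv_mem p'.1.2) p.1.2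
      have hw : (w' : G) * (w : G)⁻¹ = 1 := by
        refine P_inf_W₁ F ?_ (mul_mem w'.2 (inv_mem w.2))
        rw [show (w' : G) * (w : G)⁻¹ = (x' : G)⁻¹ * ((p'.1 : G)⁻¹ * p.1) * x by rw [h1]; group]
        exact mul_mem (mul_mem (inv_mem (F.P_le_derived x'.2)) (F.U_le_derived hb))
          (F.P_le_derived x.2)
      have hbP : (p'.1 : G)⁻¹ * p.1 ∈ Cfsg.fittingHallOf S ⊓ U :=
        Subgroup.mem_inf.2 ⟨by rw [h1, hw, mul_one]; exact mul_mem x'.2 (inv_mem x.2), hb⟩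
      rw [F.typeP.U_compl.2.2.1, Subgroup.mem_bot, inv_mul_eq_one] at hbP
      exact Prod.ext (Subtype.ext hbP.symm)
        (Subtype.ext (Subtype.ext (mul_left_cancel (hbP ▸ h0)))),
      by
        simp only [← Nat.card_eq_fintype_card]
        rw [Nat.card_prod, card_Hin F, F.card_S]
        ring⟩)

theorem ind_value {θ : ↥(Hin S W₁) → ℂ} (hθ : Cfsg.IsClassFunction ↥(Hin S W₁) θ) (g : ↥S) :
    Cfsg.indFun (Hin S W₁) θ g = ∑ a : ↥U, Cfsg.extendByZero (Hin S W₁) θ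
      ((⟨(a : G), F.U_le a.2⟩ : ↥S)⁻¹ * g * ⟨(a : G), F.U_le a.2⟩) := by
  rw [Cfsg.indFun, ← (decS F).sum_comp, Fintype.sum_prod_type, Finset.mul_sum]
  refine Finset.sum_congr rfl fun a _ => ?_
  rw [Finset.sum_congr rfl (g := fun _ : ↥(Hin S W₁) => Cfsg.extendByZero (Hin S W₁) θ
    ((⟨(a : G), F.U_le a.2⟩ : ↥S)⁻¹ * g * ⟨(a : G), F.U_le a.2⟩)) fun h _ => ?_,
    Finset.sum_const, Finset.card_univ, ← Nat.card_eq_fintype_card, nsmul_eq_mul, ← mul_assoc,
    inv_mul_cancel₀ (subgroup_card_ne_zero _), one_mul]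
  rw [show decS F (a, h) = (⟨(a : G), F.U_le a.2⟩ : ↥S) * (h : ↥S) from rfl, mul_inv_rev]
  refine Eq.trans (congrArg _ ?_) (extendByZero_conj_of_mem _ hθ (inv_mem h.2) _)
  group

variable (π : ↥(Hin S W₁) →* ↥(W₁ ⊔ W₂)) (hπ₂ : ∀ h, (π h : G) ∈ W₂)
  (hπ₁ : ∀ h : ↥(Hin S W₁), ((h : ↥S) : G) ∈ W₁ → π h = 1)
  (hπid : ∀ h : ↥(Hin S W₁), ((h : ↥S) : G) ∈ W₂ → (π h : G) = ((h : ↥S) : G))

/-- The restriction of `θ` to `P`. -/
noncomputable def lam (ψ : ↥(W₁ ⊔ W₂) →* ℂˣ) : ↥(Cfsg.fittingHallOf S) →* ℂˣ :=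
  (ψ.comp π).comp (incl F)

include hπ₁ in
theorem theta_mk (ψ : ↥(W₁ ⊔ W₂) →* ℂˣ) (x : ↥(Cfsg.fittingHallOf S)) (w : ↥W₁) :
    ψ (π (mk F (x, w))) = lam F π ψ x := by
  have e : mk F (x, w) = incl F x * mk F (1, w) := by
    refine Subtype.ext (Subtype.ext ?_)
    rw [Subgroup.coe_mul, Subgroup.coe_mul, coe_incl, coe_mk, coe_mk]
    simp
  rw [e, map_mul, hπ₁ (mk F (1, w)) (by rw [coe_mk]; simpa using w.2), mul_one]
  rfl

include hπid in
theorem lam_W₂ {ψ : ↥(W₁ ⊔ W₂) →* ℂˣ} (y : ↥(W₁ ⊔ W₂)) (hy : (y : G) ∈ W₂) :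
    lam F π ψ ⟨y, F.W₂_le_P hy⟩ = ψ y := by
  show ψ (π _) = ψ y
  congr 1
  refine Subtype.ext ?_
  rw [hπid _ (by rw [coe_incl]; exact hy), coe_incl]

include hπid in
theorem lam_inj {ψ ψ' : ↥(W₁ ⊔ W₂) →* ℂˣ} (h : IsQ ψ) (h' : IsQ ψ')
    (e : lam F π ψ = lam F π ψ') : ψ = ψ' :=
  CyclicTI.hom_ext (fun w hw => (h w hw).trans (h' w hw).symm) fun w hw => by
    rw [← lam_W₂ F π hπid w hw, ← lam_W₂ F π hπid w hw, e]

include hπid in
theorem lam_ne_one {ψ : ↥(W₁ ⊔ W₂) →* ℂˣ} (h : IsQ ψ) (h1 : ψ ≠ 1) : lam F π ψ ≠ 1 := fun e =>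
  h1 (lam_inj F π hπid h CyclicTI.isQ_one (by rw [e]; ext; simp [lam]))

include hπ₁ in
theorem lam_conj (ψ : ↥(W₁ ⊔ W₂) →* ℂˣ) {w : G} (hw : w ∈ W₁) (x x' : ↥(Cfsg.fittingHallOf S))
    (e : (x' : G) = w * x * w⁻¹) : lam F π ψ x' = lam F π ψ x := by
  set v : ↥(Hin S W₁) := mk F (1, ⟨w, hw⟩) with hv
  have he : incl F x' * v = v * incl F x := by
    refine Subtype.ext (Subtype.ext ?_)
    simp only [Subgroup.coe_mul, coe_incl, hv, coe_mk, Subgroup.coe_one, one_mul, e]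
    group
  have := congrArg (fun h => ψ (π h)) he
  simp only [map_mul, hπ₁ v (by rw [hv, coe_mk]; simpa using hw), map_one, mul_one, one_mul] at this
  exact this

include hπ₁ hπid in
/-- A non-trivial fixed character of `P` is fixed by no other element of `U`. -/
theorem lam_conjU (hfpf : ∀ a ∈ U, a ≠ 1 → ∀ x ∈ Cfsg.fittingHallOf S, a * x = x * a → x = 1)
    {ψ ψ' : ↥(W₁ ⊔ W₂) →* ℂˣ} (h : IsQ ψ) (h' : IsQ ψ') (h1' : ψ' ≠ 1) {a : ↥U}
    (e : (lam F π ψ').comp (conjU F a) = lam F π ψ) : a = 1 ∧ ψ = ψ' := by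
  obtain ⟨w, hw, hw1⟩ := F.exists_W₁
  have hwS := F.W₁_le hw
  set b : ↥U := ⟨w⁻¹ * a * w, by simpa using F.conj_U (inv_mem hw) a.2⟩ with hb
  set c : ↥U := b⁻¹ * a with hc
  have hfix : ∀ y, lam F π ψ' (conjU F c y) = lam F π ψ' y := by
    intro y
    have hx : (b : G) * y * (b : G)⁻¹ ∈ Cfsg.fittingHallOf S := F.conj_P (F.U_le b.2) y.2
    set x : ↥(Cfsg.fittingHallOf S) := ⟨_, hx⟩ with hxdef
    set x' : ↥(Cfsg.fittingHallOf S) := ⟨w * x * w⁻¹, F.conj_P hwS x.2⟩ with hx'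
    have e1 : conjU F c y = conjU F a x := by
      refine Subtype.ext ?_
      simp only [coe_conjU, hc, hxdef, Subgroup.coe_mul, Subgroup.coe_inv]
      group
    have e2 : lam F π ψ' (conjU F a x) = lam F π ψ' (conjU F a x') := by
      have a1 := DFunLike.congr_fun e x
      have a2 := DFunLike.congr_fun e x'
      simp only [MonoidHom.comp_apply] at a1 a2
      rw [a1, a2, lam_conj F π hπ₁ ψ hw x x' rfl]
    have e3 : lam F π ψ' (conjU F a x') = lam F π ψ' y := by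
      refine lam_conj F π hπ₁ ψ' hw y _ ?_
      simp only [coe_conjU, hx', hxdef, hb]
      group
    rw [e1, e2, e3]
  have hc1 : c = 1 := by
    by_contra hne
    set D : ↥(Cfsg.fittingHallOf S) → ↥(Cfsg.fittingHallOf S) := fun y => conjU F c y * y⁻¹
    have hDinj : Function.Injective D := by
      intro y z hyz
      have hcm : (c : G) * ((z : G)⁻¹ * y) = (z : G)⁻¹ * y * c := by
        have h2 : (c : G)⁻¹ * ((z : G)⁻¹ * y) * c = (z : G)⁻¹ * y := by
          have e4 : conjU F c (z⁻¹ * y) = z⁻¹ * y := by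
            have h3 : conjU F c y * y⁻¹ = conjU F c z * z⁻¹ := hyz
            rw [map_mul, map_inv]
            have h4 : conjU F c y = conjU F c z * z⁻¹ * y := eq_mul_of_mul_inv_eq h3
            rw [h4, mul_assoc (conjU F c z), inv_mul_cancel_left]
          exact congrArg Subtype.val e4
        conv_lhs => rw [← h2]
        group
      refine (inv_mul_eq_one.1 (?_ : z⁻¹ * y = 1)).symm
      exact Subtype.ext (hfpf c c.2 (fun e' => hne (Subtype.ext e')) _ (z⁻¹ * y).2 hcm)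
    refine lam_ne_one F π hπid h' h1' (MonoidHom.ext fun y => ?_)
    obtain ⟨z, rfl⟩ := (Finite.injective_iff_surjective.1 hDinj) y
    rw [map_mul, map_inv, hfix, mul_inv_cancel, MonoidHom.one_apply]
  have ha : a = 1 := by
    refine Subtype.ext (F.fpf hw hw1 a.2 ?_)
    have hab : (a : G) = w⁻¹ * a * w := congrArg Subtype.val (inv_mul_eq_one.1 hc1).symm
    conv_lhs => rw [hab]
    group
  subst ha
  refine ⟨rfl, (lam_inj F π hπid h' h ?_).symm⟩
  rw [← e]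
  refine MonoidHom.ext fun y => ?_
  rw [MonoidHom.comp_apply]
  congr 1
  exact Subtype.ext (by simp [coe_conjU])

include hπ₁ in
theorem beta_P (ψ : ↥(W₁ ⊔ W₂) →* ℂˣ) (x : ↥(Cfsg.fittingHallOf S)) :
    beta π ψ (incl F x : ↥S) =
      (Nat.card U : ℂ) - ∑ a : ↥U, (lam F π ψ (conjU F a x) : ℂ) := by
  rw [beta, ind_value F (gen_classFun (gen_alpha π ψ)),
    show (Nat.card U : ℂ) = ∑ _a : ↥U, (1 : ℂ) by simp [Nat.card_eq_fintype_card],
    ← Finset.sum_sub_distrib]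
  refine Finset.sum_congr rfl fun a _ => ?_
  have e : (⟨(a : G), F.U_le a.2⟩ : ↥S)⁻¹ * (incl F x : ↥S) * ⟨(a : G), F.U_le a.2⟩ =
      ((incl F (conjU F a x) : ↥(Hin S W₁)) : ↥S) := by
    refine Subtype.ext ?_
    simp only [Subgroup.coe_mul, Subgroup.coe_inv, coe_incl, coe_conjU]
  rw [e, extendByZero_coe]
  rfl

include hπ₁ in
theorem beta_PW (ψ : ↥(W₁ ⊔ W₂) →* ℂˣ) (x : ↥(Cfsg.fittingHallOf S)) {w : ↥W₁} (hw : w ≠ 1) :
    beta π ψ (mk F (x, w) : ↥S) = 1 - (lam F π ψ x : ℂ) := by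
  rw [beta, ind_value F (gen_classFun (gen_alpha π ψ)), Finset.sum_eq_single (1 : ↥U)]
  · rw [show (⟨((1 : ↥U) : G), F.U_le (1 : ↥U).2⟩ : ↥S) = 1 from rfl, inv_one, one_mul, mul_one,
      extendByZero_coe]
    show 1 - (ψ (π (mk F (x, w))) : ℂ) = _
    rw [theta_mk F π hπ₁]
  · intro a _ ha
    refine extendByZero_of_not_mem _ _ fun hm => ha (Subtype.ext ?_)
    refine eq_one_of_conj_mem F a.2 x.2 w.2 (fun e => hw (Subtype.ext e)) ?_
    simpa [Subgroup.mem_subgroupOf, coe_mk] using hm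
  · exact fun h => absurd (Finset.mem_univ _) h

include hπ₁ hπid in
theorem inner_beta (hfpf : ∀ a ∈ U, a ≠ 1 → ∀ x ∈ Cfsg.fittingHallOf S, a * x = x * a → x = 1)
    {N : ℕ} (hN : Nat.card U = Nat.card W₁ * N + 1)
    {ψ ψ' : ↥(W₁ ⊔ W₂) →* ℂˣ} (h : IsQ ψ) (h1 : ψ ≠ 1) (h' : IsQ ψ') (h1' : ψ' ≠ 1) :
    Cfsg.classInner (beta π ψ) (beta π ψ') = if ψ = ψ' then (N : ℂ) + 2 else (N : ℂ) + 1 := by
  set P := Cfsg.fittingHallOf S with hP
  set δ : ℂ := if ψ = ψ' then 1 else 0 with hδ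
  set l := lam F π ψ
  set l' := lam F π ψ'
  have hl := lam_ne_one F π hπid h h1
  have hl' := lam_ne_one F π hπid h' h1'
  have hsum : ∑ x : P, (1 - (l x : ℂ)) = (Nat.card P : ℂ) := by
    rw [Finset.sum_sub_distrib, sum_hom hl, sub_zero, Finset.sum_const, Finset.card_univ,
      ← Nat.card_eq_fintype_card, nsmul_one]
  have hterm : ∀ m : P →* ℂˣ, m ≠ 1 → ∑ x : P, (1 - (l x : ℂ)) * conj (m x : ℂ) =
      -(if l = m then (Nat.card P : ℂ) else 0) := by
    intro m hm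
    simp only [sub_mul, one_mul, Finset.sum_sub_distrib, ← map_sum, sum_hom hm, map_zero,
      sum_hom_mul, zero_sub]
  have hfirst : ∑ x : P, alpha π ψ (mk F (x, 1)) * conj (beta π ψ' (mk F (x, 1) : ↥S)) =
      (Nat.card P : ℂ) * ((Nat.card U : ℂ) + δ) := by
    have e0 : ∀ x : P, alpha π ψ (mk F (x, 1)) * conj (beta π ψ' (mk F (x, 1) : ↥S)) =
        (1 - (l x : ℂ)) * (Nat.card U : ℂ) -
          ∑ a : ↥U, (1 - (l x : ℂ)) * conj (l'.comp (conjU F a) x : ℂ) := by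
      intro x
      rw [show mk F (x, 1) = incl F x from rfl, beta_P F π hπ₁ ψ' x, map_sub, map_natCast, map_sum,
        mul_sub, Finset.mul_sum]
      rfl
    have hne : ∀ a : ↥U, l'.comp (conjU F a) ≠ 1 := by
      intro a e
      refine hl' (MonoidHom.ext fun y => ?_)
      have := DFunLike.congr_fun e
        (⟨(a : G) * y * (a : G)⁻¹, F.conj_P (F.U_le a.2) y.2⟩ : P)
      rw [MonoidHom.comp_apply] at this
      rw [MonoidHom.one_apply] at this ⊢
      refine Eq.trans (congrArg _ ?_) this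
      refine Subtype.ext ?_
      rw [coe_conjU]
      group
    rw [Finset.sum_congr rfl fun x _ => e0 x, Finset.sum_sub_distrib, ← Finset.sum_mul, hsum,
      Finset.sum_comm, Finset.sum_congr rfl fun a _ => hterm _ (hne a)]
    have hδ' : ∑ a : ↥U, (if l = l'.comp (conjU F a) then (Nat.card P : ℂ) else 0) =
        (Nat.card P : ℂ) * δ := by
      have hiff : ∀ a : ↥U, l = l'.comp (conjU F a) ↔ a = 1 ∧ ψ = ψ' := by
        refine fun a => ⟨fun e => lam_conjU F π hπ₁ hπid hfpf h h' h1' e.symm, ?_⟩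
        rintro ⟨rfl, rfl⟩
        refine MonoidHom.ext fun y => ?_
        rw [MonoidHom.comp_apply]
        exact congrArg _ (Subtype.ext (by simp [coe_conjU]))
      simp only [hiff, hδ]
      by_cases hψ : ψ = ψ' <;> simp [hψ, Finset.sum_ite_eq']
    rw [Finset.sum_neg_distrib, hδ']
    ring
  have hrest : ∀ w : ↥W₁, w ≠ 1 → ∑ x : P, alpha π ψ (mk F (x, w)) *
      conj (beta π ψ' (mk F (x, w) : ↥S)) = (Nat.card P : ℂ) * (1 + δ) := by
    intro w hw
    have e0 : ∀ x : P, alpha π ψ (mk F (x, w)) * conj (beta π ψ' (mk F (x, w) : ↥S)) =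
        (1 - (l x : ℂ)) - (1 - (l x : ℂ)) * conj (l' x : ℂ) := by
      intro x
      rw [beta_PW F π hπ₁ ψ' x hw, alpha, theta_mk F π hπ₁, map_sub, map_one]
      ring
    rw [Finset.sum_congr rfl fun x _ => e0 x, Finset.sum_sub_distrib, hsum, hterm l' hl']
    have hiff : l = l' ↔ ψ = ψ' := ⟨lam_inj F π hπid h h', fun e => congrArg (lam F π) e⟩
    simp only [hiff, hδ]
    split_ifs <;> ring
  have htot : ∑ z : ↥(Hin S W₁), alpha π ψ z * conj (beta π ψ' (z : ↥S)) =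
      (Nat.card P : ℂ) * ((Nat.card U : ℂ) + δ) +
        ((Nat.card W₁ : ℂ) - 1) * ((Nat.card P : ℂ) * (1 + δ)) := by
    rw [← (mk F).sum_comp, Fintype.sum_prod_type, Finset.sum_comm,
      ← Finset.add_sum_erase _ _ (Finset.mem_univ (1 : ↥W₁)), hfirst,
      Finset.sum_congr rfl fun w hw => hrest w (Finset.ne_of_mem_erase hw), Finset.sum_const,
      Finset.card_erase_of_mem (Finset.mem_univ _), Finset.card_univ, ← Nat.card_eq_fintype_card,
      nsmul_eq_mul, Nat.cast_sub Nat.card_pos, Nat.cast_one]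
  have hcl : Cfsg.IsClassFunction ↥S (beta π ψ') := isClassFunction_indFun _ _
  rw [beta, frobenius_reciprocity _ _ hcl, Cfsg.classInner, htot, card_Hin F, hN]
  have hq0 : (Nat.card W₁ : ℂ) ≠ 0 := Nat.cast_ne_zero.2 Nat.card_pos.ne'
  have hP0 : (Nat.card P : ℂ) ≠ 0 := Nat.cast_ne_zero.2 Nat.card_pos.ne'
  simp only [hδ]
  split_ifs <;> (push_cast; field_simp; ring)

include hπ₂ hπ₁ hπid in
/-- Where `β` can be non-zero. -/
theorem beta_support (ψ : ↥(W₁ ⊔ W₂) →* ℂˣ) {g : ↥S} (hg : beta π ψ g ≠ 0) :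
    ∃ s ∈ S, ∃ z : G, (z ∈ hSet (Cfsg.fittingHallOf S) ∨
      z ∈ Interface.PF8.cyclicSet G W₁ W₂) ∧ (g : G) = s * z * s⁻¹ := by
  rw [beta, ind_value F (gen_classFun (gen_alpha π ψ))] at hg
  obtain ⟨a, -, ha⟩ := Finset.exists_ne_zero_of_sum_ne_zero hg
  set aS : ↥S := ⟨(a : G), F.U_le a.2⟩ with haS
  have hm : aS⁻¹ * g * aS ∈ Hin S W₁ := by
    by_contra hm
    exact ha (extendByZero_of_not_mem _ _ hm)
  rw [extendByZero_of_mem _ _ hm] at ha
  obtain ⟨⟨x, w⟩, he⟩ := (mk F).surjective ⟨_, hm⟩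
  rw [← he, alpha, theta_mk F π hπ₁, sub_ne_zero] at ha
  have hg' : (g : G) = (a : G) * ((x : G) * w) * (a : G)⁻¹ := by
    rw [← coe_mk F (x, w), he]
    simp [haS, mul_assoc]
  set y : G := (π (incl F x) : G) with hy
  have hy1 : y ≠ 1 := by
    intro e
    refine ha ?_
    show 1 = ((ψ (π (incl F x)) : ℂˣ) : ℂ)
    rw [show π (incl F x) = 1 from Subtype.ext e, map_one, Units.val_one]
  by_cases hw : w = 1
  · refine ⟨a, F.U_le a.2, x, Or.inl (mem_hSet.2 ⟨x.2, fun e => hy1 ?_⟩), by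
      rw [hg', hw, Subgroup.coe_one, mul_one]⟩
    rw [hy, show x = 1 from Subtype.ext e, map_one, map_one, Subgroup.coe_one]
  have hw1 : (w : G) ≠ 1 := fun e => hw (Subtype.ext e)
  have hyW : y ∈ W₂ := hπ₂ _
  -- `x w` is conjugate to `y w` under `P`
  set K : Subgroup ↥(Cfsg.fittingHallOf S) := ((Subgroup.subtype _).comp (π.comp (incl F))).ker
  let D : ↥(Cfsg.fittingHallOf S) →* ↥(Cfsg.fittingHallOf S) :=
    { toFun := fun c => ⟨(c : G) * ((w : G) * (c : G)⁻¹ * (w : G)⁻¹),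
        mul_mem c.2 (F.conj_P (F.W₁_le w.2) (inv_mem c.2))⟩
      map_one' := Subtype.ext (by simp)
      map_mul' := fun c d => Subtype.ext (by
        have hd := F.conj_P (F.W₁_le w.2) (inv_mem d.2)
        have hc := F.conj_P (F.W₁_le w.2) (inv_mem c.2)
        show (c : G) * d * ((w : G) * ((c : G) * d)⁻¹ * (w : G)⁻¹) =
          ((c : G) * ((w : G) * (c : G)⁻¹ * (w : G)⁻¹)) * ((d : G) * ((w : G) * (d : G)⁻¹ * (w : G)⁻¹))
        rw [show (w : G) * ((c : G) * d)⁻¹ * (w : G)⁻¹ =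
            (w : G) * (d : G)⁻¹ * (w : G)⁻¹ * ((w : G) * (c : G)⁻¹ * (w : G)⁻¹) by group,
          F.P_comm _ hd _ hc, mul_assoc, ← mul_assoc (d : G), F.P_comm _ d.2 _ hc]
        group) }
  have hDK : D.range ≤ K := by
    rintro _ ⟨c, rfl⟩
    rw [MonoidHom.mem_ker, MonoidHom.comp_apply, MonoidHom.comp_apply]
    set v : ↥(Hin S W₁) := mk F (1, w) with hv
    have e : incl F (D c) = incl F c * (v * (incl F c)⁻¹ * v⁻¹) := by
      refine Subtype.ext (Subtype.ext ?_)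
      simp only [Subgroup.coe_mul, Subgroup.coe_inv, coe_incl, hv, coe_mk, Subgroup.coe_one, one_mul]
      rfl
    simp only [e, map_mul, map_inv, hπ₁ v (by rw [hv, coe_mk]; simp), map_one, inv_one, one_mul,
      mul_one, mul_inv_cancel]
  have hcard : Nat.card K ≤ Nat.card D.range := by
    have h1 := D.ker.card_mul_index
    rw [Subgroup.index_ker] at h1
    have h2 := K.card_mul_index
    rw [Subgroup.index_ker] at h2
    have h3 : Nat.card D.ker ≤ Nat.card W₂ := by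
      refine Nat.card_le_card_of_injective (fun c => ⟨((c : ↥(Cfsg.fittingHallOf S)) : G), ?_⟩)
        fun c d e => Subtype.ext (Subtype.ext (congrArg (fun z : ↥W₂ => (z : G)) e))
      refine F.fixed_P c.1.2 w.2 hw1 ?_
      have hc : (c.1 : G) * ((w : G) * (c.1 : G)⁻¹ * (w : G)⁻¹) = 1 :=
        congrArg Subtype.val (MonoidHom.mem_ker.1 c.2)
      rw [← mul_assoc, mul_inv_eq_one, ← mul_assoc, mul_inv_eq_iff_eq_mul] at hc
      exact hc.symm
    have h4 : Nat.card W₂ ≤ Nat.card ((Subgroup.subtype _).comp (π.comp (incl F))).range := by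
      refine Nat.card_le_card_of_injective (fun z => ⟨(z : G), ⟨⟨z, F.W₂_le_P z.2⟩, ?_⟩⟩)
        fun c d e => Subtype.ext (congrArg (fun z : ↥((Subgroup.subtype _).comp (π.comp (incl F))).range => (z : G)) e)
      show (π (incl F _) : G) = z
      rw [hπid _ (by rw [coe_incl]; exact z.2), coe_incl]
    have h5 := Nat.mul_le_mul_left (Nat.card K) h4
    rw [h2, ← h1, mul_comm (Nat.card K)] at h5
    exact Nat.le_of_mul_le_mul_left (h5.trans (Nat.mul_le_mul_right _ h3)) Nat.card_pos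
  have heq := Subgroup.eq_of_le_of_card_ge hDK hcard
  have hmem : x * (⟨y, F.W₂_le_P hyW⟩ : ↥(Cfsg.fittingHallOf S))⁻¹ ∈ D.range := by
    rw [heq, MonoidHom.mem_ker, map_mul, map_inv, mul_inv_eq_one]
    show y = (π (incl F _) : G)
    rw [hπid _ (by rw [coe_incl]; exact hyW), coe_incl]
  obtain ⟨c, hc⟩ := hmem
  have hc' : (c : G) * ((w : G) * (c : G)⁻¹ * (w : G)⁻¹) = (x : G) * y⁻¹ :=
    congrArg Subtype.val hc
  refine ⟨(a : G) * c, mul_mem (F.U_le a.2) (F.P_le c.2), y * w, Or.inr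
    ⟨mul_mem (Subgroup.mem_sup_right hyW) (Subgroup.mem_sup_left w.2), fun h => hy1 ?_,
      fun h => hw1 ?_⟩, ?_⟩
  · refine CyclicTI.eq_one_of_mem F.typeP.selfNormalizing ?_ hyW
    simpa using mul_mem h (inv_mem w.2)
  · refine CyclicTI.eq_one_of_mem F.typeP.selfNormalizing w.2 ?_
    simpa using mul_mem (inv_mem hyW) h
  · rw [hg']
    have hyc : (c : G) * y = y * c := F.P_comm _ c.2 _ (F.W₂_le_P hyW)
    have hxy : (x : G) * y⁻¹ = y⁻¹ * x := F.P_comm _ x.2 _ (inv_mem (F.W₂_le_P hyW))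
    calc (a : G) * ((x : G) * w) * (a : G)⁻¹
        = (a : G) * (y * ((x : G) * y⁻¹) * w) * (a : G)⁻¹ := by rw [hxy, mul_inv_cancel_left]
      _ = (a : G) * (((y : G) * c) * ((w : G) * (c : G)⁻¹ * (w : G)⁻¹) * w) * (a : G)⁻¹ := by
          rw [← hc']; group
      _ = _ := by rw [← hyc]; group

omit F

/-! ### Induction from a TI set -/

theorem indFun_apply_ti {A : Set G} (hTI : ∀ g ∉ S, ∀ t ∈ A, g * t * g⁻¹ ∈ A → t = 1)
    {α : ↥S → ℂ} (hcl : Cfsg.IsClassFunction ↥S α) (hsupp : ∀ x : ↥S, α x ≠ 0 → (x : G) ∈ A)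
    {t : ↥S} (ht : (t : G) ∈ A) (ht1 : t ≠ 1) : Cfsg.indFun S α t = α t := by
  have key : ∀ y : G, Cfsg.extendByZero S α (y⁻¹ * t * y) = if y ∈ S then α t else 0 := by
    intro y
    split_ifs with hy
    · rw [extendByZero_of_mem S α (mul_mem (mul_mem (inv_mem hy) t.2) hy),
        ← hcl t ⟨y⁻¹, inv_mem hy⟩]
      exact congrArg α (Subtype.ext (by simp))
    · by_cases hm : y⁻¹ * t * y ∈ S
      · rw [extendByZero_of_mem S α hm]
        by_contra hne
        exact ht1 (Subtype.ext (hTI y⁻¹ (fun h' => hy (inv_mem_iff.1 h')) t ht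
          (by rw [inv_inv]; exact hsupp _ hne)))
      · exact extendByZero_of_not_mem S α hm
  show Cfsg.indFun S α t = α t
  simp only [Cfsg.indFun, key]
  rw [← Finset.sum_filter, Finset.sum_const, nsmul_eq_mul, ← mul_assoc,
    show (Finset.univ.filter fun y : G => y ∈ S).card = Nat.card S by
      rw [Nat.card_eq_fintype_card, Fintype.card_subtype],
    inv_mul_cancel₀ (subgroup_card_ne_zero S), one_mul]

theorem classInner_indFun_ti {A : Set G} (hTI : ∀ g ∉ S, ∀ t ∈ A, g * t * g⁻¹ ∈ A → t = 1)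
    (hA1 : (1 : G) ∉ A) {α α' : ↥S → ℂ} (hsupp : ∀ x : ↥S, α x ≠ 0 → (x : G) ∈ A)
    (hcl' : Cfsg.IsClassFunction ↥S α') (hsupp' : ∀ x : ↥S, α' x ≠ 0 → (x : G) ∈ A) :
    Cfsg.classInner (Cfsg.indFun S α) (Cfsg.indFun S α') = Cfsg.classInner α α' := by
  rw [frobenius_reciprocity S α (isClassFunction_indFun S α')]
  simp only [Cfsg.classInner]
  congr 1
  refine Finset.sum_congr rfl fun x _ => ?_
  by_cases hx : α x = 0
  · rw [hx, zero_mul, zero_mul]
  · rw [indFun_apply_ti hTI hcl' hsupp' (hsupp x hx) fun e => hA1 (by simpa [e] using hsupp x hx)]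

set_option maxHeartbeats 1000000 in
/-- The data of a side. -/
theorem exists_sideData (F : Facts S W₁ U W₂)
    (hfpf : ∀ a ∈ U, a ≠ 1 → ∀ x ∈ Cfsg.fittingHallOf S, a * x = x * a → x = 1)
    (hTI : Cfsg.IsTISubset (Cfsg.Agent.Lib.OddOrder.TypeOne.typeA0 S) ∧ Subgroup.normalizer (Cfsg.Agent.Lib.OddOrder.TypeOne.typeA0 S) = S)
    {η : (↥(W₁ ⊔ W₂) →* ℂˣ) → G → ℂ} (Fm : Table.Fam W₁ W₂ η) :
    ∃ X : SideData η, X.Z = sideZone (Cfsg.fittingHallOf S) W₁ W₂ ∧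
      Nat.card U = Nat.card W₁ * X.N + 1 := by
  haveI : Fact (Nat.card W₁).Prime := ⟨F.q_prime⟩
  obtain ⟨N, hN⟩ : ∃ N, Nat.card U = Nat.card W₁ * N + 1 := by
    have hWU : W₁ ≤ Subgroup.normalizer (U : Set G) := F.typeP.U_normal
    have h := fixed_modEq hWU (IsPGroup.of_card (n := 1) (pow_one (Nat.card W₁)).symm)
    have hbot : U ⊓ Subgroup.centralizer (W₁ : Set G) = ⊥ := by
      rw [Subgroup.eq_bot_iff_forall]
      intro a ha
      obtain ⟨w, hw, hw1⟩ := F.exists_W₁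
      exact F.fpf hw hw1 (Subgroup.mem_inf.1 ha).1
        (Subgroup.mem_centralizer_iff.1 (Subgroup.mem_inf.1 ha).2 w hw)
    rw [hbot, Subgroup.card_bot] at h
    exact ⟨Nat.card U / Nat.card W₁, by
      have := Nat.div_add_mod (Nat.card U) (Nat.card W₁)
      rw [h, Nat.one_mod_eq_one.2 F.q_prime.ne_one] at this
      exact this.symm⟩
  obtain ⟨π, hπ₂, hπ₁, hπid⟩ := exists_retraction F
  set A := Cfsg.Agent.Lib.OddOrder.TypeOne.typeA0 S with hA
  have hTI' : ∀ g ∉ S, ∀ t ∈ A, g * t * g⁻¹ ∈ A → t = 1 := fun g hg =>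
    hTI.1 g (by rw [hTI.2]; exact hg)
  have hA1 : (1 : G) ∉ A := by
    rintro (h | ⟨-, W₁', U', W₂', hP', m, -, w, -, hw1, -, e⟩)
    · rw [Cfsg.Agent.Lib.OddOrder.TypeOne.typeA, if_neg (PF8.TypeP.not_typeI ⟨_, _, _, F.typeP⟩)] at h
      exact h.2.1 rfl
    · exact hw1 (by rw [conj_eq_one_iff.1 e.symm]; exact one_mem _)
  have hzero : ∀ z ∈ hSet (Cfsg.fittingHallOf S), z ∈ A := by
    intro z hz
    obtain ⟨hz, hz1⟩ := mem_hSet.1 hz
    refine Or.inl ?_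
    rw [Cfsg.Agent.Lib.OddOrder.TypeOne.typeA, if_neg (PF8.TypeP.not_typeI ⟨_, _, _, F.typeP⟩)]
    exact ⟨F.P_le_derived hz, hz1, z, (PF8.TypeP.typeCore_bounds F.typeP).1 hz, hz1, rfl⟩
  have hcyc : ∀ z ∈ Interface.PF8.cyclicSet G W₁ W₂, z ∈ A := by
    intro z hz
    rw [hA, PF8.TypeP.typeA0_eq F.typeP]
    exact Or.inr ⟨1, one_mem _, z, hz, by group⟩
  have hconjA : ∀ s ∈ S, ∀ z ∈ A, s * z * s⁻¹ ∈ A := by
    intro s hs z hz
    rw [← hTI.2] at hs
    exact (Subgroup.mem_set_normalizer_iff.1 hs z).1 hz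
  have hsupp : ∀ ψ (x : ↥S), beta π ψ x ≠ 0 → (x : G) ∈ A := by
    intro ψ x hx
    obtain ⟨s, hs, z, hz, e⟩ := beta_support F π hπ₂ hπ₁ hπid ψ hx
    rw [e]
    exact hconjA s hs z (hz.elim (hzero z) (hcyc z))
  have hcl : ∀ ψ, Cfsg.IsClassFunction ↥S (beta π ψ) := fun ψ => isClassFunction_indFun _ _
  have hinner : ∀ ψ ψ', IsQ ψ → ψ ≠ 1 → IsQ ψ' → ψ' ≠ 1 →
      Cfsg.classInner (Cfsg.indFun S (beta π ψ)) (Cfsg.indFun S (beta π ψ')) =
        if ψ = ψ' then (N : ℂ) + 2 else (N : ℂ) + 1 := fun ψ ψ' h h1 h' h1' => by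
    rw [classInner_indFun_ti hTI' hA1 (hsupp ψ) (hcl ψ') (hsupp ψ'),
      inner_beta F π hπ₁ hπid hfpf hN h h1 h' h1']
  refine ⟨{
    Z := sideZone (Cfsg.fittingHallOf S) W₁ W₂
    N := N
    Φ := fun ψ => Cfsg.indFun S (beta π ψ)
    gen := fun ψ _ _ => Induced.Character.isGeneralizedCharacter_indFun S
      (Induced.Character.isGeneralizedCharacter_indFun _ (gen_alpha π ψ))
    one := ?_
    norm := ?_
    inner := ?_
    supp := ?_
    «conj» := ?_
    eq_on := ?_ }, rfl, hN⟩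
  · intro ψ h h1
    refine co_eq_one ?_
    rw [FrobeniusTI.classInner_one_indFun, beta, frobenius_reciprocity _ _ (fun _ _ => rfl)]
    have e : alpha π ψ = (oneChar ↥(Hin S W₁) : ↥(Hin S W₁) → ℂ) -
        (Characters.Linear.linChar (ψ.comp π) : ↥(Hin S W₁) → ℂ) := by
      funext x
      simp [alpha, oneChar_apply, Characters.Linear.linChar_apply]
    have e1 : (fun _ : ↥(Hin S W₁) => (1 : ℂ)) =
        ((oneChar ↥(Hin S W₁) : Cfsg.IrrCharacter ↥(Hin S W₁)) : ↥(Hin S W₁) → ℂ) :=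
      funext fun x => (oneChar_apply x).symm
    rw [e, e1, classInner_sub_left, classInner_self_irr,
      classInner_irr_of_ne, sub_zero]
    intro e'
    refine lam_ne_one F π hπid h h1 (MonoidHom.ext fun x => Units.ext ?_)
    have := congrFun (congrArg Subtype.val e') (incl F x)
    rwa [Characters.Linear.linChar_apply, oneChar_apply] at this
  · intro ψ h h1
    refine co_eq_of_classInner ?_
    rw [hinner ψ ψ h h1 h h1, if_pos rfl]
    push_cast; rfl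
  · intro ψ ψ' h h1 h' h1' hne
    refine co_eq_of_classInner ?_
    rw [hinner ψ ψ' h h1 h' h1', if_neg hne]
    push_cast; rfl
  · intro ψ _ _ g hg
    by_contra hne
    obtain ⟨t, ht⟩ : ∃ t : G, Cfsg.extendByZero S (beta π ψ) (t⁻¹ * g * t) ≠ 0 := by
      by_contra hc
      push Not at hc
      exact hne (by simp [Cfsg.indFun, hc])
    have hm : t⁻¹ * g * t ∈ S := by
      by_contra hm
      exact ht (extendByZero_of_not_mem S _ hm)
    rw [extendByZero_of_mem S _ hm] at ht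
    obtain ⟨s, -, z, hz, e⟩ := beta_support F π hπ₂ hπ₁ hπid ψ ht
    have e' : g = t * s * z * (t * s)⁻¹ := by
      calc g = t * (t⁻¹ * g * t) * t⁻¹ := by group
        _ = _ := by rw [show t⁻¹ * g * t = s * z * s⁻¹ from e]; group
    exact hg (hz.elim (fun h => Or.inl ⟨t * s, z, h, e'⟩) fun h => Or.inr ⟨t * s, z, h, e'⟩)
  · intro ψ _ _
    have e : Cfsg.conjFun (alpha π ψ) = alpha π ψ⁻¹ := by
      funext x
      simp only [Cfsg.conjFun, alpha, map_sub, map_one]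
      have hc := conj_hom (ψ.comp π) x
      simp only [MonoidHom.comp_apply] at hc
      rw [hc]
      rfl
    rw [← FrobeniusTI.indFun_conjFun, beta, ← FrobeniusTI.indFun_conjFun, e]
    rfl
  · intro ψ h h1 z hz1 hz2
    have hzS : (z : G) ∈ S := sup_le F.W₁_le (F.W₂_le_P.trans F.P_le) z.2
    obtain ⟨π₁, π₂, hproj⟩ := CyclicTI.exists_proj Fm.selfNormalizing
    obtain ⟨ez, hw, hy⟩ := hproj z
    have ez' : (z : G) = (π₂ z : G) * (π₁ z : G) := by
      have := congrArg Subtype.val ez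
      rw [Subgroup.coe_mul, F.W₂_comm hw hy] at this
      exact this
    have hw1 : (⟨_, hw⟩ : ↥W₁) ≠ 1 := fun e => hz2 (by
      rw [ez', show ((π₁ z : ↥(W₁ ⊔ W₂)) : G) = 1 from congrArg Subtype.val e, mul_one]; exact hy)
    have hval : Cfsg.indFun S (beta π ψ) (z : G) = 1 - (ψ z : ℂ) := by
      have h2 := indFun_apply_ti hTI' (hcl ψ) (hsupp ψ) (t := ⟨_, hzS⟩)
        (hcyc _ ⟨z.2, hz1, hz2⟩) (fun e => hz1 (by
          rw [show (z : G) = 1 from congrArg Subtype.val e]; exact one_mem _))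
      rw [h2, show (⟨_, hzS⟩ : ↥S) = (mk F (⟨_, F.W₂_le_P hy⟩, ⟨_, hw⟩) : ↥S) from
        Subtype.ext ez', beta_PW F π hπ₁ ψ _ hw1, lam_W₂ F π hπid _ hy]
      nth_rw 2 [ez]
      rw [map_mul, h _ hw, one_mul]
    show Cfsg.indFun S (beta π ψ) (z : G) - (1 - η ψ (z : G)) = 0
    rw [hval, Fm.family.eq_on ψ z hz1 hz2, sub_self]

end Cfsg.Agent.Lib.OddOrder.PF14.MkSide
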