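import Cfsg.Agent.Lib.OddOrder.PF14.Table

/-!
# Peterfalvi 14: probes

A probe is what a maximal subgroup `L` with a coherent family of induced characters contributes: the
induced function `Φ = (Ind 1 - φ)^τ`, supported on a set `Z`, and the images of the characters, whose
differences are supported on `Z` as well.  Two probes on disjoint sets satisfy a parity condition, and
Bessel's inequality bounds the mutual coefficients.
-/

set_option autoImplicit false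
set_option linter.style.haveILetI false

namespace Cfsg.Agent.Lib.OddOrder.PF14

open Cfsg.Agent.Lib.Isometry.Inner
open Cfsg.Agent.Lib.CyclicTI (IsP IsQ)
open Vec

universe u

/-- The data carried by a coherent family of induced characters. -/
structure Probe (G : Type u) [Group G] [Fintype G] where
  Z : Set G
  e : ℕ
  n : ℕ
  Φ : G → ℂ
  φ : G → ℂ
  mem : Finset (G → ℂ)
  wt : (G → ℂ) → ℕ
  gen_Φ : Cfsg.IsGeneralizedCharacter G Φ
  gen_mem : ∀ χ ∈ mem, Cfsg.IsGeneralizedCharacter G χ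
  φ_mem : φ ∈ mem
  wt_φ : wt φ = 1
  sum_wt : ∑ χ ∈ mem, wt χ ^ 2 = n
  two_le : 2 ≤ n
  unit : ∀ χ ∈ mem, co χ χ = 1
  orth : ∀ χ ∈ mem, ∀ χ' ∈ mem, χ ≠ χ' → co χ χ' = 0
  conj_mem : ∀ χ ∈ mem, Cfsg.conjFun χ ∈ mem
  conj_ne : ∀ χ ∈ mem, Cfsg.conjFun χ ≠ χ
  wt_conj : ∀ χ ∈ mem, wt (Cfsg.conjFun χ) = wt χ
  Φ_one : co Φ (fun _ => 1) = 1
  Φ_norm : co Φ Φ = e + 1
  Φ_supp : ∀ g, g ∉ Z → Φ g = 0
  diff_supp : ∀ χ ∈ mem, ∀ g, g ∉ Z → χ g = wt χ * φ g
  own : ∀ χ ∈ mem, co (Φ + φ) χ = wt χ * co (Φ + φ) φ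
  real : Cfsg.conjFun (Φ + φ) = Φ + φ

namespace Probe

variable {G : Type u} [Group G] [Fintype G]

local notation "Gen" => Cfsg.IsGeneralizedCharacter G

/-- The real function `Φ + φ`. -/
def R (P : Probe G) : G → ℂ := P.Φ + P.φ

theorem gen_φ (P : Probe G) : Gen P.φ := P.gen_mem _ P.φ_mem

theorem gen_R (P : Probe G) : Gen P.R := gen_add P.gen_Φ P.gen_φ

/-- Functions supported on disjoint sets are orthogonal. -/
theorem co_supp {f g : G → ℂ} {A B : Set G} (hAB : Disjoint A B) (hf : ∀ x, x ∉ A → f x = 0)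
    (hg : ∀ x, x ∉ B → g x = 0) : co f g = 0 := by
  refine co_eq_zero ?_
  rw [Cfsg.classInner]
  refine mul_eq_zero_of_right _ (Finset.sum_eq_zero fun x _ => ?_)
  by_cases hx : x ∈ A
  · rw [hg x (Set.disjoint_left.1 hAB hx), map_zero, mul_zero]
  · rw [hf x hx, zero_mul]

theorem conj_diff_supp (P : Probe G) {χ : G → ℂ} (hχ : χ ∈ P.mem) :
    ∀ g, g ∉ P.Z → (χ - Cfsg.conjFun χ) g = 0 := fun g hg => by
  rw [Pi.sub_apply, P.diff_supp χ hχ g hg, P.diff_supp _ (P.conj_mem χ hχ) g hg, P.wt_conj χ hχ,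
    sub_self]

theorem conj_orth (P : Probe G) {χ : G → ℂ} (hχ : χ ∈ P.mem) : co χ (Cfsg.conjFun χ) = 0 :=
  P.orth χ hχ _ (P.conj_mem χ hχ) (P.conj_ne χ hχ).symm

theorem one_orth (P : Probe G) {χ : G → ℂ} (hχ : χ ∈ P.mem) : co (fun _ => 1) χ = 0 :=
  orth_of_real (P.gen_mem χ hχ) (P.unit χ hχ) (P.conj_orth hχ) gen_one co_one_one conjFun_one

theorem R_one (P : Probe G) : co P.R (fun _ => 1) = 1 := by
  rw [R, co_add_left P.gen_Φ P.gen_φ gen_one, P.Φ_one, co_comm P.gen_φ gen_one,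
    P.one_orth P.φ_mem, add_zero]

/-- `m = ⟨R, φ⟩`. -/
noncomputable def m (P : Probe G) : ℤ := co P.R P.φ

theorem R_norm (P : Probe G) : co P.R P.R = P.e + 2 * P.m := by
  have h1 := P.unit _ P.φ_mem
  rw [m, R, co_add_left P.gen_Φ P.gen_φ (gen_add P.gen_Φ P.gen_φ),
    co_add_right P.gen_Φ P.gen_Φ P.gen_φ, co_add_right P.gen_φ P.gen_Φ P.gen_φ,
    co_add_left P.gen_Φ P.gen_φ P.gen_φ, co_comm P.gen_φ P.gen_Φ, P.Φ_norm, h1]
  ring

theorem two_m_le (P : Probe G) : 2 * P.m ≤ P.m ^ 2 * P.n := by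
  have : (2 : ℤ) ≤ P.n := by exact_mod_cast P.two_le
  rcases le_or_gt P.m 0 with h | h
  · nlinarith [sq_nonneg P.m]
  · nlinarith [sq_nonneg (P.m - 1)]

theorem sum_sq_eq (P : Probe G) {f : G → ℂ} {x : ℤ} (h : ∀ χ ∈ P.mem, co f χ = P.wt χ * x) :
    ∑ χ ∈ P.mem, co f χ ^ 2 = x ^ 2 * P.n := by
  rw [← P.sum_wt, Nat.cast_sum, Finset.mul_sum]
  exact Finset.sum_congr rfl fun χ hχ => by rw [h χ hχ]; push_cast; ring

/-! ### Two probes on disjoint sets -/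

section Cross

variable (P P' : Probe G) (hd : Disjoint P.Z P'.Z)
include hd

theorem cross_orth {χ χ' : G → ℂ} (hχ : χ ∈ P.mem) (hχ' : χ' ∈ P'.mem) : co χ χ' = 0 :=
  (orth_of_diff (P.gen_mem χ hχ) (P'.gen_mem χ' hχ') (P.unit χ hχ) (P'.unit χ' hχ')
    (P'.conj_orth hχ') (co_supp hd (P.conj_diff_supp hχ) (P'.conj_diff_supp hχ'))).1

theorem cross_coeff {χ' : G → ℂ} (hχ' : χ' ∈ P'.mem) :
    co P.R χ' = P'.wt χ' * co P.R P'.φ := by
  have hs : Gen (((P'.wt χ' : ℤ) : ℂ) • P'.φ) := gen_intCast_smul P'.gen_φ _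
  have h : co P.Φ (χ' - ((P'.wt χ' : ℤ) : ℂ) • P'.φ) = 0 :=
    co_supp hd P.Φ_supp fun g hg => by
      simp [P'.diff_supp χ' hχ' g hg]
  rw [co_sub_right P.gen_Φ (P'.gen_mem χ' hχ') hs, co_smul_right P.gen_Φ P'.gen_φ] at h
  rw [R, co_add_left P.gen_Φ P.gen_φ (P'.gen_mem χ' hχ'), co_add_left P.gen_Φ P.gen_φ P'.gen_φ,
    cross_orth P P' hd P.φ_mem hχ', cross_orth P P' hd P.φ_mem P'.φ_mem]
  linarith

/-- The parity condition. -/
theorem cross_parity (hodd : Odd (Nat.card G)) :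
    ((co P.R P'.φ + co P'.R P.φ : ℤ) : ZMod 2) = 1 := by
  have h : co P.Φ P'.Φ = 0 := co_supp hd P.Φ_supp P'.Φ_supp
  have e1 : P.Φ = P.R - P.φ := by rw [R, add_sub_cancel_right]
  have e2 : P'.Φ = P'.R - P'.φ := by rw [R, add_sub_cancel_right]
  rw [e1, e2, co_sub_left P.gen_R P.gen_φ (gen_sub P'.gen_R P'.gen_φ),
    co_sub_right P.gen_R P'.gen_R P'.gen_φ, co_sub_right P.gen_φ P'.gen_R P'.gen_φ,
    cross_orth P P' hd P.φ_mem P'.φ_mem, co_comm P.gen_φ P'.gen_R, sub_zero] at h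
  have hp := parity hodd P.gen_R P'.gen_R P.real P'.real
  rw [P.R_one, P'.R_one, Int.cast_one, mul_one] at hp
  have e : co P.R P'.φ + co P'.R P.φ = co P.R P'.R := by linarith
  rw [e, hp]

end Cross

/-! ### A probe against the cyclic TI family -/

/-- `Z` misses the elements of `W₁W₂` outside both factors. -/
def Avoids (W₁ W₂ : Subgroup G) (P : Probe G) : Prop :=
  ∀ w : ↥(W₁ ⊔ W₂), (w : G) ∉ W₁ → (w : G) ∉ W₂ → (w : G) ∉ P.Z

section Fam

variable {W₁ W₂ : Subgroup G} {η : (↥(W₁ ⊔ W₂) →* ℂˣ) → G → ℂ}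
  (F : Table.Fam W₁ W₂ η) (P : Probe G) (hA : Avoids W₁ W₂ P)
include F hA

theorem mem_eta {χ : G → ℂ} (hχ : χ ∈ P.mem) (ω : ↥(W₁ ⊔ W₂) →* ℂˣ) : co χ (η ω) = 0 :=
  Table.member_orth F (P.gen_mem χ hχ) (P.unit χ hχ) (P.conj_orth hχ)
    (fun w h1 h2 => P.conj_diff_supp hχ w (hA w h1 h2)) ω

theorem table {φ ψ : ↥(W₁ ⊔ W₂) →* ℂˣ} (hP : IsP φ) (hQ : IsQ ψ) :
    co P.R (η (φ * ψ)) + 1 = co P.R (η φ) + co P.R (η ψ) := by
  have h := Table.table F P.gen_Φ (fun w h1 h2 => P.Φ_supp w (hA w h1 h2)) hP hQ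
  rw [P.Φ_one] at h
  simp only [R, co_add_left P.gen_Φ P.gen_φ (Table.gen F _), mem_eta F P hA P.φ_mem, add_zero]
  exact h

/-- Bessel's inequality on the table and the own family. -/
theorem bound_self :
    ∑ x ∈ Table.pSet W₁ W₂ ×ˢ Table.qSet W₁ W₂, co P.R (η (x.1 * x.2)) ^ 2 + P.m ^ 2 * P.n ≤
      P.e + 2 * P.m := by
  classical
  rw [← P.R_norm, ← P.sum_sq_eq (f := P.R) (x := P.m) fun χ hχ => P.own χ hχ]
  have hb := bessel_one ((Table.pSet W₁ W₂ ×ˢ Table.qSet W₁ W₂).disjSum P.mem)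
    (Sum.elim (fun x : (↥(W₁ ⊔ W₂) →* ℂˣ) × (↥(W₁ ⊔ W₂) →* ℂˣ) => η (x.1 * x.2)) id) P.gen_R
    ?_ ?_ ?_
  · rw [Finset.sum_disjSum] at hb
    exact hb
  · rintro (x | χ) hx
    · exact Table.gen F _
    · exact P.gen_mem χ (Finset.inr_mem_disjSum.1 hx)
  · rintro (x | χ) hx
    · exact Table.co_self F _
    · exact P.unit χ (Finset.inr_mem_disjSum.1 hx)
  · rintro (x | χ) hx (y | χ') hy hne
    · exact Table.co_ne F fun e => hne (congrArg Sum.inl
        (Table.pair_inj F (Finset.inl_mem_disjSum.1 hx) (Finset.inl_mem_disjSum.1 hy) e))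
    · exact (co_comm (Table.gen F _) (P.gen_mem χ' (Finset.inr_mem_disjSum.1 hy))).trans
        (mem_eta F P hA (Finset.inr_mem_disjSum.1 hy) _)
    · exact mem_eta F P hA (Finset.inr_mem_disjSum.1 hx) _
    · exact P.orth χ (Finset.inr_mem_disjSum.1 hx) χ' (Finset.inr_mem_disjSum.1 hy)
        fun e => hne (congrArg Sum.inr e)

theorem table_le :
    ∑ x ∈ Table.pSet W₁ W₂ ×ˢ Table.qSet W₁ W₂, co P.R (η (x.1 * x.2)) ^ 2 ≤ P.e := by
  have := bound_self F P hA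
  have := P.two_m_le
  linarith

/-- Bessel's inequality on the table and the families of two probes. -/
theorem bound_cross (P' : Probe G) (hd : Disjoint P.Z P'.Z) (hA' : Avoids W₁ W₂ P') :
    ∑ x ∈ Table.pSet W₁ W₂ ×ˢ Table.qSet W₁ W₂, co P.R (η (x.1 * x.2)) ^ 2 +
      co P.R P'.φ ^ 2 * P'.n ≤ P.e := by
  classical
  have hm := P.two_m_le
  have hb := bessel_one ((Table.pSet W₁ W₂ ×ˢ Table.qSet W₁ W₂).disjSum (P.mem.disjSum P'.mem))
    (Sum.elim (fun x : (↥(W₁ ⊔ W₂) →* ℂˣ) × (↥(W₁ ⊔ W₂) →* ℂˣ) => η (x.1 * x.2)) (Sum.elim id id))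
    P.gen_R ?_ ?_ ?_
  · rw [Finset.sum_disjSum, Finset.sum_disjSum, P.R_norm] at hb
    simp only [Sum.elim_inl, Sum.elim_inr, id_eq] at hb
    rw [P.sum_sq_eq (f := P.R) (x := P.m) fun χ hχ => P.own χ hχ,
      P'.sum_sq_eq (f := P.R) fun χ hχ => cross_coeff P P' hd hχ] at hb
    linarith
  · rintro (x | χ | χ) hx <;> simp only [Finset.inl_mem_disjSum, Finset.inr_mem_disjSum] at hx
    · exact Table.gen F _
    · exact P.gen_mem χ hx
    · exact P'.gen_mem χ hx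
  · rintro (x | χ | χ) hx <;> simp only [Finset.inl_mem_disjSum, Finset.inr_mem_disjSum] at hx
    · exact Table.co_self F _
    · exact P.unit χ hx
    · exact P'.unit χ hx
  · rintro (x | χ | χ) hx (y | χ' | χ') hy hne <;>
      simp only [Finset.inl_mem_disjSum, Finset.inr_mem_disjSum] at hx hy <;>
      simp only [Sum.elim_inl, Sum.elim_inr, id_eq]
    · exact Table.co_ne F fun e => hne (congrArg Sum.inl (Table.pair_inj F hx hy e))
    · rw [co_comm (Table.gen F _) (P.gen_mem χ' hy), mem_eta F P hA hy]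
    · rw [co_comm (Table.gen F _) (P'.gen_mem χ' hy), mem_eta F P' hA' hy]
    · exact mem_eta F P hA hx _
    · exact P.orth χ hx χ' hy fun e => hne (by rw [e])
    · exact cross_orth P P' hd hx hy
    · exact mem_eta F P' hA' hx _
    · rw [co_comm (P'.gen_mem χ hx) (P.gen_mem χ' hy), cross_orth P P' hd hy hx]
    · exact P'.orth χ hx χ' hy fun e => hne (by rw [e])

end Fam

end Probe

end Cfsg.Agent.Lib.OddOrder.PF14
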