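import Cfsg.Agent.Lib.OddOrder.TypeOne
import Cfsg.Agent.Lib.OddOrder.PF14.Probe
import Cfsg.Agent.Lib.OddOrder.PF14.Zones
import Cfsg.Agent.Lib.OddOrder.Interface.PF12
import Cfsg.Agent.Lib.OddOrder.PF12.Coherent
import Cfsg.Agent.Lib.OddOrder.PF13.Group
import Cfsg.Agent.Lib.Isometry.FrobeniusTI
import Cfsg.Agent.Lib.Isometry.KernelInduced
import Cfsg.Agent.Lib.Isometry.EqualDegree
import Cfsg.Agent.Lib.Characters.Linear
import Cfsg.Agent.Lib.Characters.Kernel
import Cfsg.Agent.Lib.Isometry.Clifford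
import Cfsg.Agent.Lib.OddOrder.PF8.Dade

/-!
# Peterfalvi 14: the probes of TI subgroups with coherent characters

* `exists_probe`: a normal TI subgroup `K` of `M` and a coherent layer of characters of `M` vanishing
  off `K` give a probe on the conjugates of `K - 1`;
* `exists_probeI`: the probe of a subgroup of type I;
* `exists_probeThree`: the probe of `T' = Q V` for a side `T`, with the characters trivial on `Q`.
-/

set_option autoImplicit false
set_option linter.style.haveILetI false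
set_option linter.unusedSectionVars false

open scoped Classical commutatorElement ComplexConjugate

namespace Cfsg.Agent.Lib.OddOrder.PF14.MkTI

open Cfsg.Agent.Lib.Isometry Cfsg.Agent.Lib.Isometry.Inner
open Cfsg.Agent.Lib.Isometry.Coherence
open Cfsg.Agent.Lib.Induced.Basic
open Cfsg.Agent.Lib.Characters.Basic
open Cfsg.Agent.Lib.OddOrder.Interface
open Vec

universe u

/-- The members of a layer are orthogonal to the principal character. -/
theorem layer_orth_one {L : Type u} [Group L] [Fintype L] {A B : Subgroup L} {χ : L → ℂ}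
    (hχ : χ ∈ Inflate.layer A B) : Cfsg.classInner χ (fun _ => 1) = 0 := by
  obtain ⟨hi, -, g, -, hne⟩ := Inflate.mem_layer.1 hχ
  rw [show (fun _ : L => (1 : ℂ)) = (oneChar L : L → ℂ) from funext fun x => (oneChar_apply x).symm,
    classInner_irr_eq hi (oneChar L).2, if_neg]
  intro e
  exact hne (by rw [e]; rfl)

/-- In a group of odd order the members of a layer are not real. -/
theorem layer_conj_ne {L : Type u} [Group L] [Fintype L] (hodd : Odd (Nat.card L)) {A B : Subgroup L}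
    {χ : L → ℂ} (hχ : χ ∈ Inflate.layer A B) : Cfsg.conjFun χ ≠ χ := by
  intro hreal
  obtain ⟨h, -, g, -, hne⟩ := Inflate.mem_layer.1 hχ
  have := Characters.Indicator.eq_oneChar_of_real hodd ⟨χ, h⟩
    fun x => Complex.conj_eq_iff_im.1 (congrFun hreal x)
  exact hne (by rw [show χ = _ from congrArg Subtype.val this]; rfl)

variable {G : Type u} [Group G] [Fintype G]

/-- Two orthogonal signed characters whose difference is a difference of induced conjugates are
complex conjugates. -/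
theorem conj_of_diff (hodd : Odd (Nat.card G)) {a b d : G → ℂ}
    (ha : Cfsg.IsIrrCharacter G a ∨ Cfsg.IsIrrCharacter G (-a))
    (hb : Cfsg.IsIrrCharacter G b ∨ Cfsg.IsIrrCharacter G (-b))
    (hab : Cfsg.classInner a b = 0) (hd : a - b = d) (hconj : Cfsg.conjFun d = -d)
    (h1 : Cfsg.classInner d (fun _ => 1) = 0) :
    b = Cfsg.conjFun a ∧ Cfsg.classInner a (Cfsg.conjFun a) = 0 := by
  have hne : Cfsg.classInner a (Cfsg.conjFun a) = 0 := by
    rcases FrobeniusTI.signed3 ha (FrobeniusTI.conjFun_signed ha) with e | e | e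
    · exfalso
      have hr : ∀ x, (a x).im = 0 := fun x => Complex.conj_eq_iff_im.1 (congrFun e x).symm
      have hreal : ∀ ψ : G → ℂ, Cfsg.IsIrrCharacter G ψ → (∀ x, (ψ x).im = 0) → ψ = fun _ => 1 :=
        fun ψ hψ hi => (congrArg Subtype.val
          (Characters.Indicator.eq_oneChar_of_real hodd ⟨ψ, hψ⟩ hi)).trans
          (funext fun x => oneChar_apply x)
      have hself := classInner_self_signed ha
      have hba : Cfsg.classInner b a = 0 := by rw [← classInner_conj_symm, hab, map_zero]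
      rw [← hd] at h1
      rcases ha with h | h
      · rw [← hreal a h hr, classInner_sub_left, hself, hba] at h1
        norm_num at h1
      · rw [← hreal _ h (fun x => by rw [Pi.neg_apply, Complex.neg_im, hr x, neg_zero]),
          classInner_neg_right, classInner_sub_left, hself, hba] at h1
        norm_num at h1
    · exfalso
      refine apply_one_ne_zero_of_signed ha ?_
      have := congrFun e 1
      rw [Pi.neg_apply, FrobeniusTI.gen_conj_one ha] at this
      linear_combination (1 / 2 : ℂ) * this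
    · exact e
  refine ⟨?_, hne⟩
  have hanti : Cfsg.conjFun a - Cfsg.conjFun b = -(a - b) := by
    rw [← FrobeniusTI.conjFun_sub', hd, hconj]
  have h := congrArg (fun v => Cfsg.classInner a v) hanti
  simp only [classInner_sub_right, Inner.classInner_neg_right, classInner_self_signed ha, hab,
    hne, zero_sub, sub_zero, neg_inj] at h
  rcases FrobeniusTI.signed3 ha (FrobeniusTI.conjFun_signed hb) with e | e | e
  · rw [e, conjFun_conjFun]
  · rw [e, Inner.classInner_neg_left, classInner_self_signed (FrobeniusTI.conjFun_signed hb)] at h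
    norm_num at h
  · rw [e] at h; norm_num at h

/-! ### The generic probe -/

section Generic

variable {M K : Subgroup G} [(K.subgroupOf M).Normal]

theorem ti_outside (hTI : TIKernel K M) :
    ∀ g ∉ M, ∀ t ∈ K, g * t * g⁻¹ ∈ K → t = 1 := fun g hg t ht h => by
  by_contra h1
  exact hg (hTI g t ht h1 h)

theorem centralizer_le (hTI : TIKernel K M) {x : G} (hx : x ∈ K) (hx1 : x ≠ 1) :
    Subgroup.centralizer ({x} : Set G) ≤ M := fun c hc =>
  hTI c x hx hx1 (by rwa [Subgroup.mem_centralizer_singleton_iff.1 hc, mul_inv_cancel_right])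

/-- A combination of a layer of characters vanishing off `K`, vanishing at `1`, is supported on
`K - 1`. -/
theorem supp_of_zspanOn {Q : Subgroup M}
    (hvan : ∀ χ ∈ Inflate.layer (K.subgroupOf M) Q, ∀ x : M, x ∉ K.subgroupOf M → χ x = 0)
    {α : M → ℂ}
    (hα : α ∈ Cfsg.zspanOn (↑(Inflate.layer (K.subgroupOf M) Q) : Set (M → ℂ)) {1}ᶜ) :
    FrobeniusTI.Supp M K α := by
  refine ⟨gen_classFun (gen_zspan (fun χ hχ => gen_of_irr
    (Inflate.mem_layer.1 (Finset.mem_coe.1 hχ)).1) hα.1), ?_⟩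
  rintro x (hx | rfl)
  · obtain ⟨h, -⟩ := hα
    induction h using Submodule.span_induction with
    | mem χ hχ => exact hvan χ (Finset.mem_coe.1 hχ) x hx
    | zero => rfl
    | add a b _ _ ha hb => rw [Pi.add_apply, ha, hb, add_zero]
    | smul n a _ ha => rw [FrobeniusTI.zsmul_eq, Pi.smul_apply, ha, smul_zero]
  · exact (mem_zspanOn_one.1 hα).2

theorem classFun_RK : Cfsg.IsClassFunction M (FrobeniusTI.RK M K) := fun x y => by
  have hN : (K.subgroupOf M).Normal := inferInstance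
  have h : y * x * y⁻¹ ∈ K.subgroupOf M ↔ x ∈ K.subgroupOf M :=
    ⟨fun h => by simpa [mul_assoc] using hN.conj_mem _ h y⁻¹, fun h => hN.conj_mem _ h y⟩
  simp only [FrobeniusTI.RK, h]

theorem gen_RK : Cfsg.IsGeneralizedCharacter M (FrobeniusTI.RK M K) := by
  rw [FrobeniusTI.RK_eq]
  refine gen_sum _ fun χ hχ => ?_
  have hirr := (Inflate.mem_trivOn.1 hχ).1
  obtain ⟨d, hd⟩ := exists_degree (IsCharacter_of_isIrrCharacter hirr)
  rw [hd, ← Int.cast_natCast]
  exact gen_intCast_smul (gen_of_irr hirr) _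

/-- The inner product with `Ind_K^M 1` of a function living on `K`. -/
theorem inner_RK {f : M → ℂ} (hf : ∀ x : M, x ∉ K.subgroupOf M → f x = 0) :
    Cfsg.classInner (FrobeniusTI.RK M K) f =
      ((K.subgroupOf M).index : ℂ) * Cfsg.classInner (fun _ => 1) f := by
  simp only [Cfsg.classInner, Finset.mul_sum]
  refine Finset.sum_congr rfl fun x _ => ?_
  by_cases hx : x ∈ K.subgroupOf M
  · rw [FrobeniusTI.RK, if_pos hx]; ring
  · rw [hf x hx, map_zero]; ring

theorem RK_one_inner :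
    Cfsg.classInner (FrobeniusTI.RK M K) (fun _ => 1) = 1 ∧
      Cfsg.classInner (fun _ => 1) (FrobeniusTI.RK M K) = 1 := by
  have hsum : ∑ x : M, FrobeniusTI.RK M K x = (Nat.card M : ℂ) := by
    simp only [FrobeniusTI.RK]
    rw [← Finset.sum_filter, Finset.sum_const, nsmul_eq_mul,
      show (Finset.univ.filter fun x : M => x ∈ K.subgroupOf M).card = Nat.card (K.subgroupOf M) by
        rw [Nat.card_eq_fintype_card, Fintype.card_subtype],
      ← Nat.cast_mul, (K.subgroupOf M).card_mul_index]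
  have h0 : (Nat.card M : ℂ) ≠ 0 := Nat.cast_ne_zero.2 Nat.card_pos.ne'
  have h : Cfsg.classInner (FrobeniusTI.RK M K) (fun _ => 1) = 1 := by
    simp only [Cfsg.classInner, map_one, mul_one, hsum, inv_mul_cancel₀ h0]
  exact ⟨h, by rw [← classInner_conj_symm, h, map_one]⟩

set_option maxHeartbeats 1000000 in
/-- A coherent layer living on a TI subgroup gives a probe. -/
theorem exists_probe (hodd : Odd (Nat.card G)) (hTI : TIKernel K M) {Q : Subgroup M} [Q.Normal]
    (hQ : Q ≤ K.subgroupOf M)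
    (hvan : ∀ χ ∈ Inflate.layer (K.subgroupOf M) Q, ∀ x : M, x ∉ K.subgroupOf M → χ x = 0)
    (hdeg : ∀ χ ∈ Inflate.layer (K.subgroupOf M) Q,
      ∃ d : ℕ, χ 1 = (((K.subgroupOf M).index * d : ℕ) : ℂ))
    (hφ : ∃ φ ∈ Inflate.layer (K.subgroupOf M) Q, φ 1 = ((K.subgroupOf M).index : ℂ))
    (τ₁ : (M → ℂ) → (G → ℂ))
    (hτ : Cfsg.IsLinearIsometryOn
      (Cfsg.zspan (↑(Inflate.layer (K.subgroupOf M) Q) : Set (M → ℂ))) τ₁)
    (hag : ∀ α ∈ Cfsg.zspanOn (↑(Inflate.layer (K.subgroupOf M) Q) : Set (M → ℂ)) {1}ᶜ,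
      τ₁ α = Cfsg.indFun M α) :
    ∃ P : Probe G, P.Z = conjSet (hSet K) ∧ P.e = (K.subgroupOf M).index ∧
      Q.relIndex (K.subgroupOf M) = P.n * P.e + 1 := by
  set K' := K.subgroupOf M with hK'
  set e := K'.index with he
  set S := Inflate.layer K' Q with hS
  set wt₀ : (M → ℂ) → ℕ := Layers.mdeg K' with hwt₀
  have he0 : e ≠ 0 := Subgroup.index_ne_zero_of_finite
  have hTI' := ti_outside hTI
  have hoddM : Odd (Nat.card M) := hodd.of_dvd_nat (Subgroup.card_subgroup_dvd_card M)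
  obtain ⟨φ, hφS, hφ1⟩ := hφ
  have hirr : ∀ χ ∈ S, Cfsg.IsIrrCharacter M χ := fun χ h => (Inflate.mem_layer.1 h).1
  have hdeg' : ∀ χ ∈ S, χ 1 = ((e * wt₀ χ : ℕ) : ℂ) := by
    intro χ h
    obtain ⟨d, hd⟩ := hdeg χ h
    rw [hd, hwt₀, Layers.mdeg, hd, Complex.natCast_re, Nat.floor_natCast,
      Nat.mul_div_cancel_left _ (Nat.pos_of_ne_zero he0)]
  have hwtφ : wt₀ φ = 1 := by
    rw [hwt₀, Layers.mdeg, hφ1, Complex.natCast_re, Nat.floor_natCast,
      Nat.div_self (Nat.pos_of_ne_zero he0)]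
  have hz : ∀ χ ∈ S, χ ∈ Cfsg.zspan (↑S : Set (M → ℂ)) := fun χ h =>
    subset_zspan _ (Finset.mem_coe.2 h)
  have hcS : ∀ χ ∈ S, Cfsg.conjFun χ ∈ S := fun χ h => Inflate.conj_mem_layer h
  have hone : ∀ χ ∈ S, Cfsg.conjFun χ 1 = χ 1 := fun χ h =>
    conj_apply_one (IsCharacter_of_isIrrCharacter (hirr χ h))
  have hwtc : ∀ χ ∈ S, wt₀ (Cfsg.conjFun χ) = wt₀ χ := fun χ h => by
    rw [hwt₀, Layers.mdeg, Layers.mdeg, hone χ h]
  have hin : ∀ χ ∈ S, ∀ χ' ∈ S, Cfsg.classInner (τ₁ χ) (τ₁ χ') = if χ = χ' then 1 else 0 :=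
    fun χ h χ' h' => by
      rw [hτ.2.2.1 χ (hz χ h) χ' (hz χ' h'), classInner_irr_eq (hirr χ h) (hirr χ' h')]
  have hgen : ∀ χ ∈ S, Cfsg.IsGeneralizedCharacter G (τ₁ χ) := fun χ h => hτ.2.2.2 χ (hz χ h)
  have hsgn : ∀ χ ∈ S, Cfsg.IsIrrCharacter G (τ₁ χ) ∨ Cfsg.IsIrrCharacter G (-τ₁ χ) := fun χ h =>
    signed_of_norm_one (hgen χ h) (by rw [hin χ h χ h, if_pos rfl])
  have hinj : ∀ χ ∈ S, ∀ χ' ∈ S, τ₁ χ = τ₁ χ' → χ = χ' := fun χ h χ' h' heq => by
    by_contra hne
    have h1 := hin χ h χ' h'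
    rw [← heq, hin χ h χ h, if_pos rfl, if_neg hne] at h1
    exact one_ne_zero h1
  -- induction on the differences
  have hdm : ∀ χ ∈ S, χ - ((wt₀ χ : ℤ) : ℂ) • φ ∈ Cfsg.zspanOn (↑S : Set (M → ℂ)) {1}ᶜ := by
    intro χ h
    refine mem_zspanOn_one.2 ⟨zspan_sub (hz χ h) (zspan_smul _ (hz φ hφS)), ?_⟩
    rw [Pi.sub_apply, Pi.smul_apply, hdeg' χ h, hφ1, smul_eq_mul]
    push_cast
    ring
  have hdiff : ∀ χ ∈ S, Cfsg.indFun M (χ - ((wt₀ χ : ℤ) : ℂ) • φ) =
      τ₁ χ - ((wt₀ χ : ℤ) : ℂ) • τ₁ φ := by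
    intro χ h
    rw [← hag _ (hdm χ h), Criterion.span_iso_sub hτ (hz χ h) (zspan_smul _ (hz φ hφS)),
      Criterion.span_iso_smul hτ (hz φ hφS)]
  have hcm : ∀ χ ∈ S, χ - Cfsg.conjFun χ ∈ Cfsg.zspanOn (↑S : Set (M → ℂ)) {1}ᶜ := fun χ h =>
    mem_zspanOn_one.2 ⟨zspan_sub (hz χ h) (hz _ (hcS χ h)),
      by rw [Pi.sub_apply, hone χ h, sub_self]⟩
  have hconj : ∀ χ ∈ S, τ₁ (Cfsg.conjFun χ) = Cfsg.conjFun (τ₁ χ) ∧
      Cfsg.classInner (τ₁ χ) (Cfsg.conjFun (τ₁ χ)) = 0 := by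
    intro χ h
    refine conj_of_diff hodd (hsgn χ h) (hsgn _ (hcS χ h))
      (by rw [hin χ h _ (hcS χ h), if_neg (layer_conj_ne hoddM h).symm])
      (d := Cfsg.indFun M (χ - Cfsg.conjFun χ)) ?_ ?_ ?_
    · rw [← hag _ (hcm χ h), Criterion.span_iso_sub hτ (hz χ h) (hz _ (hcS χ h))]
    · rw [← FrobeniusTI.indFun_conjFun, FrobeniusTI.conjFun_sub', conjFun_conjFun,
        ← Induced.Basic.indFun_neg, neg_sub]
    · rw [FrobeniusTI.classInner_one_indFun, classInner_sub_left, layer_orth_one h,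
        layer_orth_one (hcS χ h), sub_zero]
  -- the function
  set β : M → ℂ := FrobeniusTI.RK M K - φ with hβ
  have hβs : FrobeniusTI.Supp M K β := by
    refine ⟨Characters.Complete.classFun_sub classFun_RK (gen_classFun (gen_of_irr (hirr φ hφS))), ?_⟩
    rintro x (hx | rfl)
    · rw [hβ, Pi.sub_apply, FrobeniusTI.RK, if_neg hx, hvan φ hφS x hx, sub_zero]
    · rw [hβ, Pi.sub_apply, FrobeniusTI.RK, if_pos K'.one_mem, hφ1, sub_self]
  have hβg : Cfsg.IsGeneralizedCharacter M β := gen_sub gen_RK (gen_of_irr (hirr φ hφS))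
  set Φ : G → ℂ := Cfsg.indFun M β with hΦ
  have hΦg : Cfsg.IsGeneralizedCharacter G Φ := Induced.Character.isGeneralizedCharacter_indFun M hβg
  have hRK0 : ∀ χ ∈ S, Cfsg.classInner (FrobeniusTI.RK M K) χ = 0 := fun χ h => by
    rw [inner_RK fun x hx => hvan χ h x hx, ← classInner_conj_symm χ, layer_orth_one h, map_zero,
      mul_zero]
  -- the weights on the images
  set wt : (G → ℂ) → ℕ := fun f => ∑ χ ∈ S.filter (fun χ => τ₁ χ = f), wt₀ χ with hwt
  have hwt' : ∀ χ ∈ S, wt (τ₁ χ) = wt₀ χ := by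
    intro χ h
    simp only [hwt]
    rw [show S.filter (fun χ' => τ₁ χ' = τ₁ χ) = {χ} from Finset.eq_singleton_iff_unique_mem.2
      ⟨Finset.mem_filter.2 ⟨h, rfl⟩, fun χ' h' =>
        hinj χ' (Finset.mem_filter.1 h').1 χ h (Finset.mem_filter.1 h').2⟩, Finset.sum_singleton]
  set n := ∑ χ ∈ S, wt₀ χ ^ 2 with hn
  have hsq : Q.relIndex K' = n * e + 1 := by
    have h1 : ((e * e * n + e : ℕ) : ℂ) = ((Q.relIndex K' * e : ℕ) : ℂ) := by
      rw [he, Subgroup.relIndex_mul_index hQ, ← he, hn]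
      push_cast
      rw [← sub_add_cancel (Q.index : ℂ) (K'.index : ℂ), ← Inflate.sum_sq_layer hQ, ← he, Finset.mul_sum]
      congr 1
      refine Finset.sum_congr rfl fun χ h => ?_
      rw [hdeg' χ h]
      push_cast
      ring
    rw [Nat.cast_inj] at h1
    refine Nat.eq_of_mul_eq_mul_right (Nat.pos_of_ne_zero he0) (h1.symm.trans ?_)
    ring
  have hown : ∀ χ ∈ S, co (Φ + τ₁ φ) (τ₁ χ) = (wt₀ χ : ℤ) * co (Φ + τ₁ φ) (τ₁ φ) := by
    intro χ h
    have hsum : Cfsg.classInner (Φ + τ₁ φ) (τ₁ χ - ((wt₀ χ : ℤ) : ℂ) • τ₁ φ) = 0 := by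
      have h1 : Cfsg.classInner Φ (τ₁ χ - ((wt₀ χ : ℤ) : ℂ) • τ₁ φ) =
          -Cfsg.classInner φ (χ - ((wt₀ χ : ℤ) : ℂ) • φ) := by
        rw [← hdiff χ h, hΦ, FrobeniusTI.classInner_indFun hTI' hβs
          (supp_of_zspanOn hvan (hdm χ h)), hβ, classInner_sub_left]
        rw [classInner_sub_right (FrobeniusTI.RK M K), classInner_smul_right, hRK0 χ h, hRK0 φ hφS,
          mul_zero, sub_zero, zero_sub]
      have h2 : Cfsg.classInner (τ₁ φ) (τ₁ χ - ((wt₀ χ : ℤ) : ℂ) • τ₁ φ) =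
          Cfsg.classInner φ (χ - ((wt₀ χ : ℤ) : ℂ) • φ) := by
        rw [← Criterion.span_iso_smul hτ (hz φ hφS),
          ← Criterion.span_iso_sub hτ (hz χ h) (zspan_smul _ (hz φ hφS)),
          hτ.2.2.1 φ (hz φ hφS) _ (zspan_sub (hz χ h) (zspan_smul _ (hz φ hφS)))]
      rw [classInner_add_left, h1, h2, neg_add_cancel]
    have gR := gen_add hΦg (hgen φ hφS)
    rw [classInner_sub_right, classInner_smul_right, co_spec gR (hgen χ h),
      co_spec gR (hgen φ hφS), sub_eq_zero, map_intCast] at hsum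
    exact_mod_cast hsum
  refine ⟨{
    Z := conjSet (hSet K)
    e := e
    n := n
    Φ := Φ
    φ := τ₁ φ
    mem := S.image τ₁
    wt := wt
    gen_Φ := hΦg
    gen_mem := ?_
    φ_mem := Finset.mem_image_of_mem _ hφS
    wt_φ := by rw [hwt' φ hφS, hwtφ]
    sum_wt := by
      rw [Finset.sum_image fun a ha b hb h => hinj a ha b hb h]
      exact Finset.sum_congr rfl fun χ h => by rw [hwt' χ h]
    two_le := ?_
    unit := ?_
    orth := ?_
    conj_mem := ?_
    conj_ne := ?_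
    wt_conj := ?_
    Φ_one := ?_
    Φ_norm := ?_
    Φ_supp := ?_
    diff_supp := ?_
    own := ?_
    real := ?_ }, rfl, rfl, hsq⟩
  · simp only [Finset.mem_image]
    rintro _ ⟨χ, h, rfl⟩
    exact hgen χ h
  · have hle := Finset.sum_le_sum_of_subset (f := fun χ => wt₀ χ ^ 2)
      (show ({φ, Cfsg.conjFun φ} : Finset (M → ℂ)) ⊆ S by
        simp [Finset.insert_subset_iff, hφS, hcS φ hφS])
    rw [Finset.sum_pair (layer_conj_ne hoddM hφS).symm, hwtc φ hφS, hwtφ] at hle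
    rw [hn]
    exact le_trans (by norm_num) hle
  · simp only [Finset.mem_image]
    rintro _ ⟨χ, h, rfl⟩
    exact co_eq_one (by rw [hin χ h χ h, if_pos rfl])
  · simp only [Finset.mem_image]
    rintro _ ⟨χ, h, rfl⟩ _ ⟨χ', h', rfl⟩ hne
    exact co_eq_zero (by rw [hin χ h χ' h', if_neg fun e' => hne (congrArg τ₁ e')])
  · simp only [Finset.mem_image]
    rintro _ ⟨χ, h, rfl⟩
    exact ⟨_, hcS χ h, (hconj χ h).1⟩
  · simp only [Finset.mem_image]
    rintro _ ⟨χ, h, rfl⟩ e'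
    have h1 := (hconj χ h).2
    rw [e', hin χ h χ h, if_pos rfl] at h1
    exact one_ne_zero h1
  · simp only [Finset.mem_image]
    rintro _ ⟨χ, h, rfl⟩
    rw [← (hconj χ h).1, hwt' χ h, hwt' _ (hcS χ h), hwtc χ h]
  · refine co_eq_one ?_
    rw [hΦ, FrobeniusTI.classInner_one_indFun, hβ, classInner_sub_left, RK_one_inner.1,
      layer_orth_one hφS, sub_zero]
  · refine co_eq_of_classInner ?_
    have hRR : Cfsg.classInner (FrobeniusTI.RK M K) (FrobeniusTI.RK M K) = (e : ℂ) := by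
      rw [inner_RK (f := FrobeniusTI.RK M K) fun x hx => if_neg hx, RK_one_inner.2, mul_one]
    rw [hΦ, FrobeniusTI.classInner_indFun hTI' hβs hβs, hβ, classInner_sub_left,
      classInner_sub_right, classInner_sub_right, hRR, hRK0 φ hφS,
      ← classInner_conj_symm (FrobeniusTI.RK M K) φ, hRK0 φ hφS, map_zero,
      classInner_irr_eq (hirr φ hφS) (hirr φ hφS), if_pos rfl]
    push_cast
    ring
  · intro g hg
    by_contra hne
    obtain ⟨h1, y, hy⟩ := FrobeniusTI.indFun_support hβs hne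
    exact hg ⟨y⁻¹, y * g * y⁻¹, mem_hSet.2 ⟨hy, fun h => h1 (conj_eq_one_iff.1 h)⟩, by group⟩
  · simp only [Finset.mem_image]
    rintro _ ⟨χ, h, rfl⟩ g hg
    rw [hwt' χ h]
    by_contra hne
    obtain ⟨h1, y, hy⟩ := FrobeniusTI.indFun_support (supp_of_zspanOn hvan (hdm χ h)) (g := g) (by
      rw [hdiff χ h, Pi.sub_apply, Pi.smul_apply, smul_eq_mul]
      intro h0
      exact hne (by push_cast at h0; linear_combination h0))
    exact hg ⟨y⁻¹, y * g * y⁻¹, mem_hSet.2 ⟨hy, fun h => h1 (conj_eq_one_iff.1 h)⟩, by group⟩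
  · simp only [Finset.mem_image]
    rintro _ ⟨χ, h, rfl⟩
    rw [hwt' χ h]
    exact hown χ h
  · funext g
    have h1 : Cfsg.conjFun β - β = φ - Cfsg.conjFun φ := by
      funext x
      simp only [hβ, Cfsg.conjFun, Pi.sub_apply, map_sub]
      rw [show conj (FrobeniusTI.RK M K x) = FrobeniusTI.RK M K x by
        simp only [FrobeniusTI.RK]; split_ifs <;> simp]
      ring
    have h2 : Cfsg.conjFun Φ - Φ = τ₁ φ - Cfsg.conjFun (τ₁ φ) := by
      rw [hΦ, ← FrobeniusTI.indFun_conjFun, ← Induced.Basic.indFun_sub, h1, ← hag _ (hcm φ hφS),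
        Criterion.span_iso_sub hτ (hz φ hφS) (hz _ (hcS φ hφS)), (hconj φ hφS).1]
    have := congrFun h2 g
    simp only [Cfsg.conjFun, Pi.sub_apply, Pi.add_apply, map_add] at this ⊢
    linear_combination this

end Generic

/-! ### Characters of a group which is Frobenius modulo `Q` -/

theorem layer_facts {L : Type u} [Group L] [Fintype L] {K Q : Subgroup L} [K.Normal] [Q.Normal]
    (hQ : Q ≤ K)
    (hfr : ∀ n ∈ K, n ∉ Q → ∀ x : L, x * n * x⁻¹ * n⁻¹ ∈ Q → x ∈ K) {χ : L → ℂ}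
    (hχ : χ ∈ Inflate.layer K Q) :
    (∀ x ∉ K, χ x = 0) ∧ (∃ d : ℕ, χ 1 = ((K.index * d : ℕ) : ℂ)) ∧
      ((∀ a ∈ K, ∀ b ∈ K, a * b * a⁻¹ * b⁻¹ ∈ Q) → χ 1 = (K.index : ℂ)) := by
  obtain ⟨hi, htriv, g, hgK, hg⟩ := Inflate.mem_layer.1 hχ
  obtain ⟨φ, -, hφ, hφi⟩ := Characters.Kernel.exists_descend Q (IsCharacter_of_isIrrCharacter hi) htriv
  set π := QuotientGroup.mk' Q with hπ
  have hsurj := QuotientGroup.mk'_surjective Q
  haveI : Fintype (L ⧸ Q) := Fintype.ofFinite _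
  haveI hKn : (K.map π).Normal := Subgroup.Normal.map inferInstance _ hsurj
  have hval : ∀ x, χ x = φ (π x) := fun x => (congrFun hφ x).symm
  have hmem : ∀ x, π x ∈ K.map π → x ∈ K := by
    intro x hx
    obtain ⟨k, hk, hkx⟩ := Subgroup.mem_map.1 hx
    obtain ⟨z, hz, rfl⟩ := (QuotientGroup.mk'_eq_mk' Q).1 hkx
    exact mul_mem hk (hQ hz)
  have hC : ∀ k ∈ K.map π, k ≠ 1 → Subgroup.centralizer ({k} : Set (L ⧸ Q)) ≤ K.map π := by
    intro k hk hk1 y hy
    obtain ⟨n, hn, rfl⟩ := Subgroup.mem_map.1 hk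
    obtain ⟨x, rfl⟩ := hsurj y
    refine Subgroup.mem_map_of_mem _ (hfr n hn (fun h => hk1 ((QuotientGroup.eq_one_iff n).2 h)) x ?_)
    rw [← QuotientGroup.eq_one_iff (N := Q)]
    show π _ = 1
    rw [map_mul, map_mul, map_mul, map_inv, map_inv,
      Subgroup.mem_centralizer_singleton_iff.1 hy, mul_inv_cancel_right, mul_inv_cancel]
  have hidx : (K.map π).index = K.index :=
    Subgroup.index_map_eq K hsurj (by rw [hπ, QuotientGroup.ker_mk']; exact hQ)
  have hφ' : φ ∈ Inflate.layer (K.map π) ⊥ := Inflate.mem_layer.2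
    ⟨hφi hi, fun x hx => by rw [Subgroup.mem_bot.1 hx], π g, Subgroup.mem_map_of_mem _ hgK,
      fun h => hg (by rw [hval, hval, map_one, h])⟩
  refine ⟨fun x hx => ?_, ?_, fun hab => ?_⟩
  · rw [hval]
    exact Layers.vanish hC hφ' fun h => hx (hmem x h)
  · exact ⟨Layers.mdeg (K.map π) φ, by rw [hval, map_one, (Layers.mdeg_spec hC hφ').1, hidx]⟩
  · obtain ⟨θ, hθ, he⟩ := Layers.exists_ind hC hφ'
    have h1 : θ 1 = 1 := Characters.Linear.degree_eq_one_of_comm (by
      rintro ⟨a, ha⟩ ⟨b, hb⟩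
      obtain ⟨a', ha', rfl⟩ := Subgroup.mem_map.1 ha
      obtain ⟨b', hb', rfl⟩ := Subgroup.mem_map.1 hb
      refine Subtype.ext ?_
      show π a' * π b' = π b' * π a'
      have := (QuotientGroup.eq_one_iff (N := Q) _).2 (hab a' ha' b' hb')
      rw [← commutatorElement_eq_one_iff_mul_comm, commutatorElement_def, ← map_inv, ← map_inv,
        ← map_mul, ← map_mul, ← map_mul]
      exact this) ⟨θ, hθ⟩
    rw [hval, map_one, he, Induced.Basic.indFun_one, h1, mul_one, hidx]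

/-! ### Type I -/

set_option maxHeartbeats 1000000 in
theorem exists_probeI (hG : Cfsg.IsMinSimpleOddOrder G) {M : Subgroup G}
    (hI : Cfsg.Agent.Lib.OddOrder.TypeOne.IsTypeI M)
    (hfrob : ∀ x ∈ Cfsg.fittingHallOf M, x ≠ 1 →
      M ⊓ Subgroup.centralizer ({x} : Set G) ≤ Cfsg.fittingHallOf M)
    (hD : Cfsg.DadeHypothesis (Cfsg.Agent.Lib.OddOrder.TypeOne.typeA M) M (Cfsg.supportR M))
    (hcoh : Cfsg.IsCoherent (Cfsg.inducedIrrAbove (Cfsg.fittingHall M) ⊥) {1}ᶜ
      (Cfsg.dadeIsometry (Cfsg.Agent.Lib.OddOrder.TypeOne.typeA M) M (Cfsg.supportR M)))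
    (hTI : TIKernel (Cfsg.fittingHallOf M) M) :
    ∃ P : Probe G, P.Z = conjSet (hSet (Cfsg.fittingHallOf M)) ∧
      Nat.card M = Nat.card (Cfsg.fittingHallOf M) * P.e ∧
      Nat.card (Cfsg.fittingHallOf M) = P.n * P.e + 1 := by
  set H := Cfsg.fittingHallOf M with hHdef
  have hH : H.subgroupOf M = Cfsg.fittingHall M := PF12.Coherent.fittingHallOf_subgroupOf M
  haveI hn : (H.subgroupOf M).Normal := by rw [hH]; infer_instance
  have hC : ∀ k ∈ H.subgroupOf M, k ≠ 1 →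
      Subgroup.centralizer ({k} : Set M) ≤ H.subgroupOf M := by
    rw [hH]; exact PF12.Coherent.centralizer_le hfrob
  set K := H.subgroupOf M with hK
  rw [← hH] at hcoh
  have hne : K ≠ ⊥ := by rw [hH]; exact hI.1.2.2.1
  have hcoe := KernelInduced.coe_layer_eq K hC
  rw [← hcoe] at hcoh
  obtain ⟨-, τ₁, hτ₁, hag⟩ := hcoh
  -- a member of least degree
  obtain ⟨φ, hφ, hφ1⟩ : ∃ φ ∈ Inflate.layer K ⊥, φ 1 = (K.index : ℂ) := by
    haveI : Group.IsSolvable M := hI.1.1
    haveI : Fintype K := Fintype.ofFinite _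
    haveI : Nontrivial K := (Subgroup.nontrivial_iff_ne_bot _).2 hne
    haveI : Group.IsSolvable K := inferInstance
    obtain ⟨Λ, hΛc, -, -⟩ := Clifford.exists_dual (commutator K)
      fun x y => Subgroup.commutator_mem_commutator (Subgroup.mem_top x) (Subgroup.mem_top y)
    obtain ⟨l, -, hl⟩ : ∃ l ∈ Λ, l ≠ 1 := by
      by_contra! hall
      have h1 : Λ.card ≤ 1 :=
        Finset.card_le_one.2 fun a ha b hb => (hall a ha).trans (hall b hb).symm
      rw [hΛc] at h1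
      have h2 := Subgroup.index_ne_zero_of_finite (H := commutator K)
      exact (Group.IsSolvable.commutator_lt_top_of_nontrivial K).ne
        (Subgroup.index_eq_one.1 (by omega))
    refine ⟨Cfsg.indFun K (Characters.Linear.linChar l : K → ℂ), ?_, ?_⟩
    · rw [← Finset.mem_coe, hcoe]
      exact ⟨_, (Characters.Linear.linChar l).2,
        fun e => hl (MonoidHom.ext fun g => Units.ext (congrFun e g)),
        fun a ha => by rw [Subtype.ext (Subgroup.mem_bot.1 ha) (a1 := a) (a2 := 1)], rfl⟩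
    · rw [Induced.Basic.indFun_one, Characters.Linear.linChar_apply, map_one, Units.val_one, mul_one]
  -- the Dade map is induction
  have hagree : ∀ α ∈ Cfsg.zspanOn (↑(Inflate.layer K ⊥) : Set (M → ℂ)) {1}ᶜ,
      τ₁ α = Cfsg.indFun M α := by
    intro α hα
    rw [hag α hα]
    have hsupp : FrobeniusTI.Supp M H α := FrobeniusTI.supp_zspanOn hC hα
    funext g
    by_cases hg : g ∈ Dade.support (Cfsg.Agent.Lib.OddOrder.TypeOne.typeA M) (Cfsg.supportR M)
    · obtain ⟨a, ha, v, hv, x, e⟩ := hg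
      have hA := ha
      rw [PF12.Coherent.typeA_eq hI hfrob] at hA
      obtain ⟨haH, ha1⟩ := hA
      have hv1 : v = 1 := by
        rw [PF8.Dade.supportR_eq_bot (centralizer_le hTI haH ha1), Subgroup.mem_bot] at hv
        exact hv
      subst hv1
      rw [mul_one] at e
      rw [Dade.dadeIsometry_apply hD hsupp.1 (u := 1) (a := ⟨a, hD.subset ha⟩) ha
        (one_mem _) (by rw [mul_one]; exact e)]
      rw [← Induced.Basic.isClassFunction_indFun M α g x, e]
      exact (FrobeniusTI.indFun_apply (ti_outside hTI) hsupp (x := ⟨a, hD.subset ha⟩)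
        (Subgroup.mem_subgroupOf.2 haH) (fun h => ha1 (congrArg Subtype.val h))).symm
    · rw [Dade.dadeIsometry_eq_zero hg]
      symm
      by_contra hne'
      obtain ⟨hg1, x, hx⟩ := FrobeniusTI.indFun_support hsupp hne'
      refine hg ⟨x * g * x⁻¹, ?_, 1, one_mem _, x, (mul_one _).symm⟩
      rw [PF12.Coherent.typeA_eq hI hfrob]
      exact ⟨hx, fun h => hg1 (conj_eq_one_iff.1 h)⟩
  obtain ⟨P, hPZ, hPe, hPn⟩ := exists_probe (K := H) hG.1 hTI (Q := ⊥) bot_le
    (fun χ hχ x hx => Layers.vanish hC hχ hx)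
    (fun χ hχ => ⟨_, (Layers.mdeg_spec hC hχ).1⟩) ⟨φ, hφ, hφ1⟩ τ₁ hτ₁ hagree
  have hcard : Nat.card K = Nat.card H :=
    Nat.card_congr (Subgroup.subgroupOfEquivOfLe (Subgroup.map_subtype_le _)).toEquiv
  refine ⟨P, hPZ, ?_, ?_⟩
  · rw [hPe, ← hcard, K.card_mul_index]
  · rw [← hcard, ← hPn, Subgroup.relIndex_bot_left]

/-! ### The derived subgroup of a side -/

set_option maxHeartbeats 1000000 in
theorem exists_probeThree (hG : Cfsg.IsMinSimpleOddOrder G) {T W₁ W₂ V : Subgroup G}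
    (F : PF13.Facts T W₂ V W₁) (hTI : TIKernel ⁅T, T⁆ T) :
    ∃ P : Probe G, P.Z = conjSet (hSet ⁅T, T⁆) ∧ P.e = Nat.card W₂ ∧
      Nat.card V = P.n * P.e + 1 := by
  set K := (⁅T, T⁆ : Subgroup G).subgroupOf T with hK
  set Q := (Cfsg.fittingHallOf T).subgroupOf T with hQdef
  haveI hKn : K.Normal :=
    Subgroup.normal_subgroupOf_of_le_normalizer (PF8.TypeP.le_normalizer_derived T)
  haveI hQn : Q.Normal :=
    Subgroup.normal_subgroupOf_of_le_normalizer (Basic.fittingHallOf_normal T)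
  have hQK : Q ≤ K := fun x hx => F.P_le_derived hx
  have hVT := F.U_le
  set π := QuotientGroup.mk' Q with hπ
  have hone : ∀ x : T, π x = 1 ↔ (x : G) ∈ Cfsg.fittingHallOf T := fun x =>
    (QuotientGroup.eq_one_iff x).trans Subgroup.mem_subgroupOf
  have hKdec : ∀ x ∈ K, ∃ v : T, (v : G) ∈ V ∧ π x = π v := by
    intro x hx
    obtain ⟨a, ha, v, hv, e⟩ := F.typeP.U_compl.2.2.2 (x : G) hx
    refine ⟨⟨v, hVT hv⟩, hv, ?_⟩
    have e' : x = (⟨a, F.P_le ha⟩ : T) * ⟨v, hVT hv⟩ := Subtype.ext e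
    rw [e', map_mul, (hone _).2 ha, one_mul]
  have hVcomm : ∀ v v' : T, (v : G) ∈ V → (v' : G) ∈ V → π v * π v' = π v' * π v := by
    intro v v' hv hv'
    rw [← map_mul, ← map_mul]
    exact congrArg π (Subtype.ext (F.U_comm _ hv _ hv'))
  have hab : ∀ a ∈ K, ∀ b ∈ K, a * b * a⁻¹ * b⁻¹ ∈ Q := by
    intro a ha b hb
    obtain ⟨v, hv, ev⟩ := hKdec a ha
    obtain ⟨v', hv', ev'⟩ := hKdec b hb
    rw [← QuotientGroup.eq_one_iff (N := Q)]
    show π _ = 1
    rw [map_mul, map_mul, map_mul, map_inv, map_inv, ev, ev', hVcomm v v' hv hv',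
      mul_inv_cancel_right, mul_inv_cancel]
  have hfr : ∀ n ∈ K, n ∉ Q → ∀ x : T, x * n * x⁻¹ * n⁻¹ ∈ Q → x ∈ K := by
    intro n hn hnQ x hx
    obtain ⟨v', hv', en⟩ := hKdec n hn
    obtain ⟨a, ha, v, hv, w, hw, e⟩ := F.decomp x.2
    set vT : T := ⟨v, hVT hv⟩ with hvT
    set wT : T := ⟨w, F.W₁_le hw⟩ with hwT
    have ex : π x = π vT * π wT := by
      have e' : x = (⟨a, F.P_le ha⟩ : T) * vT * wT := Subtype.ext e
      rw [e', map_mul, map_mul, (hone ⟨a, F.P_le ha⟩).2 ha, one_mul]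
    have hcom : π (x * n * x⁻¹ * n⁻¹) = 1 := (QuotientGroup.eq_one_iff _).2 hx
    rw [map_mul, map_mul, map_mul, map_inv, map_inv, en, ex, mul_inv_eq_one] at hcom
    have hfix : π (wT * v' * wT⁻¹ * v'⁻¹) = 1 := by
      rw [map_mul, map_mul, map_mul, map_inv, map_inv, mul_inv_eq_one]
      refine mul_right_cancel (b := (π vT)⁻¹) (mul_left_cancel (a := π vT) ?_)
      have h2 : π vT * (π v' * (π vT)⁻¹) = π v' := by
        rw [← mul_assoc, hVcomm vT v' hv hv', mul_inv_cancel_right]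
      rw [h2]
      refine Eq.trans ?_ hcom
      group
    have hmem : w * (v' : G) * w⁻¹ * (v' : G)⁻¹ ∈ Cfsg.fittingHallOf T ⊓ V := by
      refine Subgroup.mem_inf.2 ⟨?_, ?_⟩
      · have := (hone _).1 hfix
        simpa [hwT] using this
      · exact mul_mem (F.conj_U hw hv') (inv_mem hv')
    rw [F.typeP.U_compl.2.2.1, Subgroup.mem_bot, mul_inv_eq_one, mul_inv_eq_iff_eq_mul] at hmem
    by_cases hw1 : w = 1
    · show (x : G) ∈ ⁅T, T⁆
      rw [e, hw1, mul_one]
      exact mul_mem (F.P_le_derived ha) (F.U_le_derived hv)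
    · exfalso
      have hv'1 := F.fpf hw hw1 hv' hmem
      refine hnQ ((QuotientGroup.eq_one_iff n).1 ?_)
      show π n = 1
      rw [en, show v' = 1 from Subtype.ext hv'1, map_one]
  have hfacts := fun χ (hχ : χ ∈ Inflate.layer K Q) => layer_facts hQK hfr hχ
  have hidx : K.index = Nat.card W₂ := Basic.isComplIn_relIndex F.typeP.W₁_compl
  have hrel : Q.relIndex K = Nat.card V := by
    rw [hQdef, hK, Subgroup.relIndex_subgroupOf F.derived_le]
    exact Basic.isComplIn_relIndex F.typeP.U_compl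
  have hlt : Q < K := by
    refine lt_of_le_of_ne hQK fun e => ?_
    have hV1 : Nat.card V = 1 := by rw [← hrel, e, Subgroup.relIndex_self]
    exact F.U_ne (Subgroup.card_eq_one.1 hV1)
  have hoddT : Odd (Nat.card T) := hG.1.of_dvd_nat (Subgroup.card_subgroup_dvd_card T)
  -- coherence: all degrees are equal
  obtain ⟨R, hS⟩ := Cfsg.Agent.S1514.result (↑(Inflate.layer K Q) : Set (T → ℂ))
    (Finset.coe_nonempty.2 (Inflate.layer_nonempty hlt))
    (fun χ h => (Inflate.mem_layer.1 (Finset.mem_coe.1 h)).1)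
    (fun χ h => ⟨Finset.mem_coe.2 (Inflate.conj_mem_layer (Finset.mem_coe.1 h)),
      layer_conj_ne hoddT (Finset.mem_coe.1 h)⟩)
    (Cfsg.indFun T)
    ⟨fun a _ b _ => Induced.Basic.indFun_add T a b,
      fun a _ n => by rw [FrobeniusTI.zsmul_eq, FrobeniusTI.zsmul_eq, Induced.Basic.indFun_smul],
      fun a ha b hb => FrobeniusTI.classInner_indFun (ti_outside hTI)
        (supp_of_zspanOn (K := ⁅T, T⁆) (fun χ hχ => (hfacts χ hχ).1) ha)
        (supp_of_zspanOn (K := ⁅T, T⁆) (fun χ hχ => (hfacts χ hχ).1) hb),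
      fun a ha => FrobeniusTI.gen_indFun (fun χ hχ => IsCharacter_of_isIrrCharacter
        (Inflate.mem_layer.1 (Finset.mem_coe.1 hχ)).1) ha.1⟩
    (fun a ha => FrobeniusTI.indFun_one_eq_zero (mem_zspanOn_one.1 ha).2)
  obtain ⟨-, τ₁, hτ₁, hag⟩ := EqualDegree.coherent_of_equal_degree hS fun χ hχ χ' hχ' => by
    rw [(hfacts χ (Finset.mem_coe.1 hχ)).2.2 hab, (hfacts χ' (Finset.mem_coe.1 hχ')).2.2 hab]
  obtain ⟨φ, hφ⟩ := Inflate.layer_nonempty hlt
  obtain ⟨P, hPZ, hPe, hPn⟩ := exists_probe (K := ⁅T, T⁆) hG.1 hTI (Q := Q) hQK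
    (fun χ hχ => (hfacts χ hχ).1) (fun χ hχ => (hfacts χ hχ).2.1)
    ⟨φ, hφ, (hfacts φ hφ).2.2 hab⟩ τ₁ hτ₁ hag
  exact ⟨P, hPZ, hPe.trans hidx, hrel.symm.trans hPn⟩

end Cfsg.Agent.Lib.OddOrder.PF14.MkTI
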