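import Cfsg.Agent.Lib.OddOrder.PF14.Count
import Cfsg.Agent.Lib.OddOrder.PF14.Bounds
import Cfsg.Agent.Lib.OddOrder.PF14.Core
import Cfsg.Agent.Lib.OddOrder.PF14.MkTI
import Cfsg.Agent.Lib.OddOrder.PF14.MkSide
import Cfsg.Agent.Lib.OddOrder.PF13.Assembly
import Cfsg.Agent.Lib.OddOrder.PF8.Supports
import Cfsg.Agent.Lib.OddOrder.Final
import Cfsg.Agent.Lib.CyclicTI.Family

/-!
# Peterfalvi 14: the final configuration, from the inputs
-/

set_option autoImplicit false
set_option linter.style.haveILetI false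

open scoped commutatorElement Pointwise

namespace Cfsg.Agent.Lib.OddOrder.PF14

open Cfsg.Agent.Lib.OddOrder.Basic
open Cfsg.Agent.Lib.CyclicTI (IsP IsQ)
open Cfsg.Agent.Lib.OddOrder.PF13 (Facts)
open Interface.PF8 (cyclicSet)

universe u

variable {G : Type u} [Group G] [Fintype G] {S T W₁ W₂ U V L : Subgroup G}

/-- `W₁W₂^y` is a conjugate of `W₁W₂` for `y` in `T_F`. -/
theorem sup_conj (F : Facts T W₂ V W₁) {y : G} (hy : y ∈ Cfsg.fittingHallOf T) :
    W₁ ⊔ W₂.map (MulAut.conj y).toMonoidHom = (W₁ ⊔ W₂).map (MulAut.conj y).toMonoidHom := by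
  have hc : ∀ x ∈ W₁, y * x * y⁻¹ = x := fun x hx => by
    rw [F.P_comm y hy x (F.W₂_le_P hx), mul_inv_cancel_right]
  have : W₁.map (MulAut.conj y).toMonoidHom = W₁ := by
    ext a
    constructor
    · rintro ⟨x, hx, rfl⟩
      show y * x * y⁻¹ ∈ W₁
      rw [hc x hx]; exact hx
    · intro ha
      exact ⟨a, ha, hc a ha⟩
  rw [Subgroup.map_sup, this]

theorem card_compl (F : Facts T W₂ V W₁) {y : G} (hy : y ∈ Cfsg.fittingHallOf T) :
    Nat.card ↥(W₁ ⊔ W₂.map (MulAut.conj y).toMonoidHom) = Nat.card W₁ * Nat.card W₂ := by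
  rw [sup_conj F hy, Subgroup.card_map_of_injective (MulAut.conj y).injective, ← card_W
    (Final.sup_comm_data F.typeP.selfNormalizing)]

/-- Being of type I separates a subgroup from the conjugates of one of type P. -/
theorem nc_typeI {M N : Subgroup G} (hM : TypeOne.IsTypeI M) (hN : ¬ TypeOne.IsTypeI N) (g : G) :
    N.map (MulAut.conj g).toMonoidHom ≠ M := fun e =>
  hN ((PF8.Conj.isOfTypeI_im_iff (φ := MulAut.conj g)).1 (by rw [PF8.Conj.im, e]; exact hM))

/-- What is fixed throughout the last argument. -/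
structure Setup (S T W₁ W₂ U V : Subgroup G) (L : Subgroup G) (P : Probe G) (y : G) : Prop where
  ctx : Ctx S T W₁ W₂ U V
  ldata : LData S T W₁ W₂ U L
  y_mem : y ∈ Cfsg.fittingHallOf T
  compl : Cfsg.IsComplIn (Cfsg.fittingHallOf L) (W₁ ⊔ W₂.map (MulAut.conj y).toMonoidHom) L
  zone : P.Z = conjSet (Cfsg.typeA1 L)
  card_h : Nat.card (Cfsg.fittingHallOf L) = P.n * (Nat.card W₂ * Nat.card W₁) + 1
  e_eq : P.e = Nat.card W₂ * Nat.card W₁

namespace Ctx

variable (C : Ctx S T W₁ W₂ U V)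
include C

theorem not_typeI_S : ¬ TypeOne.IsTypeI S :=
  PF8.TypeP.not_typeI (PF8.TypeP.isOfTypeP_of C.pair.typeS)

theorem not_typeI_T : ¬ TypeOne.IsTypeI T :=
  PF8.TypeP.not_typeI (PF8.TypeP.isOfTypeP_of C.pair.typeT)

theorem exists_probe {M : Subgroup G} (hM : IsCoatom M) (hI : TypeOne.IsTypeI M) :
    ∃ P : Probe G, P.Z = conjSet (Cfsg.typeA1 M) ∧
      Nat.card M = Nat.card (Cfsg.fittingHallOf M) * P.e ∧
      Nat.card (Cfsg.fittingHallOf M) = P.n * P.e + 1 := by
  obtain ⟨P, h1, h2, h3⟩ := MkTI.exists_probeI C.hG hI (C.inputs.frobenius M hM hI)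
    ((PF8.Dade.step_8_15 C.hG C.inputs.bg16) M hM _ (Or.inr (Or.inl rfl))).2
    (by convert (C.inputs.coherent M hM hI (C.inputs.frobenius M hM hI)).2) (C.ti_typeI hM hI)
  exact ⟨P, h1.trans (by rw [C.typeA1_typeI hI]), h2, h3⟩

theorem avoids_probe {M : Subgroup G} (hM : IsCoatom M) {P : Probe G}
    (hZ : P.Z = conjSet (Cfsg.typeA1 M)) : Probe.Avoids W₁ W₂ P := fun w h1 h2 => by
  rw [hZ]
  exact C.avoids hM h1 h2

theorem side_disjointT {N : Subgroup G} (hN : IsCoatom N) (hII : Cfsg.IsOfTypeII T)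
    (h : ∀ g : G, N.map (MulAut.conj g).toMonoidHom ≠ T) :
    Disjoint (sideZone (Cfsg.fittingHallOf T) W₂ W₁) (conjSet (Cfsg.typeA1 N)) := by
  have h1 : Cfsg.typeA1 T = hSet (Cfsg.fittingHallOf T) := by
    rw [Cfsg.typeA1, typeCore_II C.pair.maxT C.pair.dataT hII]; rfl
  have h2 : cyclicSet G W₂ W₁ = cyclicSet G W₁ W₂ := by
    ext a
    simp only [cyclicSet, sup_comm W₂ W₁, Set.mem_ofPred_eq]
    tauto
  rw [sideZone, h2, ← h1]
  exact (C.disjoint C.pair.maxT hN h).union_left (C.cyclic_disjoint hN)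

theorem exists_family :
    ∃ η : (↥(W₁ ⊔ W₂) →* ℂˣ) → G → ℂ, Table.Fam W₁ W₂ η := by
  have hW := C.pair.dataS.selfNormalizing
  have ho : Odd (Nat.card G) := C.hG.1
  obtain ⟨η, hη⟩ := CyclicTI.exists_family hW
    (ho.of_dvd_nat (Subgroup.card_subgroup_dvd_card _))
  exact ⟨η, hW, hη, ho⟩

/-- `L` has the complement `W₁W₂^y`. -/
theorem exists_setup :
    ∃ L P y, Setup S T W₁ W₂ U V L P y := by
  obtain ⟨L, hL⟩ := exists_LData C.inputs C.pair C.lt
  obtain ⟨P, hZ, hcard, hh⟩ := C.exists_probe hL.max hL.typeI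
  rcases hL.compl with hc | ⟨y, hy, hc⟩
  · exfalso
    have he : P.e = Nat.card W₁ :=
      Nat.eq_of_mul_eq_mul_left Nat.card_pos (hcard.symm.trans (isComplIn_card hc).symm)
    obtain ⟨η, F⟩ := C.exists_family
    obtain ⟨X, hXZ, hXN⟩ := MkSide.exists_sideData C.factsS C.galS.fpf
      (PF13.ti_A0 C.hG C.inputs.bg16 C.inputs.frobenius C.pair.maxS C.pair.dataS) F
    have hd : Disjoint X.Z P.Z := by
      rw [hZ]
      exact (C.side_disjoint hL.max (PF8.Supports.nc_symm (nc_typeI hL.typeI C.not_typeI_S))).mono_left hXZ.le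
    have hn := Core.small_probe F P (C.avoids_probe hL.max hZ) X hd he C.lt
    have hle : Nat.card (Cfsg.fittingHallOf L) ≤ Nat.card U := by
      rw [hh, hXN, he, mul_comm (Nat.card W₁)]
      exact Nat.add_le_add_right (Nat.mul_le_mul_right _ hn) 1
    have hHU := Subgroup.eq_of_le_of_card_ge hL.U_le hle
    have hLS : L ≤ S := fun m hm => by
      obtain ⟨a, ha, b, hb, rfl⟩ := hc.2.2.2 m hm
      exact mul_mem (C.factsS.U_le (hHU ▸ ha)) (C.factsS.W₁_le hb)
    rcases (hL.max.le_iff.1 hLS) with h1 | h1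
    · exact C.pair.maxS.1 h1
    · exact C.not_typeI_S (h1 ▸ hL.typeI)
  · have he : P.e = Nat.card W₂ * Nat.card W₁ := by
      refine Nat.eq_of_mul_eq_mul_left Nat.card_pos (hcard.symm.trans ?_)
      rw [← isComplIn_card hc, card_compl C.factsT hy, mul_comm (Nat.card W₁)]
    exact ⟨L, P, y, C, hL, hy, hc, hZ, by rw [hh, he], he⟩

end Ctx


namespace Setup

variable {P : Probe G} {y : G} (K : Setup S T W₁ W₂ U V L P y)
include K

theorem u_dvd : Nat.card U ∣ Nat.card (Cfsg.fittingHallOf L) :=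
  Subgroup.card_dvd_of_le K.ldata.U_le

theorem odd_h : Odd (Nat.card (Cfsg.fittingHallOf L)) :=
  K.ctx.hG.1.of_dvd_nat (Subgroup.card_subgroup_dvd_card _)

theorem nc_S : ∀ g : G, L.map (MulAut.conj g).toMonoidHom ≠ S :=
  PF8.Supports.nc_symm (nc_typeI K.ldata.typeI K.ctx.not_typeI_S)

theorem nc_T : ∀ g : G, L.map (MulAut.conj g).toMonoidHom ≠ T :=
  PF8.Supports.nc_symm (nc_typeI K.ldata.typeI K.ctx.not_typeI_T)

theorem avoids : Probe.Avoids W₁ W₂ P := K.ctx.avoids_probe K.ldata.max K.zone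

/-- Once `U` is normal in `L` the configuration is the required one. -/
theorem finish (hn : L ≤ Subgroup.normalizer (U : Set G)) :
    W₂.map (MulAut.conj y).toMonoidHom ≤ Subgroup.normalizer (U : Set G) ∧
      Nat.card U = Arith.geo (Nat.card W₂) (Nat.card W₁) := by
  set A := W₂.map (MulAut.conj y).toMonoidHom with hA
  have hAL : A ≤ L := le_sup_right.trans K.compl.2.1
  have hp := K.ctx.factsS.p_prime
  have hq := K.ctx.factsS.q_prime
  haveI := Fact.mk hp
  have hAcard : Nat.card A = Nat.card W₂ :=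
    Subgroup.card_map_of_injective (MulAut.conj y).injective
  refine ⟨hAL.trans hn, ?_⟩
  have hfix : U ⊓ Subgroup.centralizer (A : Set G) = ⊥ := by
    refine (Subgroup.eq_bot_iff_forall _).2 fun x hx => by_contra fun hx1 => ?_
    obtain ⟨w, hw, hw1⟩ := (Subgroup.bot_or_exists_ne_one W₂).resolve_left
      K.ctx.pair.dataS.selfNormalizing.2.1
    have hwA : y * w * y⁻¹ ∈ A := ⟨w, hw, rfl⟩
    have h1 := K.ldata.frob x (K.ldata.U_le hx.1) hx1 ⟨hAL hwA,
      Subgroup.mem_centralizer_singleton_iff.2 (Subgroup.mem_centralizer_iff.1 hx.2 _ hwA)⟩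
    have h2 : y * w * y⁻¹ ∈ Cfsg.fittingHallOf L ⊓
        (W₁ ⊔ W₂.map (MulAut.conj y).toMonoidHom) := ⟨h1, le_sup_right (a := W₁) hwA⟩
    rw [K.compl.2.2.1, Subgroup.mem_bot, conj_eq_one_iff] at h2
    exact hw1 h2
  have hmod := fixed_modEq (r := Nat.card W₂) (A := A) (Z := U) (hAL.trans hn)
    (IsPGroup.of_card (n := 1) (by rw [hAcard, pow_one]))
  rw [hfix, Subgroup.card_bot] at hmod
  rcases K.ctx.card_U with h | ⟨-, h⟩
  · exact h
  · exfalso
    have h1 := (Arith.modEq_one_of_geo hp hq K.ctx.card_U).2.1 h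
    have h2 := (hmod.mul_right (Nat.card W₁)).symm.trans h1
    rw [one_mul, Nat.ModEq, Nat.mod_eq_of_lt K.ctx.lt, Nat.mod_eq_of_lt hp.one_lt] at h2
    exact hq.one_lt.ne' h2

theorem le_normalizer_of_eq (h : Nat.card (Cfsg.fittingHallOf L) = Nat.card U) :
    L ≤ Subgroup.normalizer (U : Set G) := by
  rw [Subgroup.eq_of_le_of_card_ge K.ldata.U_le h.le]
  exact fittingHallOf_normal L

theorem le_normalizer_of_cyclic (h : IsCyclic (Cfsg.fittingHallOf L)) :
    L ≤ Subgroup.normalizer (U : Set G) := by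
  suffices key : ∀ m ∈ L, ∀ x ∈ U, m * x * m⁻¹ ∈ U by
    refine fun m hm => Subgroup.mem_normalizer_iff.2 fun x => ⟨key m hm x, fun hx => ?_⟩
    have := key _ (inv_mem hm) _ hx
    rwa [inv_inv, show m⁻¹ * (m * x * m⁻¹) * m = x by group] at this
  intro m hm x hx
  set H := Cfsg.fittingHallOf L
  haveI := h
  have hmH : ∀ z ∈ H, m * z * m⁻¹ ∈ H := fun z hz =>
    (Subgroup.mem_normalizer_iff.1 (fittingHallOf_normal L hm) z).1 hz
  obtain ⟨z, hz⟩ := IsCyclic.exists_generator (α := H)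
  obtain ⟨i, hi⟩ := hz ⟨x, K.ldata.U_le hx⟩
  obtain ⟨j, hj⟩ := hz ⟨m * z * m⁻¹, hmH z z.2⟩
  have hi' : (z : G) ^ i = x := congrArg Subtype.val hi
  have hj' : (z : G) ^ j = m * z * m⁻¹ := congrArg Subtype.val hj
  have : m * x * m⁻¹ = x ^ j := by
    rw [← hi', ← conj_zpow, ← hj', ← zpow_mul, ← zpow_mul, mul_comm]
  rw [this]
  exact zpow_mem hx j

/-- The full table contradicts the counting. -/
theorem no_full (hII : Cfsg.IsOfTypeII T)
    {η : (↥(W₁ ⊔ W₂) →* ℂˣ) → G → ℂ} (F : Table.Fam W₁ W₂ η)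
    (hr : ∀ φ, IsP φ → φ ≠ 1 → ((Vec.co P.R (η φ) : ℤ) : ZMod 2) = 1)
    (hc : ∀ ψ, IsQ ψ → ψ ≠ 1 → ((Vec.co P.R (η ψ) : ℤ) : ZMod 2) = 1)
    (hn : Nat.card W₂ * Nat.card W₁ ≤ P.n) : False := by
  classical
  have C := K.ctx
  let Other := {M : Subgroup G // IsCoatom M ∧ TypeOne.IsTypeI M ∧
    ∀ g : G, M.map (MulAut.conj g).toMonoidHom ≠ L}
  let r : Setoid Other :=
    { r := fun a b => ∃ g : G, a.1.map (MulAut.conj g).toMonoidHom = b.1
      iseqv :=
        { refl := fun a => ⟨1, PF8.TypeP.im_conj_self (one_mem _)⟩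
          symm := fun {a b} ⟨g, hg⟩ => ⟨g⁻¹, hg ▸ PF8.Supports.im_inv_im g a.1⟩
          trans := fun {a b c} ⟨g, hg⟩ ⟨g', hg'⟩ =>
            ⟨g' * g, (PF8.TypeP.im_conj_mul g' g a.1).symm.trans
              (by rw [PF8.Conj.im, PF8.Conj.im, hg, hg'])⟩ } }
  haveI : Fintype (Quotient r) := Fintype.ofFinite _
  choose Q hQZ hQcard hQh using fun i : Quotient r =>
    C.exists_probe i.out.2.1 i.out.2.2.1
  have htab := Core.full_table F P K.avoids hr hc
  have hsum := Core.full_sum F P K.avoids (Finset.univ : Finset (Quotient r)) Q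
    (by rw [K.e_eq, Nat.cast_mul, mul_comm]; exact htab)
    (fun i _ => by rw [K.zone, hQZ i]; exact C.disjoint K.ldata.max i.out.2.1 i.out.2.2.2)
    (fun i _ => C.avoids_probe i.out.2.1 (hQZ i))
    (fun i _ j _ hij => by
      rw [hQZ i, hQZ j]
      refine C.disjoint i.out.2.1 j.out.2.1 fun g e => hij ?_
      rw [← Quotient.out_eq i, ← Quotient.out_eq j]
      exact (Quotient.sound (show r.r j.out i.out from ⟨g, e⟩)).symm)
  -- the covering
  set Zi : Quotient r → Set G := fun i => conjSet (Cfsg.typeA1 i.out.1)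
  have hcov : ({1}ᶜ : Set G) ⊆ conjSet (cyclicSet G W₁ W₂) ∪ conjSet (Cfsg.typeA1 S) ∪
      conjSet (Cfsg.typeA1 T) ∪ conjSet (Cfsg.typeA1 L) ∪ ⋃ i ∈ Finset.univ, Zi i := by
    intro g hg
    rcases C.cover hg with h | ⟨N, hN, h⟩
    · exact Or.inl (Or.inl (Or.inl (Or.inl h)))
    rcases typeI_or_conj C.inputs C.pair hN with hI | ⟨t, rfl | rfl⟩
    · by_cases hL : ∃ t : G, N.map (MulAut.conj t).toMonoidHom = L
      · obtain ⟨t, rfl⟩ := hL
        exact Or.inl (Or.inr ((C.conjSet_im t).symm ▸ h))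
      · push Not at hL
        refine Or.inr (Set.mem_iUnion₂.2 ⟨Quotient.mk r ⟨N, hN, hI, hL⟩, Finset.mem_univ _, ?_⟩)
        obtain ⟨t, ht⟩ : r.r (Quotient.mk r ⟨N, hN, hI, hL⟩).out ⟨N, hN, hI, hL⟩ :=
          Quotient.exact (Quotient.out_eq _)
        simp only [Zi]
        rw [← C.conjSet_im t, ht]
        exact h
    · exact Or.inl (Or.inl (Or.inl (Or.inr ((C.conjSet_im t) ▸ h))))
    · exact Or.inl (Or.inl (Or.inr ((C.conjSet_im t) ▸ h)))
  have hG0 : (0 : ℝ) < Nat.card G := Nat.cast_pos.2 Nat.card_pos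
  have hcount : ((Nat.card G : ℝ) - 1) ≤ (conjSet (cyclicSet G W₁ W₂)).ncard +
      (conjSet (Cfsg.typeA1 S)).ncard + (conjSet (Cfsg.typeA1 T)).ncard +
      (conjSet (Cfsg.typeA1 L)).ncard + ∑ i, ((Zi i).ncard : ℝ) := by
    have h1 := Set.ncard_le_ncard hcov (Set.toFinite _)
    rw [Set.ncard_compl, Set.ncard_singleton] at h1
    have h2 := (h1.trans (Set.ncard_union_le _ _)).trans (Nat.add_le_add_right
      ((Set.ncard_union_le _ _).trans (Nat.add_le_add_right
        ((Set.ncard_union_le _ _).trans (Nat.add_le_add_right (Set.ncard_union_le _ _) _)) _)) _)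
    have h3 := Finset.set_ncard_biUnion_le (Finset.univ : Finset (Quotient r)) Zi
    have h4 : (Nat.card G : ℝ) ≤ ((Nat.card G - 1 : ℕ) : ℝ) + 1 := by
      rw [Nat.cast_sub (Nat.card_pos (α := G))]; simp
    have h5 : ((Nat.card G - 1 : ℕ) : ℝ) ≤ _ := Nat.cast_le.2 (h2.trans (Nat.add_le_add_left h3 _))
    push_cast at h5
    linarith
  -- the bounds
  have hW := C.ncard_W
  have hS := C.ncard_zone C.pair.maxS
  have hT := C.ncard_zone C.pair.maxT
  have hL := C.ncard_zone K.ldata.max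
  rw [C.typeCore_S, C.factsS.card_S] at hS
  rw [typeCore_II C.pair.maxT C.pair.dataT hII, C.factsT.card_S] at hT
  rw [PF13.typeCore_of_typeI K.ldata.typeI, ← isComplIn_card K.compl,
    card_compl C.factsT K.y_mem] at hL
  set p : ℝ := (Nat.card W₂ : ℝ) with hpdef
  set q : ℝ := (Nat.card W₁ : ℝ) with hqdef
  have hp5 : (5 : ℝ) ≤ p := by
    rw [hpdef]; exact_mod_cast (five_le C.inputs C.pair C.lt).2
  have hq3 : (3 : ℝ) ≤ q := by
    rw [hqdef]; exact_mod_cast (five_le C.inputs C.pair C.lt).1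
  have hpq0 : 0 < p * q := by positivity
  have frac : ∀ {a b c : ℝ}, 0 < a → 0 < b → 0 < c → c ≤ b → (a - 1) / (a * b) ≤ 1 / c := by
    intro a b c ha hb hc hcb
    rw [div_le_div_iff₀ (mul_pos ha hb) hc]
    nlinarith
  have pos : ∀ X : Subgroup G, (0 : ℝ) < Nat.card X := fun X => Nat.cast_pos.2 Nat.card_pos
  have hzS : ((conjSet (Cfsg.typeA1 S)).ncard : ℝ) / Nat.card G ≤ 1 / (p * q) := by
    rw [hS, Nat.cast_mul, Nat.cast_mul, mul_assoc]
    refine frac (pos _) (mul_pos (pos _) (pos _)) hpq0 ?_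
    have : Nat.card W₂ ≤ Nat.card U := by
      have hg := Arith.pow_lt_geo (p := Nat.card W₂) (q := Nat.card W₁)
        C.factsS.p_prime.one_le C.factsS.q_prime.two_le
      have h2 : Nat.card W₂ ^ 2 ≤ Nat.card W₂ ^ (Nat.card W₁ - 1) :=
        Nat.pow_le_pow_right Nat.card_pos (by have := (five_le C.inputs C.pair C.lt).1; omega)
      have := C.lt
      rcases C.card_U with e | ⟨-, e⟩
      · nlinarith
      · nlinarith
    rw [hpdef]
    exact mul_le_mul_of_nonneg_right (Nat.cast_le.2 this) (pos _).le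
  have hzT : ((conjSet (Cfsg.typeA1 T)).ncard : ℝ) / Nat.card G ≤ 1 / (p * q) := by
    rw [hT, Nat.cast_mul, Nat.cast_mul, mul_assoc]
    refine frac (pos _) (mul_pos (pos _) (pos _)) hpq0 ?_
    have hg := Arith.pow_lt_geo (p := Nat.card W₁) (q := Nat.card W₂)
      C.factsS.q_prime.one_le C.factsS.p_prime.two_le
    have h2 : Nat.card W₁ ≤ Nat.card W₁ ^ (Nat.card W₂ - 1) :=
      Nat.le_self_pow (by have := C.factsS.p_prime.two_le; omega) _
    rw [← C.card_V] at hg
    rw [hpdef, hqdef, mul_comm (Nat.card V : ℝ)]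
    exact mul_le_mul_of_nonneg_left (Nat.cast_le.2 (by omega)) (pos _).le
  have hzL : ((conjSet (Cfsg.typeA1 L)).ncard : ℝ) / Nat.card G ≤ 1 / (p * q) := by
    rw [hL, Nat.cast_mul, Nat.cast_mul]
    exact frac (pos _) (mul_pos (pos _) (pos _)) hpq0 (le_of_eq (mul_comm _ _))
  have hgpq : 1 / (Nat.card G : ℝ) ≤ 1 / (p * q) := by
    refine one_div_le_one_div_of_le hpq0 ?_
    have := Nat.le_of_dvd Nat.card_pos (Subgroup.card_subgroup_dvd_card (W₁ ⊔ W₂))
    rw [card_W C.pair.dataS.selfNormalizing] at this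
    rw [hpdef, hqdef, mul_comm]; exact_mod_cast this
  have hQ0 : ∀ i, (1 : ℝ) ≤ (Q i).e := fun i => by
    refine Nat.one_le_cast.2 (Nat.pos_of_ne_zero fun e => ?_)
    have := hQcard i
    rw [e, mul_zero] at this
    exact Nat.card_pos.ne' this
  have hzi : ∀ i, ((Zi i).ncard : ℝ) / Nat.card G ≤ 2 * (1 / (((Q i).e : ℝ) + 1)) := by
    intro i
    simp only [Zi]
    rw [C.ncard_zone i.out.2.1, PF13.typeCore_of_typeI i.out.2.2.1, hQcard i, Nat.cast_mul]
    refine (frac (pos _) (by linarith [hQ0 i]) (c := ((Q i).e : ℝ)) (by linarith [hQ0 i]) le_rfl).trans ?_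
    rw [mul_one_div, div_le_div_iff₀ (by linarith [hQ0 i]) (by linarith [hQ0 i])]
    linarith [hQ0 i]
  have hmain : 1 - 1 / (Nat.card G : ℝ) ≤ (1 - 1 / q - 1 / p + 1 / (q * p)) + 1 / (p * q) +
      1 / (p * q) + 1 / (p * q) + 2 * ∑ i, 1 / (((Q i).e : ℝ) + 1) := by
    have h := div_le_div_of_nonneg_right hcount hG0.le
    rw [add_div, add_div, add_div, add_div, Finset.sum_div, sub_div, div_self hG0.ne'] at h
    refine h.trans (add_le_add (add_le_add (add_le_add (add_le_add hW hzS) hzT) hzL) ?_)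
    rw [Finset.mul_sum]
    exact Finset.sum_le_sum fun i _ => hzi i
  have hPn : 1 / (P.n : ℝ) ≤ 1 / (p * q) := by
    refine one_div_le_one_div_of_le hpq0 ?_
    rw [hpdef, hqdef]; exact_mod_cast hn
  have e1 : 1 / q = p * (1 / (p * q)) := by field_simp
  have e2 : 1 / p = q * (1 / (p * q)) := by field_simp
  rw [e1, e2, mul_comm q p] at hmain
  have hx : 0 < 1 / (p * q) := by positivity
  nlinarith

end Setup


namespace Setup

variable {P : Probe G} {y : G} (K : Setup S T W₁ W₂ U V L P y)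
include K

/-- `n` is large once `U` is not normal in `L` and does not fit under the side of `S`. -/
theorem pq_le_n {N : ℕ} (hN : Nat.card U = Nat.card W₁ * N + 1)
    (hne : Nat.card (Cfsg.fittingHallOf L) ≠ Nat.card U) : Nat.card W₂ * Nat.card W₁ ≤ P.n := by
  have F := K.ctx.factsS
  refine Arith.pq_le F.p_prime F.q_prime (five_le K.ctx.inputs K.ctx.pair K.ctx.lt).1 K.ctx.lt
    K.ctx.card_U ?_ K.card_h K.u_dvd K.odd_h hne
  rw [hN, Nat.ModEq, Nat.add_comm, Nat.add_mul_mod_self_left]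

/-- `U` is normal in `L`. -/
theorem normal :
    L ≤ Subgroup.normalizer (U : Set G) := by
  classical
  have C := K.ctx
  have FS := C.factsS
  have FT := C.factsT
  have hp := FS.p_prime
  have hq := FS.q_prime
  obtain ⟨hq3, hp5⟩ := five_le C.inputs C.pair C.lt
  obtain ⟨η, F⟩ := C.exists_family
  obtain ⟨X, hXZ, hXN⟩ := MkSide.exists_sideData FS C.galS.fpf
    (PF13.ti_A0 C.hG C.inputs.bg16 C.inputs.frobenius C.pair.maxS C.pair.dataS) F
  have hdX : Disjoint X.Z P.Z := by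
    rw [K.zone]; exact (C.side_disjoint K.ldata.max K.nc_S).mono_left hXZ.le
  by_cases hA : P.n ≤ X.N
  · exact K.le_normalizer_of_eq
      (Arith.eq_of_le hp hq C.lt C.card_U hXN K.card_h K.u_dvd hA).1
  by_cases hHU : Nat.card (Cfsg.fittingHallOf L) = Nat.card U
  · exact K.le_normalizer_of_eq hHU
  have hn := K.pq_le_n hXN hHU
  have hc : ∀ ψ, IsQ ψ → ψ ≠ 1 → ((Vec.co P.R (η ψ) : ℤ) : ZMod 2) = 1 := fun ψ h h1 =>
    (Core.n_le_or_odd F P K.avoids X hdX h h1).resolve_left hA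
  have hv : Nat.card W₁ ^ (Nat.card W₂ - 1) + 1 ≤ Nat.card V := by
    rw [C.card_V]; exact Arith.pow_lt_geo hq.one_le hp.two_le
  rcases C.types_T with hII | hIII
  swap
  · -- `T` of type III
    have hcore := typeCore_III hIII
    have hTI : TIKernel ⁅T, T⁆ T := hcore ▸ C.ti_core C.pair.maxT
    obtain ⟨P', hZ', he', hv'⟩ := MkTI.exists_probeThree C.hG FT hTI
    have hZ'' : P'.Z = conjSet (Cfsg.typeA1 T) := by rw [hZ', Cfsg.typeA1, hcore]; rfl
    exfalso
    rcases Core.cross_le F P K.avoids P'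
        (by rw [K.zone, hZ'']; exact C.disjoint K.ldata.max C.pair.maxT
              (PF8.Supports.nc_symm K.nc_T))
        (C.avoids_probe C.pair.maxT hZ'') with h | h
    · rw [K.e_eq] at h
      have h1 : P'.n * P'.e + Nat.card W₂ ≤ Nat.card W₂ * Nat.card W₁ * Nat.card W₂ := by
        rw [he']
        have := Nat.mul_le_mul_right (Nat.card W₂) h
        rwa [Nat.succ_mul] at this
      by_cases hp7 : 7 ≤ Nat.card W₂
      · have h2 := Arith.sq_mul_sq_le hp7 hq3
        have h3 : Nat.card W₂ * Nat.card W₁ * Nat.card W₂ ≤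
            Nat.card W₂ ^ 2 * Nat.card W₁ ^ 2 := by nlinarith
        omega
      · have hp5' : Nat.card W₂ = 5 := by
          by_contra h5
          have h6 : Nat.card W₂ = 6 := by omega
          rw [h6] at hp
          norm_num at hp
        have hq3' : Nat.card W₁ = 3 := by
          have := C.lt
          by_contra h3
          have h4 : Nat.card W₁ = 4 := by omega
          rw [h4] at hq
          norm_num at hq
        rw [hp5', hq3'] at hv h1
        rw [show (3 : ℕ) ^ (5 - 1) = 81 by norm_num] at hv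
        omega
    · rw [he'] at h
      have : Nat.card W₂ ≤ Nat.card W₂ * Nat.card W₁ := Nat.le_mul_of_pos_right _ hq.pos
      omega
  -- `T` of type II
  have F' : Table.Fam W₂ W₁ fun ω => η (ω.comp (Subgroup.inclusion (sup_comm W₁ W₂).le)) :=
    ⟨Final.sup_comm_data F.selfNormalizing, PF13.isCyclicTIFamily_swap F.family, F.odd⟩
  obtain ⟨X', hX'Z, hX'N⟩ := MkSide.exists_sideData FT C.galT.fpf
    (PF13.ti_A0 C.hG C.inputs.bg16 C.inputs.frobenius C.pair.maxT C.pair.dataT) F'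
  have hA' : Probe.Avoids W₂ W₁ P := fun w h1 h2 =>
    K.avoids ⟨(w : G), sup_comm W₂ W₁ ▸ w.2⟩ h2 h1
  have hdX' : Disjoint X'.Z P.Z := by
    rw [K.zone]; exact (C.side_disjointT K.ldata.max hII K.nc_T).mono_left hX'Z.le
  by_cases hB : P.n ≤ X'.N
  swap
  · refine (K.no_full hII F (fun φ hφ hφ1 => ?_) hc hn).elim
    let ω : ↥(W₂ ⊔ W₁) →* ℂˣ := φ.comp (Subgroup.inclusion (sup_comm W₂ W₁).le)
    have hω : IsQ ω := fun w hw => hφ _ hw
    have e : ω.comp (Subgroup.inclusion (sup_comm W₁ W₂).le) = φ := MonoidHom.ext fun w => rfl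
    have hω1 : ω ≠ 1 := fun e1 => hφ1 (by rw [← e, e1]; rfl)
    have := (Core.n_le_or_odd F' P hA' X' hdX' hω hω1).resolve_left hB
    rwa [e] at this
  -- the subgroup containing `N(V)`
  obtain ⟨L', hL'⟩ := exists_LData_of C.inputs C.pair.symm hII
  obtain ⟨P', hZ', hcard', hh'⟩ := C.exists_probe hL'.max hL'.typeI
  have hVle := Subgroup.card_dvd_of_le hL'.U_le
  by_cases hconj : ∃ g : G, L'.map (MulAut.conj g).toMonoidHom = L
  · obtain ⟨g, rfl⟩ := hconj
    refine K.le_normalizer_of_cyclic ?_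
    have hH := PF8.Conj.im_fittingHallOf (MulAut.conj g) L'
    have hcH : Nat.card (Cfsg.fittingHallOf (L'.map (MulAut.conj g).toMonoidHom)) =
        Nat.card (Cfsg.fittingHallOf L') := by
      rw [← PF8.Conj.im_card (MulAut.conj g) (Cfsg.fittingHallOf L'), hH]
    have h1 : Nat.card (Cfsg.fittingHallOf L') = Nat.card V := by
      obtain ⟨j, hj⟩ := hVle
      have hh := K.card_h
      rw [hcH, hj] at hh
      have hjq : j < Nat.card W₁ := by
        by_contra hjq
        push Not at hjq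
        have i1 := Nat.mul_le_mul_left (Nat.card V) hjq
        have i2 := Nat.mul_le_mul_right (Nat.card W₂ * Nat.card W₁) hB
        have i3 : Nat.card V * Nat.card W₁ =
            X'.N * (Nat.card W₂ * Nat.card W₁) + Nat.card W₁ := by rw [hX'N]; ring
        omega
      have hv1 : Nat.card V ≡ 1 [MOD Nat.card W₂] := by
        rw [hX'N, Nat.ModEq, Nat.add_comm, Nat.add_mul_mod_self_left]
      have hmod : j ≡ 1 [MOD Nat.card W₂] := by
        have h2 : Nat.card V * j ≡ j [MOD Nat.card W₂] := by simpa using hv1.mul_right j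
        refine h2.symm.trans ?_
        rw [hh, mul_left_comm, Nat.ModEq, Nat.add_comm, Nat.add_mul_mod_self_left]
      have := C.lt
      rw [Nat.ModEq, Nat.mod_eq_of_lt (by omega), Nat.mod_eq_of_lt hp.one_lt] at hmod
      rw [hj, hmod, mul_one]
    rw [← hH]
    refine PF8.Conj.im_isCyclic (MulAut.conj g) ?_
    rw [← Subgroup.eq_of_le_of_card_ge hL'.U_le h1.le]
    exact C.galT.cyclic
  exfalso
  push Not at hconj
  have he' : P'.e ≤ Nat.card W₂ * Nat.card W₁ := by
    have hpos : 0 < Nat.card (Cfsg.fittingHallOf L') := Nat.card_pos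
    rcases hL'.compl with hc' | ⟨z, hz, hc'⟩
    · rw [show P'.e = Nat.card W₂ from
        Nat.eq_of_mul_eq_mul_left hpos (hcard'.symm.trans (isComplIn_card hc').symm)]
      exact Nat.le_mul_of_pos_right _ hq.pos
    · refine le_of_eq (Nat.eq_of_mul_eq_mul_left hpos (hcard'.symm.trans ?_))
      rw [← isComplIn_card hc', card_compl FS hz]
  rcases Core.cross_le F P K.avoids P'
      (by rw [K.zone, hZ']; exact C.disjoint K.ldata.max hL'.max hconj)
      (C.avoids_probe hL'.max hZ') with h | h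
  swap
  · omega
  rw [K.e_eq] at h
  by_cases hp7 : 7 ≤ Nat.card W₂
  · have h2 := Arith.sq_mul_sq_le hp7 hq3
    have hle := Nat.le_of_dvd Nat.card_pos hVle
    have h3 := Nat.mul_le_mul h.le he'
    have e : Nat.card W₂ * Nat.card W₁ * (Nat.card W₂ * Nat.card W₁) =
        Nat.card W₂ ^ 2 * Nat.card W₁ ^ 2 := by ring
    have h4 : P'.n * P'.e < Nat.card W₂ ^ 2 * Nat.card W₁ ^ 2 := by
      rw [← e]
      refine lt_of_le_of_lt (Nat.mul_le_mul_left _ he') ?_
      exact Nat.mul_lt_mul_of_pos_right h (Nat.mul_pos hp.pos hq.pos)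
    omega
  · -- `p = 5`, `q = 3`
    have hp5' : Nat.card W₂ = 5 := by
      by_contra h5
      have h6 : Nat.card W₂ = 6 := by omega
      rw [h6] at hp
      norm_num at hp
    have hq3' : Nat.card W₁ = 3 := by
      have := C.lt
      by_contra h3
      have h4 : Nat.card W₁ = 4 := by omega
      rw [h4] at hq
      norm_num at hq
    have hu : Nat.card U = Arith.geo (Nat.card W₂) (Nat.card W₁) := by
      rcases C.card_U with e | ⟨e, -⟩
      · exact e
      · rw [hp5', hq3'] at e; omega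
    obtain ⟨j, hj⟩ := K.u_dvd
    have huq : Nat.card U ≡ 1 [MOD Nat.card W₁] := by
      rw [hXN, Nat.ModEq, Nat.add_comm, Nat.add_mul_mod_self_left]
    have hjge := Arith.quot_ge_max hp hq (hp.odd_of_ne_two FS.p_ne_two)
      (hq.odd_of_ne_two FS.q_ne_two) C.lt hu huq K.card_h K.odd_h hj hHU
    have hvv := C.card_V
    have hh := K.card_h
    rw [hj] at hh
    rw [hp5', hq3'] at hu hvv hjge hh
    rw [hp5'] at hX'N
    rw [show Arith.geo 5 3 = 31 by decide] at hu
    rw [show Arith.geo 3 5 = 121 by decide] at hvv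
    rw [hu] at hh
    omega

end Setup

/-- The final configuration. -/
theorem finalConfig_of (I : Inputs G) :
    Final.FinalConfig G := by
  intro S T W₁ W₂ U V hS hT hSP hTP hST hII hS25 hT25 hlt
  have h : Pair S T W₁ W₂ U V := ⟨hS, hT, hSP, hTP, hST, hII, hS25, hT25⟩
  have C := exists_ctx I h hlt
  have FS := C.factsS
  have FT := C.factsT
  obtain ⟨L, P, y, K⟩ := C.exists_setup
  obtain ⟨hy, hu⟩ := K.finish (K.normal)
  have hp2 : 2 ≤ Nat.card W₂ := FS.p_prime.two_le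
  obtain ⟨-, -, hPe, hPc, -⟩ := I.pair S T W₁ W₂ U V h
  obtain ⟨-, -, hQe, -, -⟩ := I.pair T S W₂ W₁ V U h.symm
  refine ⟨FS.q_prime, FS.p_prime, hPe, hPc, C.galS.cyclic, (Arith.eq_geo_iff hp2).2 hu,
    C.galS.fpf, ?_, FS.U_le.trans (fittingHallOf_normal S), ?_, hQe,
    FT.W₁_le.trans (fittingHallOf_normal T), y, K.y_mem, hy, C.galS.field⟩
  · rw [Arith.geo_eq_div hp2, ← hu]
    exact C.galS.coprime
  · rw [FT.P_card]
    exact Nat.Coprime.pow_left _ ((Nat.coprime_primes FS.q_prime FS.p_prime).2 FS.p_ne_q.symm)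

end Cfsg.Agent.Lib.OddOrder.PF14
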