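import Cfsg.Agent.Lib.OddOrder.TypeOne
import Cfsg.Agent.Lib.OddOrder.PF14.Special
import Cfsg.Agent.Lib.OddOrder.PF14.Zones
import Cfsg.Agent.Lib.OddOrder.PF13.A0
import Cfsg.Agent.Lib.OddOrder.PF12.Coherent

/-!
# Peterfalvi 14: with both sides in the Galois case nothing supports anything

`A(M) = A₁(M)` for every maximal subgroup of type I or II, so every centraliser of an element of
`A₁(M)` lies in `M`: the sets `Ã₁(M)` are unions of conjugates, disjoint for non-conjugate subgroups,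
and with the conjugates of `W₁W₂ - (W₁ ∪ W₂)` they cover `G - 1`.
-/

set_option autoImplicit false

open scoped commutatorElement Pointwise

namespace Cfsg.Agent.Lib.OddOrder.PF14

open Cfsg.Agent.Lib.OddOrder.Basic
open Cfsg.Agent.Lib.OddOrder.PF13 (Facts)
open Interface.PF8 (cyclicSet)

universe u

variable {G : Type u} [Group G] [Fintype G] {S T W₁ W₂ U V : Subgroup G}

/-- The situation after the exceptional shape is excluded. -/
structure Ctx (S T W₁ W₂ U V : Subgroup G) : Prop where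
  inputs : Inputs G
  pair : Pair S T W₁ W₂ U V
  lt : Nat.card W₁ < Nat.card W₂
  galS : GaloisData S W₁ U W₂
  galT : GaloisData T W₂ V W₁
  card_U : Nat.card U = Arith.geo (Nat.card W₂) (Nat.card W₁) ∨
    (Nat.card W₁ ∣ Nat.card W₂ - 1 ∧
      Nat.card U * Nat.card W₁ = Arith.geo (Nat.card W₂) (Nat.card W₁))
  card_V : Nat.card V = Arith.geo (Nat.card W₁) (Nat.card W₂)

theorem exists_ctx (I : Inputs G) (h : Pair S T W₁ W₂ U V) (hlt : Nat.card W₁ < Nat.card W₂) :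
    Ctx S T W₁ W₂ U V := by
  obtain ⟨hv, hT, hS | ⟨k, K₁, hN, hq, hk, hu⟩⟩ := shape I h hlt
  · exact ⟨I, h, hlt, hS.1, hT, hS.2, hv⟩
  · exact (special_false I h hlt hN hq hk hu).elim

theorem typeCore_II {M A B C : Subgroup G} (hM : IsCoatom M) (hP : Cfsg.IsTypePWith M A B C)
    (h : Cfsg.IsOfTypeII M) :
    Cfsg.typeCore M = Cfsg.fittingHallOf M := by
  exact (PF8.TypeP.step_8_5.typeII M hM A B C hP h).2.2.2.2.2.2.2.2.2.2

omit [Fintype G] in
theorem typeCore_III {M : Subgroup G} (h : Cfsg.IsOfTypeIII M) : Cfsg.typeCore M = ⁅M, M⁆ := by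
  rw [Cfsg.typeCore, if_pos (Or.inl h)]

/-- For a side of type II in the Galois case `A(S) = P - 1`. -/
theorem typeA_side {S W₁ U W₂ : Subgroup G} (F : Facts S W₁ U W₂) (hgal : GaloisData S W₁ U W₂)
    (hII : Cfsg.IsOfTypeII S) : Cfsg.Agent.Lib.OddOrder.TypeOne.typeA S = Cfsg.typeA1 S := by
  have hcore := typeCore_II F.maxS F.typeP hII
  rw [Cfsg.Agent.Lib.OddOrder.TypeOne.typeA, if_neg (PF8.TypeP.not_typeI (PF8.TypeP.isOfTypeP_of (Or.inl hII))), Cfsg.typeA1,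
    hcore]
  ext a
  simp only [Set.mem_setOf_eq, Set.mem_sdiff, SetLike.mem_coe, Set.mem_singleton_iff]
  constructor
  · rintro ⟨ha, ha1, x, hx, hx1, hax⟩
    obtain ⟨b, hb, v, hv, rfl⟩ := F.typeP.U_compl.2.2.2 a ha
    refine ⟨?_, ha1⟩
    by_cases hv1 : v = 1
    · rwa [hv1, mul_one]
    refine absurd (hgal.fpf v hv hv1 x hx (mul_left_cancel (a := b) ?_)) hx1
    rw [← mul_assoc, hax, ← mul_assoc, F.P_comm x hx b hb, mul_assoc]
  · rintro ⟨ha, ha1⟩
    exact ⟨F.P_le_derived ha, ha1, a, ha, ha1, rfl⟩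

namespace Ctx

variable (C : Ctx S T W₁ W₂ U V)
include C

theorem factsS : Facts S W₁ U W₂ := facts C.inputs C.pair

theorem factsT : Facts T W₂ V W₁ := facts C.inputs C.pair.symm

theorem hG : Cfsg.IsMinSimpleOddOrder G := C.inputs.minSimple

theorem typeII_S : Cfsg.IsOfTypeII S := (C.inputs.pair S T W₁ W₂ U V C.pair).2.1 C.lt

theorem types_T : Cfsg.IsOfTypeII T ∨ Cfsg.IsOfTypeIII T :=
  (C.inputs.pair T S W₂ W₁ V U C.pair.symm).1

theorem typeCore_S : Cfsg.typeCore S = Cfsg.fittingHallOf S :=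
  typeCore_II C.pair.maxS C.pair.dataS C.typeII_S

theorem typeA1_S : Cfsg.typeA1 S = hSet (Cfsg.fittingHallOf S) := by
  rw [Cfsg.typeA1, C.typeCore_S]; rfl

/-- `A = A₁` for every maximal subgroup of type I or II. -/
theorem typeA_eq {L : Subgroup G} (hL : IsCoatom L)
    (h : Cfsg.Agent.Lib.OddOrder.TypeOne.IsTypeI L ∨ Cfsg.IsOfTypeII L) : Cfsg.Agent.Lib.OddOrder.TypeOne.typeA L = Cfsg.typeA1 L := by
  by_cases hI : Cfsg.Agent.Lib.OddOrder.TypeOne.IsTypeI L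
  · rw [PF12.Coherent.typeA_eq hI (C.inputs.frobenius L hL hI), Cfsg.typeA1,
      PF13.typeCore_of_typeI hI]
  have hII := h.resolve_left hI
  have key : ∀ {X A B D : Subgroup G}, Facts X A B D → GaloisData X A B D →
      (∀ g : G, L = X.map (MulAut.conj g).toMonoidHom → Cfsg.Agent.Lib.OddOrder.TypeOne.typeA L = Cfsg.typeA1 L) := by
    intro X A B D F gal g e
    have hX : Cfsg.IsOfTypeII X := by
      have := PF8.Conj.isOfTypeII_im (φ := (MulAut.conj g).symm) hII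
      rwa [e, show PF8.Conj.im (MulAut.conj g).symm (X.map (MulAut.conj g).toMonoidHom) = X from
        PF8.Conj.im_symm_im _ X] at this
    have hA := typeA_side F gal hX
    ext y
    obtain ⟨x, rfl⟩ : ∃ x, MulAut.conj g x = y := ⟨_, (MulAut.conj g).apply_symm_apply y⟩
    rw [e]
    exact Iff.trans (PF8.Conj.mem_typeA_im (φ := MulAut.conj g))
      (Iff.trans (Set.ext_iff.1 hA x) (Iff.symm (PF8.Conj.mem_typeA1_im (φ := MulAut.conj g))))
  rcases (typeI_or_conj C.inputs C.pair hL).resolve_left hI with ⟨g, e | e⟩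
  · exact key C.factsS C.galS g e
  · exact key C.factsT C.galT g e

/-- Centralisers of elements of `A₁(M)` lie in `M`. -/
theorem centralizer_le {M : Subgroup G} (hM : IsCoatom M) {x : G} (hx : x ∈ Cfsg.typeA1 M) :
    Subgroup.centralizer ({x} : Set G) ≤ M := by
  by_contra hn
  have hxA := PF8.Dade.typeA1_subset C.inputs.bg16 hM hx
  obtain ⟨-, huniq, hemb⟩ := C.inputs.bg16.embed M hM _ (Or.inl rfl)
  obtain ⟨L, hL, hcL⟩ := (huniq x hxA hn).2.exists
  obtain ⟨-, -, -, -, ⟨h1, h2⟩, htype, -⟩ := hemb x hxA hn L hL hcL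
  exact h2 (C.typeA_eq hL htype ▸ h1)

theorem tildeOf_eq {M : Subgroup G} (hM : IsCoatom M) :
    Cfsg.tildeOf M (Cfsg.typeA1 M) = conjSet (Cfsg.typeA1 M) := by
  ext g
  constructor
  · rintro ⟨a, ha, r, hr, y, rfl⟩
    rw [PF8.Dade.supportR_eq_bot (C.centralizer_le hM ha), Subgroup.mem_bot] at hr
    exact ⟨y, a, ha, by rw [hr, mul_one]⟩
  · rintro ⟨y, a, ha, rfl⟩
    exact ⟨a, ha, 1, one_mem _, y, by rw [mul_one]⟩

/-- The sets of non-conjugate subgroups are disjoint. -/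
theorem disjoint {M N : Subgroup G} (hM : IsCoatom M) (hN : IsCoatom N)
    (h : ∀ g : G, N.map (MulAut.conj g).toMonoidHom ≠ M) :
    Disjoint (conjSet (Cfsg.typeA1 M)) (conjSet (Cfsg.typeA1 N)) := by
  rw [← C.tildeOf_eq hM, ← C.tildeOf_eq hN, Set.disjoint_iff_inter_eq_empty]
  exact C.inputs.s18.disjoint M N hM hN h

theorem cyclic_disjoint {N : Subgroup G} (hN : IsCoatom N) :
    Disjoint (conjSet (cyclicSet G W₁ W₂)) (conjSet (Cfsg.typeA1 N)) := by
  rw [← C.tildeOf_eq hN, Set.disjoint_left]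
  rintro _ ⟨y, z, hz, rfl⟩
  exact (C.inputs.s18.cover_typeP S W₁ U W₂ C.pair.maxS C.pair.dataS).2 N hN y z hz

theorem avoids {N : Subgroup G} (hN : IsCoatom N) {w : ↥(W₁ ⊔ W₂)} (h1 : (w : G) ∉ W₁)
    (h2 : (w : G) ∉ W₂) : (w : G) ∉ conjSet (Cfsg.typeA1 N) :=
  Set.disjoint_left.1 (C.cyclic_disjoint hN) (mem_conjSet_self ⟨w.2, h1, h2⟩)

theorem side_disjoint {N : Subgroup G} (hN : IsCoatom N)
    (h : ∀ g : G, N.map (MulAut.conj g).toMonoidHom ≠ S) :
    Disjoint (sideZone (Cfsg.fittingHallOf S) W₁ W₂) (conjSet (Cfsg.typeA1 N)) := by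
  refine Disjoint.union_left ?_ (C.cyclic_disjoint hN)
  rw [← C.typeA1_S]
  exact C.disjoint C.pair.maxS hN h

theorem cover {g : G} (hg : g ≠ 1) :
    g ∈ conjSet (cyclicSet G W₁ W₂) ∨ ∃ N, IsCoatom N ∧ g ∈ conjSet (Cfsg.typeA1 N) := by
  rcases (C.inputs.s18.cover_typeP S W₁ U W₂ C.pair.maxS C.pair.dataS).1 g hg with ⟨N, hN, h⟩ | h
  · exact Or.inr ⟨N, hN, C.tildeOf_eq hN ▸ h⟩
  · exact Or.inl h

/-- `A₁(M)` is a TI-set with normalizer `M`. -/
theorem ti_core {M : Subgroup G} (hM : IsCoatom M) : TIKernel (Cfsg.typeCore M) M := by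
  intro g x hx hx1 hgx
  have hxA : x ∈ Cfsg.typeA1 M := ⟨hx, hx1⟩
  have hgA : g * x * g⁻¹ ∈ Cfsg.typeA1 M := ⟨hgx, fun e => hx1 (conj_eq_one_iff.1 e)⟩
  obtain ⟨m, hm, e⟩ := (C.inputs.bg16.embed M hM _ (Or.inl rfl)).1 x
    (PF8.Dade.typeA1_subset C.inputs.bg16 hM hxA) g (PF8.Dade.typeA1_subset C.inputs.bg16 hM hgA)
  have hc : m⁻¹ * g ∈ Subgroup.centralizer ({x} : Set G) := by
    refine Cfsg.Agent.Lib.Isometry.TI.mem_centralizer_of_conj_eq ?_
    calc m⁻¹ * g * x * (m⁻¹ * g)⁻¹ = m⁻¹ * (g * x * g⁻¹) * m := by group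
      _ = m⁻¹ * (m * x * m⁻¹) * m := by rw [e]
      _ = x := by group
  have := mul_mem hm (C.centralizer_le hM hxA hc)
  rwa [mul_inv_cancel_left] at this

theorem ti_typeI {M : Subgroup G} (hM : IsCoatom M) (hI : Cfsg.Agent.Lib.OddOrder.TypeOne.IsTypeI M) :
    TIKernel (Cfsg.fittingHallOf M) M := by
  have := C.ti_core hM
  rwa [PF13.typeCore_of_typeI hI] at this

theorem typeA1_typeI {M : Subgroup G} (hI : Cfsg.Agent.Lib.OddOrder.TypeOne.IsTypeI M) :
    Cfsg.typeA1 M = hSet (Cfsg.fittingHallOf M) := by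
  rw [Cfsg.typeA1, PF13.typeCore_of_typeI hI]; rfl

end Ctx

end Cfsg.Agent.Lib.OddOrder.PF14
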