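import Cfsg.Agent.Lib.OddOrder.PF14.Vec

/-!
# Peterfalvi 14: inner products with a cyclic TI family

For a generalized character vanishing on `W₁W₂ - (W₁ ∪ W₂)` the table of inner products with the
family is the sum of its first row and its first column.
-/

set_option autoImplicit false
set_option linter.style.haveILetI false

namespace Cfsg.Agent.Lib.OddOrder.PF14.Table

open Cfsg.Agent.Lib.Isometry.Inner
open Cfsg.Agent.Lib.CyclicTI (IsP IsQ)
open Vec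

universe u

variable {G : Type u} [Group G] {W₁ W₂ : Subgroup G}

local notation "Gen" => Cfsg.IsGeneralizedCharacter G

/-- `f` vanishes on `W₁W₂ - (W₁ ∪ W₂)`. -/
def Vanishes (W₁ W₂ : Subgroup G) (f : G → ℂ) : Prop :=
  ∀ w : ↥(W₁ ⊔ W₂), (w : G) ∉ W₁ → (w : G) ∉ W₂ → f w = 0

theorem Vanishes.sub {f g : G → ℂ} (hf : Vanishes W₁ W₂ f) (hg : Vanishes W₁ W₂ g) :
    Vanishes W₁ W₂ (f - g) := fun w h1 h2 => by rw [Pi.sub_apply, hf w h1 h2, hg w h1 h2, sub_zero]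

variable [Fintype G]

/-- The hypotheses on the family. -/
structure Fam (W₁ W₂ : Subgroup G) (η : (↥(W₁ ⊔ W₂) →* ℂˣ) → G → ℂ) : Prop where
  selfNormalizing : Cfsg.IsSelfNormalizingCyclic W₁ W₂
  family : Cfsg.IsCyclicTIFamily W₁ W₂ η
  odd : Odd (Nat.card G)

/-- The characters of `W` killing `W₂`. -/
noncomputable def pSet (W₁ W₂ : Subgroup G) : Finset (↥(W₁ ⊔ W₂) →* ℂˣ) :=
  haveI := CyclicTI.finite_hom (W₁ := W₁) (W₂ := W₂)
  {φ : ↥(W₁ ⊔ W₂) →* ℂˣ | IsP φ}.toFinite.toFinset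

/-- The characters of `W` killing `W₁`. -/
noncomputable def qSet (W₁ W₂ : Subgroup G) : Finset (↥(W₁ ⊔ W₂) →* ℂˣ) :=
  haveI := CyclicTI.finite_hom (W₁ := W₁) (W₂ := W₂)
  {φ : ↥(W₁ ⊔ W₂) →* ℂˣ | IsQ φ}.toFinite.toFinset

theorem mem_pSet {φ : ↥(W₁ ⊔ W₂) →* ℂˣ} : φ ∈ pSet W₁ W₂ ↔ IsP φ := by simp [pSet]

theorem mem_qSet {φ : ↥(W₁ ⊔ W₂) →* ℂˣ} : φ ∈ qSet W₁ W₂ ↔ IsQ φ := by simp [qSet]

variable {η : (↥(W₁ ⊔ W₂) →* ℂˣ) → G → ℂ} (F : Fam W₁ W₂ η)
include F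

theorem card_pSet : (pSet W₁ W₂).card = Nat.card W₁ := by
  classical
  haveI := CyclicTI.finite_hom (W₁ := W₁) (W₂ := W₂)
  haveI := Fintype.ofFinite (↥(W₁ ⊔ W₂) →* ℂˣ)
  rw [← CyclicTI.card_isP F.selfNormalizing]
  congr 1
  ext φ
  simp [mem_pSet]

theorem card_qSet : (qSet W₁ W₂).card = Nat.card W₂ := by
  classical
  haveI := CyclicTI.finite_hom (W₁ := W₁) (W₂ := W₂)
  haveI := Fintype.ofFinite (↥(W₁ ⊔ W₂) →* ℂˣ)
  rw [← CyclicTI.card_isQ F.selfNormalizing]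
  congr 1
  ext φ
  simp [mem_qSet]

theorem gen (ω : ↥(W₁ ⊔ W₂) →* ℂˣ) : Gen (η ω) := gen_of_signed (F.family.irr_or_neg ω)

theorem co_self (ω : ↥(W₁ ⊔ W₂) →* ℂˣ) : co (η ω) (η ω) = 1 :=
  co_eq_one (by rw [F.family.orthonormal, if_pos rfl])

theorem co_ne {ω ω' : ↥(W₁ ⊔ W₂) →* ℂˣ} (h : ω ≠ ω') : co (η ω) (η ω') = 0 :=
  co_eq_zero (by rw [F.family.orthonormal, if_neg h])

theorem co_ite [DecidableEq (↥(W₁ ⊔ W₂) →* ℂˣ)] (ω ω' : ↥(W₁ ⊔ W₂) →* ℂˣ) :
    co (η ω) (η ω') = if ω = ω' then 1 else 0 := by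
  split_ifs with h
  · rw [h, co_self F]
  · exact co_ne F h

/-- Complex conjugation inverts the parameter. -/
theorem conj_eta (ω : ↥(W₁ ⊔ W₂) →* ℂˣ) : Cfsg.conjFun (η ω) = η ω⁻¹ := by
  obtain ⟨m, hm⟩ : ∃ m, Nat.card G = m + 1 := ⟨Nat.card G - 1, by have := Nat.card_pos (α := G); omega⟩
  have hc : m.Coprime (Nat.card G) := by rw [hm]; simp
  have hkl : m * m ≡ 1 [MOD Nat.card G] := by
    rw [hm, Nat.modEq_iff_dvd]
    exact ⟨1 - (m : ℤ), by push_cast; ring⟩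
  have hodd : Odd (Nat.card ↥(W₁ ⊔ W₂)) := F.odd.of_dvd_nat (Subgroup.card_subgroup_dvd_card _)
  funext g
  have h := CyclicTI.family_pow F.selfNormalizing hodd F.family hc hkl ω g
  have hωm : ω ^ m = ω⁻¹ := by
    ext w
    have h1 : ω w ^ (m + 1) = 1 := by
      rw [← map_pow, show w ^ (m + 1) = 1 from Subtype.ext (by
        rw [← hm]; push_cast; exact pow_card_eq_one'), map_one]
    rw [show (ω ^ m) w = ω w ^ m from rfl, show (ω⁻¹) w = (ω w)⁻¹ from rfl,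
      (eq_inv_of_mul_eq_one_left ((pow_succ (ω w) m).symm.trans h1) : ω w ^ m = (ω w)⁻¹)]
  have hgm : g ^ m = g⁻¹ := eq_inv_of_mul_eq_one_left (by rw [← pow_succ, ← hm, pow_card_eq_one'])
  rw [hωm, hgm] at h
  rw [Cfsg.conjFun, ← h]
  rcases F.family.irr_or_neg ω⁻¹ with hi | hi
  · rw [Characters.Basic.apply_inv (Characters.Basic.IsCharacter_of_isIrrCharacter hi), starRingEnd_self_apply]
  · have := Characters.Basic.apply_inv (Characters.Basic.IsCharacter_of_isIrrCharacter hi) g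
    rw [Pi.neg_apply, Pi.neg_apply, map_neg, neg_inj] at this
    rw [this, starRingEnd_self_apply]

theorem inv_ne {ω : ↥(W₁ ⊔ W₂) →* ℂˣ} (h : ω ≠ 1) : ω⁻¹ ≠ ω := by
  intro e
  refine h (MonoidHom.ext fun w => ?_)
  have h1 : ω w * ω w = 1 := by
    have := DFunLike.congr_fun e w
    rw [show (ω⁻¹) w = (ω w)⁻¹ from rfl] at this
    nth_rewrite 1 [← this]
    exact inv_mul_cancel _
  have hodd : Odd (orderOf (ω w)) :=
    (F.odd.of_dvd_nat (Subgroup.card_subgroup_dvd_card (W₁ ⊔ W₂))).of_dvd_nat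
      ((orderOf_map_dvd ω w).trans (orderOf_dvd_natCard w))
  have h2 : orderOf (ω w) ∣ 2 := orderOf_dvd_iff_pow_eq_one.2 (by rw [pow_two, h1])
  rcases (Nat.dvd_prime Nat.prime_two).1 h2 with h3 | h3
  · simpa using orderOf_eq_one_iff.1 h3
  · rw [h3] at hodd; exact absurd hodd (by decide)

/-- The table of a generalized character vanishing off the factors. -/
theorem table {f : G → ℂ} (hf : Gen f) (hV : Vanishes W₁ W₂ f) {φ ψ : ↥(W₁ ⊔ W₂) →* ℂˣ}
    (hP : IsP φ) (hQ : IsQ ψ) :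
    co f (η (φ * ψ)) + co f (fun _ => 1) = co f (η φ) + co f (η ψ) := by
  have h := CyclicTI.coef_relation F.selfNormalizing F.family (gen_classFun hf) hV hP hQ
  rw [F.family.map_one, co_spec hf (gen F _), co_spec hf gen_one, co_spec hf (gen F _),
    co_spec hf (gen F _)] at h
  exact_mod_cast h

theorem pair_inj {x y : (↥(W₁ ⊔ W₂) →* ℂˣ) × (↥(W₁ ⊔ W₂) →* ℂˣ)}
    (hx : x ∈ pSet W₁ W₂ ×ˢ qSet W₁ W₂) (hy : y ∈ pSet W₁ W₂ ×ˢ qSet W₁ W₂)
    (h : x.1 * x.2 = y.1 * y.2) : x = y := by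
  rw [Finset.mem_product, mem_pSet, mem_qSet] at hx hy
  obtain ⟨h1, h2⟩ := CyclicTI.pair_inj hx.1 hy.1 hx.2 hy.2 h
  exact Prod.ext h1 h2

theorem ne_one_mul {φ ψ : ↥(W₁ ⊔ W₂) →* ℂˣ} (hP : IsP φ) (hQ : IsQ ψ) (hφ : φ ≠ 1)
    {χ : ↥(W₁ ⊔ W₂) →* ℂˣ} (hχ : IsQ χ) : φ * ψ ≠ χ := fun e =>
  hφ (CyclicTI.pair_inj hP CyclicTI.isP_one hQ hχ (e.trans (by ext; simp))).1

theorem three_le₁ : 3 ≤ Nat.card W₁ :=
  CyclicTI.three_le_card F.selfNormalizing.1 (F.odd.of_dvd_nat (Subgroup.card_subgroup_dvd_card _))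

theorem three_le₂ : 3 ≤ Nat.card W₂ :=
  CyclicTI.three_le_card F.selfNormalizing.2.1 (F.odd.of_dvd_nat (Subgroup.card_subgroup_dvd_card _))

/-- The whole table is bounded by the norm. -/
theorem bessel_table {f : G → ℂ} (hf : Gen f) :
    ∑ x ∈ pSet W₁ W₂ ×ˢ qSet W₁ W₂, co f (η (x.1 * x.2)) ^ 2 ≤ co f f :=
  bessel_one (pSet W₁ W₂ ×ˢ qSet W₁ W₂)
    (fun x : (↥(W₁ ⊔ W₂) →* ℂˣ) × (↥(W₁ ⊔ W₂) →* ℂˣ) => η (x.1 * x.2)) hf
    (fun x _ => gen F (x.1 * x.2)) (fun x _ => co_self F (x.1 * x.2))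
    fun x hx y hy hne => co_ne F fun e => hne (pair_inj F hx hy e)

/-- A norm-two generalized character orthogonal to `1` and vanishing off the factors is orthogonal to
the family. -/
theorem eta_orth {E : G → ℂ} (hE : Gen E) (hV : Vanishes W₁ W₂ E) (h2 : co E E ≤ 2)
    (h1 : co E (fun _ => 1) = 0) (ω : ↥(W₁ ⊔ W₂) →* ℂˣ) : co E (η ω) = 0 := by
  classical
  have hb := (bessel_table F hE).trans h2
  have hrc : ∀ x ∈ pSet W₁ W₂ ×ˢ qSet W₁ W₂,
      co E (η (x.1 * x.2)) = co E (η x.1) + co E (η x.2) := fun x hx => by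
    rw [Finset.mem_product, mem_pSet, mem_qSet] at hx
    have := table F hE hV hx.1 hx.2
    rw [h1, add_zero] at this
    exact this
  rw [Finset.sum_congr rfl fun x hx => by rw [hrc x hx]] at hb
  have hη1 : co E (η 1) = 0 := by rw [F.family.map_one]; exact h1
  have hr : ∀ φ ∈ pSet W₁ W₂, co E (η φ) = 0 := by
    intro φ hφ
    by_contra hne
    have hφ1 : φ ≠ 1 := fun e => hne (e ▸ hη1)
    rw [Finset.sum_product_right] at hb
    have hle : ∀ ψ ∈ qSet W₁ W₂,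
        (1 : ℤ) ≤ ∑ φ' ∈ pSet W₁ W₂, (co E (η φ') + co E (η ψ)) ^ 2 := by
      intro ψ _
      refine le_trans ?_ (Finset.sum_le_sum_of_subset_of_nonneg
        (Finset.insert_subset hφ (Finset.singleton_subset_iff.2 (mem_pSet.2 CyclicTI.isP_one)))
        (fun _ _ _ => sq_nonneg _))
      rw [Finset.sum_pair hφ1, hη1, zero_add]
      have : 0 < (co E (η φ) + co E (η ψ)) ^ 2 + co E (η ψ) ^ 2 := by
        by_contra hc
        rw [not_lt] at hc
        have hs : co E (η ψ) = 0 := by nlinarith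
        rw [hs, add_zero] at hc
        exact hne (by nlinarith)
      omega
    have := (Finset.sum_le_sum hle).trans hb
    rw [Finset.sum_const, nsmul_eq_mul, mul_one, card_qSet F] at this
    have := three_le₂ F
    omega
  have hc : ∀ ψ ∈ qSet W₁ W₂, co E (η ψ) = 0 := by
    intro ψ hψ
    by_contra hne
    rw [Finset.sum_product] at hb
    have hle : ∀ φ ∈ pSet W₁ W₂,
        (1 : ℤ) ≤ ∑ ψ' ∈ qSet W₁ W₂, (co E (η φ) + co E (η ψ')) ^ 2 := by
      intro φ hφ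
      refine le_trans ?_ (Finset.single_le_sum (fun _ _ => sq_nonneg _) hψ)
      rw [hr φ hφ, zero_add]
      have : 0 < co E (η ψ) ^ 2 := by positivity
      omega
    have := (Finset.sum_le_sum hle).trans hb
    rw [Finset.sum_const, nsmul_eq_mul, mul_one, card_pSet F] at this
    have := three_le₁ F
    omega
  obtain ⟨φ, ψ, hP, hQ, rfl⟩ := CyclicTI.exists_decomp F.selfNormalizing ω
  rw [hrc (φ, ψ) (Finset.mem_product.2 ⟨mem_pSet.2 hP, mem_qSet.2 hQ⟩), hr φ (mem_pSet.2 hP),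
    hc ψ (mem_qSet.2 hQ), add_zero]

/-- A unit vector orthogonal to its conjugate whose difference with it vanishes off the factors is
orthogonal to the family. -/
theorem member_orth {χ : G → ℂ} (hχ : Gen χ) (h1 : co χ χ = 1)
    (hc : co χ (Cfsg.conjFun χ) = 0) (hV : Vanishes W₁ W₂ (χ - Cfsg.conjFun χ))
    (ω : ↥(W₁ ⊔ W₂) →* ℂˣ) : co χ (η ω) = 0 := by
  have hχc := gen_conjFun hχ
  by_cases hω : ω = 1
  · subst hω
    rw [co_comm hχ (gen F _)]
    exact orth_of_real hχ h1 hc (gen F _) (co_self F _) (by rw [F.family.map_one, conjFun_one])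
  refine (orth_of_diff hχ (gen F ω) h1 (co_self F _) ?_ ?_).1
  · rw [conj_eta F]; exact co_ne F (inv_ne F hω).symm
  · have hE := gen_sub hχ hχc
    have h2 : co (χ - Cfsg.conjFun χ) (χ - Cfsg.conjFun χ) = 2 := by
      rw [co_sub_left hχ hχc hE, co_sub_right hχ hχ hχc, co_sub_right hχc hχ hχc, co_conj hχ hχ,
        co_comm hχc hχ, h1, hc]
      norm_num
    have h0 : co (χ - Cfsg.conjFun χ) (fun _ => 1) = 0 := by
      rw [co_sub_left hχ hχc gen_one]
      have := co_conj hχ gen_one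
      rw [conjFun_one] at this
      rw [this, sub_self]
    rw [conj_eta F, co_sub_right hE (gen F _) (gen F _), eta_orth F hE hV h2.le h0,
      eta_orth F hE hV h2.le h0, sub_self]

/-- A norm-two generalized character orthogonal to `1` which agrees with `η a - η b` off the factors
equals it. -/
theorem eq_eta_sub {E : G → ℂ} (hE : Gen E) (h2 : co E E = 2) (h1 : co E (fun _ => 1) = 0)
    {a b : ↥(W₁ ⊔ W₂) →* ℂˣ} (ha : IsQ a) (hb : IsQ b) (ha1 : a ≠ 1) (hb1 : b ≠ 1) (hab : a ≠ b)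
    (hV : Vanishes W₁ W₂ (E - (η a - η b))) : E = η a - η b := by
  classical
  have hd := gen_sub (gen F a) (gen F b)
  have hone : co (η a - η b) (fun _ => 1) = 0 := by
    rw [← F.family.map_one, co_sub_left (gen F a) (gen F b) (gen F 1), co_ne F ha1, co_ne F hb1,
      sub_self]
  set adj : (↥(W₁ ⊔ W₂) →* ℂˣ) → ℤ := fun ψ => co (η a - η b) (η ψ) with hadj
  have hcell : ∀ φ ∈ pSet W₁ W₂, φ ≠ 1 → ∀ ψ ∈ qSet W₁ W₂,
      co E (η (φ * ψ)) = co E (η φ) + (co E (η ψ) - adj ψ) := by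
    intro φ hφ hφ1 ψ hψ
    rw [mem_pSet] at hφ
    rw [mem_qSet] at hψ
    have h := table F (gen_sub hE hd) hV hφ hψ
    rw [co_sub_left hE hd (gen F _), co_sub_left hE hd gen_one, co_sub_left hE hd (gen F _),
      co_sub_left hE hd (gen F _), h1, hone, co_sub_left (gen F a) (gen F b) (gen F _),
      co_ne F (ne_one_mul F hφ hψ hφ1 ha).symm, co_ne F (ne_one_mul F hφ hψ hφ1 hb).symm,
      co_sub_left (gen F a) (gen F b) (gen F φ)] at h
    have e1 : ∀ χ, IsQ χ → χ ≠ φ := fun χ hχ e => hφ1 (CyclicTI.isP_isQ_eq hφ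
      (e ▸ hχ) rfl)
    rw [co_ne F (e1 a ha), co_ne F (e1 b hb)] at h
    simp only [hadj]
    linarith
  have hb0 := (bessel_table F hE).trans h2.le
  rw [Finset.sum_product, ← Finset.add_sum_erase _ _ (mem_pSet.2 (CyclicTI.isP_one (W₁ := W₁)
    (W₂ := W₂)))] at hb0
  rw [Finset.sum_congr rfl fun (ψ : ↥(W₁ ⊔ W₂) →* ℂˣ) _ => by
    rw [show (1 : ↥(W₁ ⊔ W₂) →* ℂˣ) * ψ = ψ by ext; simp]] at hb0
  have hd0 : ∀ ψ ∈ qSet W₁ W₂, co E (η ψ) - adj ψ = 0 := by
    intro ψ₀ hψ₀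
    by_contra hne
    have hψ₀1 : ψ₀ ≠ 1 := by
      rintro rfl
      apply hne
      simp only [hadj, F.family.map_one, h1, hone, sub_zero]
    have hrow : ∀ φ ∈ (pSet W₁ W₂).erase 1, ∀ S ⊆ qSet W₁ W₂,
        ∑ ψ ∈ S, (co E (η φ) + (co E (η ψ) - adj ψ)) ^ 2 ≤
          ∑ ψ ∈ qSet W₁ W₂, co E (η (φ * ψ)) ^ 2 := by
      intro φ hφ S hS
      rw [Finset.sum_congr rfl fun ψ hψ => by
        rw [← hcell φ (Finset.mem_of_mem_erase hφ) (Finset.ne_of_mem_erase hφ) ψ (hS hψ)]]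
      exact Finset.sum_le_sum_of_subset_of_nonneg hS fun _ _ _ => sq_nonneg _
    have h11 : co E (η 1) - adj 1 = 0 := by
      simp only [hadj, F.family.map_one, h1, hone, sub_zero]
    have hone' : (1 : ↥(W₁ ⊔ W₂) →* ℂˣ) ∈ qSet W₁ W₂ := mem_qSet.2 CyclicTI.isQ_one
    have hcard : ((pSet W₁ W₂).erase 1).card = Nat.card W₁ - 1 := by
      rw [Finset.card_erase_of_mem (mem_pSet.2 CyclicTI.isP_one), card_pSet F]
    have := three_le₁ F
    by_cases hrow1 : ∀ ψ ∈ qSet W₁ W₂, co E (η ψ) = 0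
    · have hmin : ∀ φ ∈ (pSet W₁ W₂).erase 1, (2 : ℤ) ≤ ∑ ψ ∈ qSet W₁ W₂, co E (η (φ * ψ)) ^ 2 := by
        intro φ hφ
        refine le_trans ?_ (hrow φ hφ {1, a, b} (by
          simp [Finset.insert_subset_iff, mem_qSet, ha, hb, CyclicTI.isQ_one]))
        rw [Finset.sum_insert (by simp [ha1.symm, hb1.symm]), Finset.sum_pair hab, h11,
          hrow1 a (mem_qSet.2 ha), hrow1 b (mem_qSet.2 hb)]
        simp only [hadj, co_sub_left (gen F a) (gen F b) (gen F _), co_self F, co_ne F hab,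
          co_ne F hab.symm]
        nlinarith [sq_nonneg (co E (η φ))]
      have := (Finset.sum_le_sum hmin).trans ((le_add_of_nonneg_left
        (Finset.sum_nonneg fun _ _ => sq_nonneg _)).trans hb0)
      rw [Finset.sum_const, nsmul_eq_mul, hcard] at this
      omega
    · push Not at hrow1
      obtain ⟨ψ₁, hψ₁, hψ₁'⟩ := hrow1
      have hfirst : (1 : ℤ) ≤ ∑ ψ ∈ qSet W₁ W₂, co E (η ψ) ^ 2 := by
        refine le_trans ?_ (Finset.single_le_sum (fun _ _ => sq_nonneg _) hψ₁)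
        have : 0 < co E (η ψ₁) ^ 2 := by positivity
        omega
      have hmin : ∀ φ ∈ (pSet W₁ W₂).erase 1, (1 : ℤ) ≤ ∑ ψ ∈ qSet W₁ W₂, co E (η (φ * ψ)) ^ 2 := by
        intro φ hφ
        refine le_trans ?_ (hrow φ hφ {1, ψ₀} (by
          simp [Finset.insert_subset_iff, hψ₀, hone']))
        rw [Finset.sum_pair hψ₀1.symm, h11, add_zero]
        by_contra hc
        rw [not_le] at hc
        have hr : co E (η φ) = 0 := by nlinarith
        rw [hr, zero_add] at hc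
        exact hne (by nlinarith)
      have h3 := (add_le_add hfirst (Finset.sum_le_sum hmin)).trans hb0
      rw [Finset.sum_const, nsmul_eq_mul, mul_one, hcard] at h3
      omega
  refine eq_of_co_self_eq_zero hE hd ?_
  rw [co_sub_left (gen F a) (gen F b) hd, co_sub_right (gen F a) (gen F a) (gen F b),
    co_sub_right (gen F b) (gen F a) (gen F b), co_self F, co_self F, co_ne F hab, co_ne F hab.symm,
    co_sub_right hE (gen F a) (gen F b), h2]
  have e1 := hd0 a (mem_qSet.2 ha)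
  have e2 := hd0 b (mem_qSet.2 hb)
  simp only [hadj, co_sub_left (gen F a) (gen F b) (gen F _), co_self F, co_ne F hab,
    co_ne F hab.symm] at e1 e2
  omega

end Cfsg.Agent.Lib.OddOrder.PF14.Table
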