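import Mathlib
import Cfsg.Agent.Lib.Isometry.Coherence
import Cfsg.Agent.Lib.Characters.Indicator
import Cfsg.Agent.Lib.CyclicTI.Family

/-!
# Peterfalvi 14: integral inner products

`co f g` is the inner product of two generalized characters as an integer.  Orthogonality criteria by
Bessel's inequality, the parity of the product of two real generalized characters in a group of odd
order, and the table of inner products with a cyclic TI family.
-/

set_option autoImplicit false
set_option linter.style.haveILetI false

namespace Cfsg.Agent.Lib.OddOrder.PF14.Vec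

open scoped ComplexConjugate
open Cfsg.Agent.Lib.Isometry.Inner
open Cfsg.Agent.Lib.Induced.Basic (classInner_add_left classInner_add_right classInner_sub_left
  classInner_sub_right classInner_smul_left classInner_smul_right classInner_conj_symm)

universe u

variable {G : Type u} [Group G] [Fintype G]

/-- The inner product as an integer; meaningful for generalized characters. -/
noncomputable def co (f g : G → ℂ) : ℤ := ⌊(Cfsg.classInner f g).re⌋

local notation "Gen" => Cfsg.IsGeneralizedCharacter G

variable {f f' g g' : G → ℂ}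

theorem co_spec (hf : Gen f) (hg : Gen g) : Cfsg.classInner f g = (co f g : ℂ) := by
  obtain ⟨n, hn⟩ := classInner_gen_int hf hg
  rw [co, hn, Complex.intCast_re, Int.floor_intCast]

theorem co_eq_of_classInner {n : ℤ} (h : Cfsg.classInner f g = (n : ℂ)) : co f g = n := by
  rw [co, h, Complex.intCast_re, Int.floor_intCast]

theorem co_eq_zero (h : Cfsg.classInner f g = 0) : co f g = 0 :=
  co_eq_of_classInner (by rw [h, Int.cast_zero])

theorem co_eq_one (h : Cfsg.classInner f g = 1) : co f g = 1 :=
  co_eq_of_classInner (by rw [h, Int.cast_one])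

theorem co_comm (hf : Gen f) (hg : Gen g) : co f g = co g f := by
  rw [co, co, classInner_gen_comm hf hg]

theorem co_add_left (hf : Gen f) (hf' : Gen f') (hg : Gen g) :
    co (f + f') g = co f g + co f' g :=
  co_eq_of_classInner (by rw [classInner_add_left, co_spec hf hg, co_spec hf' hg]; push_cast; ring)

theorem co_sub_left (hf : Gen f) (hf' : Gen f') (hg : Gen g) :
    co (f - f') g = co f g - co f' g :=
  co_eq_of_classInner (by rw [classInner_sub_left, co_spec hf hg, co_spec hf' hg]; push_cast; ring)

theorem co_add_right (hf : Gen f) (hg : Gen g) (hg' : Gen g') :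
    co f (g + g') = co f g + co f g' :=
  co_eq_of_classInner (by rw [classInner_add_right, co_spec hf hg, co_spec hf hg']; push_cast; ring)

theorem co_sub_right (hf : Gen f) (hg : Gen g) (hg' : Gen g') :
    co f (g - g') = co f g - co f g' :=
  co_eq_of_classInner (by rw [classInner_sub_right, co_spec hf hg, co_spec hf hg']; push_cast; ring)

theorem co_smul_right (hf : Gen f) (hg : Gen g) (n : ℤ) : co f ((n : ℂ) • g) = n * co f g :=
  co_eq_of_classInner (by rw [classInner_smul_right, co_spec hf hg, map_intCast]; push_cast; ring)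

theorem co_conj (hf : Gen f) (hg : Gen g) :
    co (Cfsg.conjFun f) (Cfsg.conjFun g) = co f g :=
  co_eq_of_classInner (by rw [classInner_conjFun, co_spec hf hg, map_intCast])

theorem gen_one : Gen (fun _ => 1) := gen_of_irr (Characters.Basic.oneChar G).2

theorem conjFun_one : Cfsg.conjFun (fun _ : G => (1 : ℂ)) = fun _ => 1 :=
  funext fun _ => map_one _

theorem co_one_one : co (fun _ : G => (1 : ℂ)) (fun _ => 1) = 1 :=
  co_eq_one (classInner_self_signed (Or.inl (Characters.Basic.oneChar G).2))

theorem conjFun_add (f g : G → ℂ) : Cfsg.conjFun (f + g) = Cfsg.conjFun f + Cfsg.conjFun g :=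
  funext fun _ => map_add _ _ _

theorem conjFun_sub (f g : G → ℂ) : Cfsg.conjFun (f - g) = Cfsg.conjFun f - Cfsg.conjFun g :=
  funext fun _ => map_sub _ _ _

/-- Bessel's inequality for an orthogonal family with given positive norms. -/
theorem bessel_div {ι : Type*} (s : Finset ι) (e : ι → G → ℂ) (N : ι → ℤ) {v : G → ℂ} (hv : Gen v)
    (he : ∀ i ∈ s, Gen (e i)) (hN : ∀ i ∈ s, co (e i) (e i) = N i) (hpos : ∀ i ∈ s, 0 < N i)
    (horth : ∀ i ∈ s, ∀ j ∈ s, i ≠ j → co (e i) (e j) = 0) :
    ∑ i ∈ s, ((co v (e i) : ℝ) ^ 2 / (N i : ℝ)) ≤ (co v v : ℝ) := by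
  have h := Isometry.Coherence.bessel s e (fun i => (N i : ℝ)) (fun i => (co v (e i) : ℝ)) v
    (fun i hi j hj hij => by rw [co_spec (he i hi) (he j hj), horth i hi j hj hij, Int.cast_zero])
    (fun i hi => by rw [co_spec (he i hi) (he i hi), hN i hi]; simp)
    (fun i hi => by exact_mod_cast (hpos i hi).ne')
    (fun i hi => by rw [co_spec hv (he i hi)]; simp)
  have h0 := classInner_self_re_nonneg
    (v - ∑ i ∈ s, ((((co v (e i) : ℝ) / (N i : ℝ)) : ℝ) : ℂ) • e i)
  rw [h, co_spec hv hv, Complex.sub_re, Complex.intCast_re, Complex.ofReal_re] at h0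
  linarith

/-- Bessel's inequality for an orthonormal family. -/
theorem bessel_one {ι : Type*} (s : Finset ι) (e : ι → G → ℂ) {v : G → ℂ} (hv : Gen v)
    (he : ∀ i ∈ s, Gen (e i)) (hN : ∀ i ∈ s, co (e i) (e i) = 1)
    (horth : ∀ i ∈ s, ∀ j ∈ s, i ≠ j → co (e i) (e j) = 0) :
    ∑ i ∈ s, co v (e i) ^ 2 ≤ co v v := by
  have := bessel_div s e (fun _ => 1) hv he hN (fun _ _ => one_pos) horth
  simp only [Int.cast_one, div_one] at this
  exact_mod_cast this

theorem co_self_nonneg (hf : Gen f) : 0 ≤ co f f := by
  simpa using bessel_one (∅ : Finset (Fin 0)) (fun i => i.elim0) hf (by simp) (by simp) (by simp)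

theorem eq_of_co_self_eq_zero (hf : Gen f) (hg : Gen g)
    (h : co f f + co g g = 2 * co f g) : f = g := by
  refine sub_eq_zero.1 (eq_zero_of_classInner_self ?_)
  rw [co_spec (gen_sub hf hg) (gen_sub hf hg), co_sub_left hf hg (gen_sub hf hg),
    co_sub_right hf hf hg, co_sub_right hg hf hg, co_comm hg hf]
  rw [show co f f - co f g - (co f g - co g g) = 0 by omega, Int.cast_zero]

/-- Two unit vectors, each orthogonal to its conjugate, are orthogonal when the differences with
their conjugates are. -/
theorem orth_of_diff (hf : Gen f) (hg : Gen g) (hf1 : co f f = 1) (hg1 : co g g = 1)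
    (hgc : co g (Cfsg.conjFun g) = 0)
    (h : co (f - Cfsg.conjFun f) (g - Cfsg.conjFun g) = 0) :
    co f g = 0 ∧ co f (Cfsg.conjFun g) = 0 := by
  have hfc := gen_conjFun hf
  have hgc' := gen_conjFun hg
  rw [co_sub_left hf hfc (gen_sub hg hgc'), co_sub_right hf hg hgc', co_sub_right hfc hg hgc',
    co_conj hf hg] at h
  have e : co (Cfsg.conjFun f) g = co f (Cfsg.conjFun g) := by
    have := co_conj hf hgc'
    rwa [conjFun_conjFun] at this
  rw [e] at h
  have hb := bessel_one (Finset.univ : Finset Bool) (fun b => cond b g (Cfsg.conjFun g)) hf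
    (fun b _ => by cases b <;> assumption)
    (fun b _ => by cases b <;> [exact (co_conj hg hg).trans hg1; exact hg1])
    (fun a _ b _ hab => by
      cases a <;> cases b <;> simp at hab <;> dsimp only [cond]
      · rw [co_comm hgc' hg]; exact hgc
      · exact hgc)
  rw [Fintype.sum_bool, hf1] at hb
  dsimp only [cond] at hb
  have hxy : co f g = co f (Cfsg.conjFun g) := by omega
  rw [← hxy] at hb
  have : co f g = 0 := by nlinarith
  exact ⟨this, hxy ▸ this⟩

/-- A unit vector orthogonal to its conjugate is orthogonal to every real unit vector. -/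
theorem orth_of_real (hf : Gen f) (hf1 : co f f = 1) (hfc : co f (Cfsg.conjFun f) = 0) (hg : Gen g)
    (hg1 : co g g = 1) (hreal : Cfsg.conjFun g = g) : co g f = 0 := by
  have hfc' := gen_conjFun hf
  have hb := bessel_one (Finset.univ : Finset Bool) (fun b => cond b f (Cfsg.conjFun f)) hg
    (fun b _ => by cases b <;> assumption)
    (fun b _ => by cases b <;> [exact (co_conj hf hf).trans hf1; exact hf1])
    (fun a _ b _ hab => by
      cases a <;> cases b <;> simp at hab <;> dsimp only [cond]
      · rw [co_comm hfc' hf]; exact hfc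
      · exact hfc)
  rw [Fintype.sum_bool, hg1] at hb
  dsimp only [cond] at hb
  have e : co g (Cfsg.conjFun f) = co g f := by
    have := co_conj hg hf
    rwa [hreal] at this
  rw [e] at hb
  nlinarith

/-- In a group of odd order two real generalized characters have inner product congruent modulo 2 to
the product of their inner products with the principal character. -/
theorem parity (hodd : Odd (Nat.card G)) (hf : Gen f) (hg : Gen g) (hfr : Cfsg.conjFun f = f)
    (hgr : Cfsg.conjFun g = g) :
    (co f g : ZMod 2) = (co f (fun _ => 1) : ZMod 2) * (co g (fun _ => 1) : ZMod 2) := by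
  classical
  have := Fintype.ofFinite (Cfsg.IrrCharacter G)
  obtain ⟨a, ha, ea, -⟩ := gen_coeff hf
  obtain ⟨b, hb, -, -⟩ := gen_coeff hg
  have hval : co f g = ∑ χ, a χ * b χ := by
    refine co_eq_of_classInner ?_
    nth_rewrite 1 [ea]
    rw [Characters.Basic.classInner_sum_left]
    push_cast
    refine Finset.sum_congr rfl fun χ _ => ?_
    rw [classInner_smul_left, ← classInner_gen_comm hg (gen_of_irr χ.2), hb]
  set o : Cfsg.IrrCharacter G := Characters.Basic.oneChar G with ho
  have e1 : co f (fun _ => 1) = a o := co_eq_of_classInner (ha o)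
  have e2 : co g (fun _ => 1) = b o := co_eq_of_classInner (hb o)
  rw [hval, e1, e2, Int.cast_sum, ← Finset.add_sum_erase _ _ (Finset.mem_univ o), Int.cast_mul,
    add_eq_left]
  let σ : Cfsg.IrrCharacter G → Cfsg.IrrCharacter G := fun χ => ⟨_, conjFun_irr χ.2⟩
  have hσ2 : ∀ χ, σ (σ χ) = χ := fun χ => Subtype.ext (conjFun_conjFun _)
  have hσo : σ o = o := Subtype.ext (funext fun x => by
    simp [σ, o, Cfsg.conjFun, Characters.Basic.oneChar_apply])
  have inv : ∀ (h : G → ℂ) (c : Cfsg.IrrCharacter G → ℤ), Cfsg.conjFun h = h →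
      (∀ χ : Cfsg.IrrCharacter G, Cfsg.classInner h (χ : G → ℂ) = c χ) → ∀ χ, c (σ χ) = c χ := by
    intro h c hr hc χ
    have := hc (σ χ)
    rw [show ((σ χ : Cfsg.IrrCharacter G) : G → ℂ) = Cfsg.conjFun (χ : G → ℂ) from rfl, ← hr,
      classInner_conjFun, hc χ, map_intCast] at this
    exact_mod_cast this.symm
  refine Finset.sum_involution (fun χ _ => σ χ) (fun χ _ => ?_) (fun χ hχ _ => ?_)
    (fun χ hχ => ?_) (fun χ _ => hσ2 χ)
  · rw [inv f a hfr ha, inv g b hgr hb, ← two_mul,
      show (2 : ZMod 2) = 0 from by decide, zero_mul]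
  · intro h
    refine Finset.ne_of_mem_erase hχ (Characters.Indicator.eq_oneChar_of_real hodd χ fun x => ?_)
    exact Complex.conj_eq_iff_im.1 (congrFun (congrArg Subtype.val h) x)
  · refine Finset.mem_erase.2 ⟨fun h => Finset.ne_of_mem_erase hχ ?_, Finset.mem_univ _⟩
    rw [← hσ2 χ, h, hσo]

end Cfsg.Agent.Lib.OddOrder.PF14.Vec
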